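import Cfsg.Agent.Lib.CentralInter.Basic
import Mathlib.Algebra.BigOperators.Group.Finset.Basic

/-!
# Averaging over a group acting with odd index kernel, and forms on a space of order eight
-/

set_option autoImplicit false
set_option linter.unusedSectionVars false
set_option linter.style.haveILetI false

namespace Cfsg.Agent.CentralInter

open Subgroup
open scoped commutatorElement

variable {G : Type*} [Group G] [Finite G]

/-- The trace of an abelian group under a group acting on it through a quotient of odd order. -/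
theorem exists_average (S : Sylow 2 G) (Γ A : Subgroup G) (hSΓ : (S : Subgroup G) ≤ Γ)
    (hΓ : Γ ≤ normalizer ((S : Subgroup G) : Set G))
    (hA : ∀ a ∈ A, ∀ b ∈ A, a * b = b * a) (hinv : ∀ n ∈ Γ, ∀ a ∈ A, n * a * n⁻¹ ∈ A)
    (hS : ∀ a ∈ A, ∀ s ∈ (S : Subgroup G), a * s = s * a) :
    ∃ (m : ℕ) (e : A →* A), Odd m ∧
      (∀ n ∈ Γ, ∀ a : A, n * (e a : G) * n⁻¹ = e a) ∧
      (∀ n (hn : n ∈ Γ) (a : A), e ⟨n * a * n⁻¹, hinv n hn a a.2⟩ = e a) ∧
      (∀ B : Subgroup G, ∀ a : A, (∀ n ∈ Γ, n * (a : G) * n⁻¹ * (a : G)⁻¹ ∈ B) →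
        (e a : G) * ((a : G) ^ m)⁻¹ ∈ B) := by
  classical
  haveI : Fact (Nat.Prime 2) := ⟨Nat.prime_two⟩
  letI : CommGroup A := { (inferInstance : Group A) with
    mul_comm := fun a b => Subtype.ext (hA a a.2 b b.2) }
  set T := (S : Subgroup G).subgroupOf Γ with hT
  letI : Fintype (Γ ⧸ T) := Fintype.ofFinite _
  let φ : Γ → A → A := fun n a => ⟨n * a * (n : G)⁻¹, hinv n n.2 a a.2⟩
  have hφmul : ∀ n a b, φ n (a * b) = φ n a * φ n b := fun n a b => Subtype.ext (by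
    show (n : G) * ((a : G) * b) * (n : G)⁻¹ = (n : G) * a * (n : G)⁻¹ * ((n : G) * b * (n : G)⁻¹)
    group)
  let e : A →* A :=
    { toFun := fun a => ∏ q : Γ ⧸ T, φ q.out a
      map_one' := Finset.prod_eq_one fun q _ => Subtype.ext (by
        show (q.out : G) * ((1 : A) : G) * (q.out : G)⁻¹ = 1
        simp)
      map_mul' := fun a b => by simp only [hφmul]; exact Finset.prod_mul_distrib }
  have hwd : ∀ (g : Γ) (a : A), φ ((g : Γ ⧸ T).out) a = φ g a := by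
    intro g a
    obtain ⟨⟨s, hs⟩, he⟩ := QuotientGroup.mk_out_eq_mul T g
    refine Subtype.ext ?_
    show (((g : Γ ⧸ T).out : Γ) : G) * a * ((((g : Γ ⧸ T).out : Γ) : G))⁻¹ = _
    rw [he]
    have hc := hS a a.2 s (mem_subgroupOf.1 hs)
    show (g : G) * (s : G) * a * ((g : G) * (s : G))⁻¹ = (g : G) * a * (g : G)⁻¹
    rw [mul_assoc (g : G) (s : G) (a : G), ← hc]
    group
  have hfix : ∀ (n : Γ) (a : A), φ n (e a) = e a := by
    intro n a
    let c : A →* A := { toFun := φ n, map_one' := Subtype.ext (by show (n : G) * ((1 : A) : G) * (n : G)⁻¹ = 1; simp), map_mul' := hφmul n }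
    show c (∏ q : Γ ⧸ T, φ q.out a) = _
    rw [map_prod]
    refine Fintype.prod_equiv (MulAction.toPerm n) _ _ fun q => ?_
    obtain ⟨g, rfl⟩ := QuotientGroup.mk_surjective q
    rw [show (MulAction.toPerm n) (g : Γ ⧸ T) = ((n * g : Γ) : Γ ⧸ T) from rfl, hwd, hwd]
    refine Subtype.ext ?_
    show (n : G) * ((g : G) * a * (g : G)⁻¹) * (n : G)⁻¹ = ((n : G) * g) * a * ((n : G) * g)⁻¹
    group
  refine ⟨T.index, e, ?_, fun n hn a => congrArg Subtype.val (hfix ⟨n, hn⟩ a), fun n hn a => ?_,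
    fun B a hB => ?_⟩
  · rw [← Nat.not_even_iff_odd, even_iff_two_dvd]
    intro h2
    exact S.not_dvd_index (h2.trans (Subgroup.relIndex_dvd_index_of_le hSΓ))
  · -- conjugating the argument only permutes the factors
    haveI : T.Normal := ⟨fun x hx g => mem_subgroupOf.2
      (conj_mem_of_normalizer (hΓ g.2) (mem_subgroupOf.1 hx))⟩
    show (∏ q : Γ ⧸ T, φ q.out (φ ⟨n, hn⟩ a)) = ∏ q : Γ ⧸ T, φ q.out a
    refine Fintype.prod_equiv (Equiv.mulRight ((⟨n, hn⟩ : Γ) : Γ ⧸ T)) _ _ fun q => ?_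
    obtain ⟨g, rfl⟩ := QuotientGroup.mk_surjective q
    rw [show Equiv.mulRight ((⟨n, hn⟩ : Γ) : Γ ⧸ T) (g : Γ ⧸ T) = ((g * ⟨n, hn⟩ : Γ) : Γ ⧸ T) from rfl,
      hwd, hwd]
    refine Subtype.ext ?_
    show (g : G) * (n * a * n⁻¹) * (g : G)⁻¹ = (g : G) * n * a * ((g : G) * n)⁻¹
    group
  · show ((∏ q : Γ ⧸ T, φ q.out a : A) : G) * _ ∈ B
    have : (∏ q : Γ ⧸ T, φ q.out a) = a ^ T.index * ∏ q : Γ ⧸ T, (a⁻¹ * φ q.out a) := by
      rw [Finset.prod_mul_distrib, Finset.prod_const, Finset.card_univ, ← Nat.card_eq_fintype_card,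
        ← Subgroup.index_eq_card, inv_pow, ← mul_assoc, mul_inv_cancel, one_mul]
    rw [this, mul_comm, Subgroup.coe_mul, Subgroup.coe_pow, mul_inv_cancel_right]
    have hmem : (∏ q : Γ ⧸ T, (a⁻¹ * φ q.out a)) ∈ B.subgroupOf A := prod_mem fun q _ => by
      rw [mem_subgroupOf, Subgroup.coe_mul, Subgroup.coe_inv]
      have := hB q.out q.out.2
      show (a : G)⁻¹ * ((q.out : G) * a * (q.out : G)⁻¹) ∈ B
      rwa [hA _ (inv_mem a.2) _ (hinv _ q.out.2 _ a.2)]
    exact mem_subgroupOf.1 hmem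

theorem bracket_mul_right {a b c : G} (h : b * ⁅a, c⁆ = ⁅a, c⁆ * b) : ⁅a, b * c⁆ = ⁅a, b⁆ * ⁅a, c⁆ := by
  calc ⁅a, b * c⁆ = ⁅a, b⁆ * (b * ⁅a, c⁆) * b⁻¹ := by simp only [commutatorElement_def]; group
    _ = _ := by rw [h]; group

/-- An alternating form invariant under a group transitive on the nonzero vectors of a space of
order eight vanishes: commutators modulo `W`. -/
theorem bracket_mem_of_transitive (P D W : Subgroup G) (hDP : D ≤ P) (hWD : W ≤ D)
    (hD : ∀ d ∈ D, ∀ p ∈ P, d * p = p * d) (hc : ∀ x ∈ P, ∀ y ∈ P, ⁅x, y⁆ ∈ D)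
    (hsq : ∀ p ∈ P, p * p ∈ D) (h8 : D.relIndex P = 8)
    (htr : ∀ x ∈ P, x ∉ D → ∀ y ∈ P, y ∉ D → ∃ n : G, (∀ p ∈ P, n * p * n⁻¹ ∈ P) ∧
      (∀ d ∈ D, n * d * n⁻¹ * d⁻¹ ∈ W) ∧ y⁻¹ * (n * x * n⁻¹) ∈ D) :
    ∀ a ∈ P, ∀ b ∈ P, ⁅a, b⁆ ∈ W := by
  classical
  haveI : Fact (Nat.Prime 2) := ⟨Nat.prime_two⟩
  intro a ha b hb
  by_contra hne
  set c := ⁅a, b⁆ with hc'
  obtain ⟨M, ⟨hWM, hMD, hcM⟩, hmax⟩ := (Set.toFinite
    {M : Subgroup G | W ≤ M ∧ M ≤ D ∧ c ∉ M}).exists_maximal ⟨W, le_rfl, hWD, hne⟩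
  have hswap : ∀ x ∈ P, ∀ y ∈ P, ∀ z ∈ P, x * ⁅y, z⁆ = ⁅y, z⁆ * x := fun x hx y hy z hz =>
    (hD _ (hc y hy z hz) x hx).symm
  have hmr : ∀ x ∈ P, ∀ y ∈ P, ∀ z ∈ P, ⁅x, y * z⁆ = ⁅x, y⁆ * ⁅x, z⁆ := fun x hx y hy z hz =>
    bracket_mul_right (hswap y hy x hx z hz)
  have hinv2 : ∀ x ∈ P, ∀ y ∈ P, ⁅x, y⁆ * ⁅x, y⁆ = 1 := fun x hx y hy => by
    rw [← hmr x hx y hy y hy, commutatorElement_eq_one_iff_commute]
    exact (hD _ (hsq y hy) x hx).symm
  have hsym : ∀ x ∈ P, ∀ y ∈ P, ⁅y, x⁆ = ⁅x, y⁆ := fun x hx y hy => by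
    rw [← commutatorElement_inv]
    exact inv_eq_of_mul_eq_one_right (hinv2 x hx y hy)
  have hml : ∀ x ∈ P, ∀ y ∈ P, ∀ z ∈ P, ⁅x * y, z⁆ = ⁅x, z⁆ * ⁅y, z⁆ := fun x hx y hy z hz => by
    rw [hsym z hz (x * y) (mul_mem hx hy), hmr z hz x hx y hy, hsym x hx z hz, hsym y hy z hz]
  have hwd : ∀ x ∈ P, ∀ y ∈ P, ∀ d ∈ D, ⁅x, y * d⁆ = ⁅x, y⁆ := fun x hx y hy d hd => by
    rw [hmr x hx y hy d (hDP hd), (commutatorElement_eq_one_iff_commute (g₁ := x) (g₂ := d)).2
      (hD d hd x hx).symm, mul_one]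
  -- two values outside `M` have their product inside
  have hdich : ∀ x ∈ P, ∀ y ∈ P, ∀ x' ∈ P, ∀ y' ∈ P, ⁅x, y⁆ ∉ M → ⁅x', y'⁆ ∉ M → ⁅x, y⁆ * ⁅x', y'⁆ ∈ M := by
    intro x hx y hy x' hx' y' hy' h1 h2
    have key : ∀ {x y : G}, x ∈ P → y ∈ P → ⁅x, y⁆ ∉ M → ⁅x, y⁆ * c ∈ M := by
      intro x y hx hy h
      set u := ⁅x, y⁆ with hu
      have hin : c ∈ M ⊔ zpowers u := by
        by_contra hcn
        exact h (hmax ⟨hWM.trans le_sup_left, sup_le hMD (zpowers_le.2 (hc x hx y hy)), hcn⟩ le_sup_left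
          (mem_sup_right (mem_zpowers u)))
      have hle : M ⊔ zpowers u ≤ centralizer ({u} : Set G) := sup_le
        (fun m hm => mem_centralizer_singleton_iff.2 (hD _ (hMD hm) u (hDP (hc x hx y hy))))
        (zpowers_le.2 (mem_centralizer_singleton_iff.2 rfl))
      have hu2 : ∀ k : ℤ, u ^ k = 1 ∨ u ^ k = u := fun k => by
        rcases Int.even_or_odd k with ⟨j, rfl⟩ | ⟨j, rfl⟩
        · left; rw [← two_mul, zpow_mul]
          rw [show u ^ (2 : ℤ) = u * u from zpow_two u, hinv2 x hx y hy, one_zpow]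
        · right; rw [zpow_add, zpow_mul, show u ^ (2 : ℤ) = u * u from zpow_two u, hinv2 x hx y hy,
            one_zpow, one_mul, zpow_one]
      have hn : zpowers u ≤ normalizer (M : Set G) := zpowers_le.2 (mem_normalizer_iff.2 fun m => by
        have hm : ∀ w ∈ M, u * w * u⁻¹ = w := fun w hw => by
          rw [← hD _ (hMD hw) u (hDP (hc x hx y hy)), mul_inv_cancel_right]
        refine ⟨fun hw => (hm m hw).symm ▸ hw, fun hw => ?_⟩
        have := hm _ hw
        rw [show u * (u * m * u⁻¹) * u⁻¹ = (u * u) * m * (u * u)⁻¹ by group, hinv2 x hx y hy, one_mul,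
          inv_one, mul_one] at this
        exact this ▸ hw)
      rw [← SetLike.mem_coe, Subgroup.coe_mul_of_right_le_normalizer_left M _ hn] at hin
      obtain ⟨m, hm, w, hw, hmw : m * w = c⟩ := hin
      obtain ⟨k, rfl⟩ := mem_zpowers_iff.1 hw
      rcases hu2 k with e | e <;> rw [e] at hmw
      · exact absurd (by rw [← hmw, mul_one]; exact hm) hcM
      · rw [← hmw, hD _ (hMD hm) u (hDP (hc x hx y hy)), ← mul_assoc, hinv2 x hx y hy, one_mul]
        exact hm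
    have e : ⁅x, y⁆ * ⁅x', y'⁆ = ⁅x, y⁆ * c * (⁅x', y'⁆ * c) := by
      have hc2 : c * c = 1 := hinv2 a ha b hb
      have := hD _ (hc x' hx' y' hy') c (hDP (hc a ha b hb))
      rw [this, mul_assoc, ← mul_assoc c c, hc2, one_mul]
    rw [e]
    exact mul_mem (key hx hy h1) (key hx' hy' h2)
  -- the vectors orthogonal to `x`
  let R : (x : G) → x ∈ P → Subgroup G := fun x hx =>
    { carrier := {p | p ∈ P ∧ ⁅x, p⁆ ∈ M}
      one_mem' := ⟨one_mem P, by rw [commutatorElement_one_right]; exact one_mem M⟩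
      mul_mem' := fun {p q} hp hq => ⟨mul_mem hp.1 hq.1, by
        rw [hmr x hx p hp.1 q hq.1]; exact mul_mem hp.2 hq.2⟩
      inv_mem' := fun {p} hp => ⟨inv_mem hp.1, by
        have h1 := hmr x hx p hp.1 p⁻¹ (inv_mem hp.1)
        rw [mul_inv_cancel, commutatorElement_one_right] at h1
        rw [eq_inv_of_mul_eq_one_right h1.symm]; exact inv_mem hp.2⟩ }
  have hRD : ∀ x (hx : x ∈ P), D ≤ R x hx := fun x hx d hd => ⟨hDP hd, by
    rw [(commutatorElement_eq_one_iff_commute (g₁ := x) (g₂ := d)).2 (hD d hd x hx).symm]; exact one_mem M⟩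
  have haD : a ∉ D := fun h => hne (by
    rw [hc', (commutatorElement_eq_one_iff_commute (g₁ := a) (g₂ := b)).2 (hD a h b hb)]; exact one_mem W)
  -- the quotient of order eight
  set D' := D.subgroupOf P with hD'
  haveI hDn : D'.Normal := ⟨fun d hd g => by
    have hdD : (d : G) ∈ D := hd
    have : (g * d * g⁻¹ : P) = d := Subtype.ext (by
      show (g : G) * d * (g : G)⁻¹ = d
      rw [← hD d hdD g g.2, mul_inv_cancel_right])
    rw [this]; exact hd⟩
  let a' : P := ⟨a, ha⟩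
  let b' : P := ⟨b, hb⟩
  have hcard : Nat.card (P ⧸ D') = 8 := h8
  have hexp : ∀ q : P ⧸ D', q * q = 1 := fun q => by
    obtain ⟨p, rfl⟩ := QuotientGroup.mk_surjective q
    rw [← QuotientGroup.mk_mul, QuotientGroup.eq_one_iff]
    exact hsq p p.2
  have hcard2 : ∀ q : P ⧸ D', Nat.card (zpowers q) ≤ 2 := fun q => by
    rw [Nat.card_zpowers]
    exact orderOf_le_of_pow_eq_one (by omega) (by rw [pow_two]; exact hexp q)
  have hqcomm : ∀ p q : P ⧸ D', p * q = q * p := fun p q => by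
    obtain ⟨p, rfl⟩ := QuotientGroup.mk_surjective p
    obtain ⟨q, rfl⟩ := QuotientGroup.mk_surjective q
    rw [← QuotientGroup.mk_mul, ← QuotientGroup.mk_mul, QuotientGroup.eq, mem_subgroupOf]
    show ((p : G) * q)⁻¹ * ((q : G) * p) ∈ D
    rw [show ((p : G) * q)⁻¹ * ((q : G) * p) = ⁅(q : G)⁻¹, (p : G)⁻¹⁆ by
      rw [commutatorElement_def]; group]
    exact hc _ (inv_mem q.2) _ (inv_mem p.2)
  have hprod : ∀ A B : Subgroup (P ⧸ D'), Nat.card ↥(A ⊔ B) ≤ Nat.card A * Nat.card B := fun A B => by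
    have hn : B ≤ normalizer (A : Set (P ⧸ D')) := fun g _ => mem_normalizer_iff.2 fun w => by
      rw [hqcomm g w, mul_inv_cancel_right]
    have := Set.natCard_mul_le (s := (A : Set (P ⧸ D'))) (t := (B : Set (P ⧸ D')))
    rw [← Subgroup.coe_mul_of_right_le_normalizer_left A B hn] at this
    exact this
  obtain ⟨v', hv'⟩ : ∃ v : P, (v : P ⧸ D') ∉ zpowers (a' : P ⧸ D') ⊔ zpowers (b' : P ⧸ D') := by
    by_contra hcon
    push Not at hcon
    have : zpowers (a' : P ⧸ D') ⊔ zpowers (b' : P ⧸ D') = ⊤ := eq_top_iff.2 fun q _ => by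
      obtain ⟨v, rfl⟩ := QuotientGroup.mk_surjective q; exact hcon v
    have h1 := hprod (zpowers (a' : P ⧸ D')) (zpowers (b' : P ⧸ D'))
    rw [this, Subgroup.card_top, hcard] at h1
    have := Nat.mul_le_mul (hcard2 (a' : P ⧸ D')) (hcard2 (b' : P ⧸ D'))
    omega
  set v : G := (v' : G) with hv
  have hvP : v ∈ P := v'.2
  -- the radical vector
  obtain ⟨α, hα, hα'⟩ : ∃ α : G, (α = 1 ∨ α = a) ∧ (⁅v, b⁆ * ⁅α, b⁆ ∈ M) := by
    by_cases h : ⁅v, b⁆ ∈ M
    · exact ⟨1, Or.inl rfl, by rw [commutatorElement_one_left, mul_one]; exact h⟩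
    · exact ⟨a, Or.inr rfl, hdich v hvP b hb a ha b hb h hcM⟩
  obtain ⟨β, hβ, hβ'⟩ : ∃ β : G, (β = 1 ∨ β = b) ∧ (⁅v, a⁆ * ⁅β, a⁆ ∈ M) := by
    by_cases h : ⁅v, a⁆ ∈ M
    · exact ⟨1, Or.inl rfl, by rw [commutatorElement_one_left, mul_one]; exact h⟩
    · exact ⟨b, Or.inr rfl, hdich v hvP a ha b hb a ha h (by rw [hsym a ha b hb]; exact hcM)⟩
  have hαP : α ∈ P := by rcases hα with rfl | rfl <;> [exact one_mem P; exact ha]
  have hβP : β ∈ P := by rcases hβ with rfl | rfl <;> [exact one_mem P; exact hb]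
  set x := v * α * β with hx
  have hxP : x ∈ P := mul_mem (mul_mem hvP hαP) hβP
  have hxa : a ∈ R x hxP := ⟨ha, by
    rw [hx, hml _ (mul_mem hvP hαP) β hβP a ha, hml v hvP α hαP a ha]
    rcases hα with rfl | rfl
    · rw [commutatorElement_one_left, mul_one]; exact hβ'
    · rw [commutatorElement_self, mul_one]; exact hβ'⟩
  have hxb : b ∈ R x hxP := ⟨hb, by
    rw [hx, hml _ (mul_mem hvP hαP) β hβP b hb, hml v hvP α hαP b hb]
    rcases hβ with rfl | rfl
    · rw [commutatorElement_one_left, mul_one]; exact hα'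
    · rw [commutatorElement_self, mul_one]; exact hα'⟩
  have hxD : x ∉ D := fun h => hv' (by
    have h1 : ((v' * ⟨α, hαP⟩ * ⟨β, hβP⟩ : P) : P ⧸ D') = 1 := (QuotientGroup.eq_one_iff _).2 h
    rw [QuotientGroup.mk_mul, QuotientGroup.mk_mul, mul_eq_one_iff_eq_inv, ← eq_mul_inv_iff_mul_eq] at h1
    rw [h1]
    refine mul_mem (inv_mem ?_) (inv_mem ?_)
    · rcases hβ with rfl | rfl
      · rw [show ((⟨1, hβP⟩ : P) : P ⧸ D') = 1 from rfl]; exact one_mem _
      · exact mem_sup_right (mem_zpowers _)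
    · rcases hα with rfl | rfl
      · rw [show ((⟨1, hαP⟩ : P) : P ⧸ D') = 1 from rfl]; exact one_mem _
      · exact mem_sup_left (mem_zpowers _))
  have hxv : v ∈ R x hxP := by
    have hxx : x ∈ R x hxP := ⟨hxP, by rw [commutatorElement_self]; exact one_mem M⟩
    have hαR : α ∈ R x hxP := by rcases hα with rfl | rfl <;> [exact one_mem _; exact hxa]
    have hβR : β ∈ R x hxP := by rcases hβ with rfl | rfl <;> [exact one_mem _; exact hxb]
    rw [show v = x * β⁻¹ * α⁻¹ by rw [hx]; group]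
    exact mul_mem (mul_mem hxx (inv_mem hβR)) (inv_mem hαR)
  have hRall : P ≤ R x hxP := by
    set R' := ((R x hxP).subgroupOf P).map (QuotientGroup.mk' D') with hR'
    have hbig : R' = ⊤ := by
      have hlt : zpowers (a' : P ⧸ D') ⊔ zpowers (b' : P ⧸ D') < R' := by
        refine lt_of_le_of_ne (sup_le (zpowers_le.2 (mem_map_of_mem _ (mem_subgroupOf.2 hxa)))
          (zpowers_le.2 (mem_map_of_mem _ (mem_subgroupOf.2 hxb)))) fun e => hv' ?_
        rw [e]; exact mem_map_of_mem _ (mem_subgroupOf.2 hxv)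
      have h4 : 4 ≤ Nat.card ↥(zpowers (a' : P ⧸ D') ⊔ zpowers (b' : P ⧸ D')) := by
        have hane : (a' : P ⧸ D') ≠ 1 := fun e => haD (mem_subgroupOf.1 ((QuotientGroup.eq_one_iff a').1 e))
        have hanb : (b' : P ⧸ D') ∉ zpowers (a' : P ⧸ D') := fun e => by
          obtain ⟨k, hk⟩ := mem_zpowers_iff.1 e
          rw [← QuotientGroup.mk_zpow, QuotientGroup.eq, mem_subgroupOf] at hk
          have := hwd a ha (a ^ k) (zpow_mem ha k) _ hk
          rw [show (((a' ^ k)⁻¹ * b' : P) : G) = (a ^ k)⁻¹ * b from rfl, mul_inv_cancel_left] at this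
          refine hne ?_
          rw [hc', this, (commutatorElement_eq_one_iff_commute (g₁ := a) (g₂ := a ^ k)).2
            ((Commute.refl a).zpow_right k)]
          exact one_mem W
        have h2 : 2 ≤ Nat.card (zpowers (a' : P ⧸ D')) := by
          haveI : Nontrivial (zpowers (a' : P ⧸ D')) :=
            ⟨⟨⟨_, mem_zpowers _⟩, 1, fun e => hane (congrArg Subtype.val e)⟩⟩
          exact Finite.one_lt_card
        have hlt2 : zpowers (a' : P ⧸ D') < zpowers (a' : P ⧸ D') ⊔ zpowers (b' : P ⧸ D') :=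
          lt_of_le_of_ne le_sup_left fun e => hanb (e ▸ mem_sup_right (mem_zpowers _))
        obtain ⟨k, hk⟩ := card_dvd_of_le hlt2.le
        have hk1 : k ≠ 1 := fun e => hlt2.ne (Subgroup.eq_of_le_of_card_ge hlt2.le (by rw [hk, e, mul_one]))
        have hk0 : k ≠ 0 := fun e => by rw [e, mul_zero] at hk; exact Nat.card_pos.ne' hk
        rw [hk]
        calc 4 = 2 * 2 := rfl
          _ ≤ _ := Nat.mul_le_mul h2 (by omega)
      refine Subgroup.eq_top_of_card_eq _ ?_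
      have hd := Subgroup.card_subgroup_dvd_card R'
      have hlt' : Nat.card ↥(zpowers (a' : P ⧸ D') ⊔ zpowers (b' : P ⧸ D')) < Nat.card R' := by
        refine lt_of_le_of_ne (Subgroup.card_le_of_le hlt.le) fun e => hlt.ne ?_
        exact Subgroup.eq_of_le_of_card_ge hlt.le e.ge
      rw [hcard] at hd ⊢
      have := Nat.le_of_dvd (by omega) hd
      interval_cases hh : Nat.card R' <;> omega
    intro p hp
    obtain ⟨r, hr, hre⟩ := hbig ▸ mem_top ((⟨p, hp⟩ : P) : P ⧸ D')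
    rw [QuotientGroup.mk'_apply, QuotientGroup.eq, mem_subgroupOf] at hre
    have := mul_mem (show (r : G) ∈ R x hxP from hr) (hRD x hxP hre)
    rwa [show (r : G) * ((r⁻¹ * ⟨p, hp⟩ : P) : G) = p from mul_inv_cancel_left _ _] at this
  -- transitivity spreads the radical to all vectors
  obtain ⟨n, hnP, hnW, hnx⟩ := htr x hxP hxD a ha haD
  have hmap : P.map (MulAut.conj n).toMonoidHom = P :=
    Subgroup.eq_of_le_of_card_ge (fun w ⟨p, hp, e⟩ => e ▸ hnP p hp)
      (Subgroup.card_map_of_injective (MulAut.conj n).injective).ge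
  obtain ⟨p, hp, hpb⟩ : b ∈ P.map (MulAut.conj n).toMonoidHom := hmap.symm ▸ hb
  have h1 : ⁅n * x * n⁻¹, b⁆ ∈ M := by
    rw [← hpb]
    show ⁅(MulAut.conj n).toMonoidHom x, (MulAut.conj n).toMonoidHom p⁆ ∈ M
    rw [← map_commutatorElement]
    have hm := hnW _ (hc x hxP p hp)
    have := mul_mem (hWM hm) (hRall hp).2
    rwa [inv_mul_cancel_right] at this
  refine hcM ?_
  have h2 : ⁅a * (a⁻¹ * (n * x * n⁻¹)), b⁆ = ⁅a, b⁆ := by
    rw [hml a ha _ (hDP hnx) b hb, (commutatorElement_eq_one_iff_commute (g₁ := a⁻¹ * (n * x * n⁻¹))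
      (g₂ := b)).2 (hD _ hnx b hb), mul_one]
  rw [mul_inv_cancel_left] at h2
  rw [hc', ← h2]
  exact h1

end Cfsg.Agent.CentralInter
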