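import Cfsg.Agent.S0215
import Cfsg.Agent.Lib.Involutions.Basic
import Mathlib.GroupTheory.Sylow

/-!
# Central Sylow 2-intersections: the working hypothesis

`S` is a Sylow 2-subgroup, `Z ≤ Z(S)` is invariant under `N(S)`, `S/Z` is not cyclic and each
element of `S` outside `Z` lies in no other Sylow 2-subgroup. The hypothesis passes to subgroups
containing `S` and to quotients whose kernel meets `S` inside `Z`.
-/

set_option autoImplicit false
set_option linter.unusedSectionVars false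
set_option linter.style.haveILetI false

namespace Cfsg.Agent.CentralInter

open Subgroup MulAction
open scoped Pointwise

universe u v

/-- The working hypothesis. -/
structure Hyp {G : Type u} [Group G] (S : Sylow 2 G) (Z : Subgroup G) : Prop where
  le : Z ≤ (S : Subgroup G)
  central : ∀ z ∈ Z, ∀ s ∈ (S : Subgroup G), z * s = s * z
  inv : ∀ n ∈ normalizer ((S : Subgroup G) : Set G), ∀ z ∈ Z, n * z * n⁻¹ ∈ Z
  noncyc : ∀ a ∈ (S : Subgroup G), ∃ s ∈ (S : Subgroup G), s ∉ zpowers a ⊔ Z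
  uniq : ∀ x ∈ (S : Subgroup G), x ∉ Z → ∀ T : Sylow 2 G, x ∈ (T : Subgroup G) → T = S

variable {G : Type u} [Group G]

theorem mem_smul_sylow {g x : G} {S : Sylow 2 G} :
    x ∈ ((g • S : Sylow 2 G) : Subgroup G) ↔ g⁻¹ * x * g ∈ (S : Subgroup G) := by
  rw [Sylow.coe_subgroup_smul, Subgroup.mem_pointwise_smul_iff_inv_smul_mem, MulAut.smul_def,
    MulAut.conj_inv_apply]

theorem conj_mem_smul {g x : G} {S : Sylow 2 G} (hx : x ∈ (S : Subgroup G)) :
    g * x * g⁻¹ ∈ ((g • S : Sylow 2 G) : Subgroup G) := by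
  rw [mem_smul_sylow]
  convert hx using 1
  group

/-- An element of a normalizer conjugates into the subgroup. -/
theorem conj_mem_of_normalizer {H : Subgroup G} {n x : G} (hn : n ∈ normalizer (H : Set G)) (hx : x ∈ H) :
    n * x * n⁻¹ ∈ H :=
  (mem_normalizer_iff.1 hn x).1 hx

namespace Hyp

variable {S : Sylow 2 G} {Z : Subgroup G} (h : Hyp S Z)
include h

theorem mem_Z {x : G} (hx : x ∈ (S : Subgroup G)) {T : Sylow 2 G} (hxT : x ∈ (T : Subgroup G))
    (hne : T ≠ S) : x ∈ Z :=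
  by_contra fun hxZ => hne (h.uniq x hx hxZ T hxT)

theorem exists_not_mem : ∃ s ∈ (S : Subgroup G), s ∉ Z := by
  obtain ⟨s, hs, hsZ⟩ := h.noncyc 1 (one_mem _)
  exact ⟨s, hs, fun hz => hsZ (mem_sup_right hz)⟩

theorem mem_normalizer_of_conj {x g : G} (hx : x ∈ (S : Subgroup G)) (hxZ : x ∉ Z)
    (hg : g * x * g⁻¹ ∈ (S : Subgroup G)) : g ∈ normalizer ((S : Subgroup G) : Set G) := by
  have h1 : x ∈ ((g⁻¹ • S : Sylow 2 G) : Subgroup G) := by
    rw [mem_smul_sylow, inv_inv]; exact hg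
  have := Sylow.smul_eq_iff_mem_normalizer.1 (h.uniq x hx hxZ _ h1)
  simpa using inv_mem this

theorem mem_normalizer_of_comm {x g : G} (hx : x ∈ (S : Subgroup G)) (hxZ : x ∉ Z)
    (hg : g * x = x * g) : g ∈ normalizer ((S : Subgroup G) : Set G) :=
  h.mem_normalizer_of_conj hx hxZ (by rw [hg, mul_inv_cancel_right]; exact hx)

theorem mem_Z_iff_conj {n x : G} (hn : n ∈ normalizer ((S : Subgroup G) : Set G)) :
    n * x * n⁻¹ ∈ Z ↔ x ∈ Z := by
  refine ⟨fun hx => ?_, h.inv n hn x⟩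
  have := h.inv n⁻¹ (inv_mem hn) _ hx
  rwa [show n⁻¹ * (n * x * n⁻¹) * n⁻¹⁻¹ = x by group] at this

/-- An element in two Sylow subgroups commutes with both. -/
theorem comm_of_mem {x : G} (hx : x ∈ (S : Subgroup G)) {T : Sylow 2 G} (hxT : x ∈ (T : Subgroup G))
    (hne : T ≠ S) [Finite G] : ∀ y ∈ (T : Subgroup G), x * y = y * x := by
  haveI : Fact (Nat.Prime 2) := ⟨Nat.prime_two⟩
  obtain ⟨g, rfl⟩ := MulAction.exists_smul_eq G S T
  intro y hy
  rw [mem_smul_sylow] at hxT hy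
  have hne' : (g⁻¹ • S : Sylow 2 G) ≠ S := fun e => hne (by
    conv_lhs => rw [← e]
    rw [smul_inv_smul])
  have hxS : g⁻¹ * x * g ∈ ((g⁻¹ • S : Sylow 2 G) : Subgroup G) := by
    have := conj_mem_smul (g := g⁻¹) hx
    rwa [inv_inv] at this
  have hz := h.central _ (h.mem_Z hxT hxS hne') _ hy
  calc x * y = g * ((g⁻¹ * x * g) * (g⁻¹ * y * g)) * g⁻¹ := by group
    _ = g * ((g⁻¹ * y * g) * (g⁻¹ * x * g)) * g⁻¹ := by rw [hz]
    _ = y * x := by group

/-- The normalizer of `S` controls fusion in `S`. -/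
theorem fusion [Finite G] {x g : G} (hx : x ∈ (S : Subgroup G)) (hg : g * x * g⁻¹ ∈ (S : Subgroup G)) :
    ∃ n ∈ normalizer ((S : Subgroup G) : Set G), n * x * n⁻¹ = g * x * g⁻¹ := by
  haveI : Fact (Nat.Prime 2) := ⟨Nat.prime_two⟩
  by_cases hxZ : x ∈ Z
  swap
  · exact ⟨g, h.mem_normalizer_of_conj hx hxZ hg, rfl⟩
  set y := g * x * g⁻¹ with hy
  by_cases hyZ : y ∈ Z
  swap
  · refine ⟨g, ?_, rfl⟩
    have := h.mem_normalizer_of_conj hg hyZ (g := g⁻¹) (by
      rw [hy, show g⁻¹ * (g * x * g⁻¹) * g⁻¹⁻¹ = x by group]; exact hx)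
    simpa using inv_mem this
  have hSC : (S : Subgroup G) ≤ centralizer ({y} : Set G) := fun s hs =>
    mem_centralizer_singleton_iff.2 (h.central y hyZ s hs).symm
  have hTC : ((g • S : Sylow 2 G) : Subgroup G) ≤ centralizer ({y} : Set G) := fun s hs => by
    rw [mem_smul_sylow] at hs
    rw [mem_centralizer_singleton_iff, hy]
    calc s * (g * x * g⁻¹) = g * ((g⁻¹ * s * g) * x) * g⁻¹ := by group
      _ = g * (x * (g⁻¹ * s * g)) * g⁻¹ := by rw [h.central x hxZ _ hs]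
      _ = g * x * g⁻¹ * s := by group
  obtain ⟨c, hc⟩ := MulAction.exists_smul_eq (centralizer ({y} : Set G)) ((g • S : Sylow 2 G).subtype hTC)
    (S.subtype hSC)
  rw [Sylow.smul_subtype] at hc
  have hcS : (c : G) • g • S = S := Sylow.subtype_injective hc
  rw [← mul_smul] at hcS
  refine ⟨c * g, Sylow.smul_eq_iff_mem_normalizer.1 hcS, ?_⟩
  have hcy := mem_centralizer_singleton_iff.1 c.2
  calc (c : G) * g * x * ((c : G) * g)⁻¹ = (c : G) * (g * x * g⁻¹) * (c : G)⁻¹ := by group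
    _ = y := by rw [← hy, hcy, mul_inv_cancel_right]

/-- An involution of `S` fixed by `N(S)` is central modulo the odd core. -/
theorem comm_mem_oddCore [Finite G] {c : G} (hc : c ∈ (S : Subgroup G)) (hc2 : orderOf c = 2)
    (hfix : ∀ n ∈ normalizer ((S : Subgroup G) : Set G), n * c * n⁻¹ = c) (g : G) :
    c * g * c⁻¹ * g⁻¹ ∈ Cfsg.oddCore G := by
  obtain ⟨N, hN, hodd, hcomm⟩ := Cfsg.Agent.S0215.result S c hc2 hc fun k hk => by
    obtain ⟨n, hn, e⟩ := h.fusion hc hk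
    rw [← e]; exact hfix n hn
  exact (le_sSup ⟨hN, Nat.coprime_two_right.mpr hodd⟩ : N ≤ Cfsg.oddCore G) (hcomm g)

theorem mem_center_of_fixed [Finite G] (hO : Cfsg.oddCore G = ⊥) {c : G} (hc : c ∈ (S : Subgroup G))
    (hc2 : orderOf c = 2) (hfix : ∀ n ∈ normalizer ((S : Subgroup G) : Set G), n * c * n⁻¹ = c) :
    c ∈ center G := by
  rw [mem_center_iff]
  intro g
  have := h.comm_mem_oddCore hc hc2 hfix g
  rw [hO, mem_bot, mul_inv_eq_one, mul_inv_eq_iff_eq_mul] at this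
  exact this.symm

/-- Inheritance by a subgroup containing `S`. -/
theorem restrict [Finite G] (H : Subgroup G) (hH : (S : Subgroup G) ≤ H) :
    Hyp (S.subtype hH) (Z.subgroupOf H) := by
  haveI : Fact (Nat.Prime 2) := ⟨Nat.prime_two⟩
  refine ⟨fun x hx => ?_, fun z hz s hs => ?_, fun n hn z hz => ?_, fun a ha => ?_, fun x hx hxZ T hT => ?_⟩
  · rw [Sylow.coe_subtype, mem_subgroupOf]; exact h.le hx
  · rw [Sylow.coe_subtype, mem_subgroupOf] at hs
    exact Subtype.ext (h.central _ hz _ hs)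
  · rw [mem_subgroupOf]
    refine h.inv _ (mem_normalizer_iff.2 fun y => ⟨fun hy => ?_, fun hy => ?_⟩) _ hz
    · have := (mem_normalizer_iff.1 hn ⟨y, hH hy⟩).1 (by rw [Sylow.coe_subtype, mem_subgroupOf]; exact hy)
      rw [Sylow.coe_subtype, mem_subgroupOf] at this
      exact this
    · have hyH : y ∈ H := by
        have := H.mul_mem (H.mul_mem (H.inv_mem n.2) (hH hy)) n.2
        simpa [mul_assoc] using this
      have := (mem_normalizer_iff.1 hn ⟨y, hyH⟩).2 (by rw [Sylow.coe_subtype, mem_subgroupOf]; exact hy)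
      rw [Sylow.coe_subtype, mem_subgroupOf] at this
      exact this
  · rw [Sylow.coe_subtype, mem_subgroupOf] at ha
    obtain ⟨s, hs, hsn⟩ := h.noncyc a ha
    refine ⟨⟨s, hH hs⟩, by rw [Sylow.coe_subtype, mem_subgroupOf]; exact hs, fun hmem => hsn ?_⟩
    have := mem_map_of_mem H.subtype hmem
    rw [Subgroup.map_sup, MonoidHom.map_zpowers] at this
    have hle : (Z.subgroupOf H).map H.subtype ≤ Z := by rintro _ ⟨w, hw, rfl⟩; exact mem_subgroupOf.1 hw
    exact sup_le_sup_left hle _ this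
  · rw [Sylow.coe_subtype, mem_subgroupOf] at hx
    have hxZ' : (x : G) ∉ Z := fun e => hxZ (mem_subgroupOf.2 e)
    obtain ⟨T', hT'⟩ := (T.isPGroup'.map H.subtype).exists_le_sylow
    have e := h.uniq x hx hxZ' T' (hT' (mem_map_of_mem H.subtype hT))
    subst e
    refine Sylow.ext (T.is_maximal' (T'.subtype hH).isPGroup' fun y hy => ?_).symm
    rw [Sylow.coe_subtype, mem_subgroupOf]
    exact hT' (mem_map_of_mem H.subtype hy)

/-- Inheritance by quotients whose kernel meets `S` in `Z`. -/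
theorem map [Finite G] {Q : Type v} [Group Q] (f : G →* Q) (hf : Function.Surjective f)
    (hK : ∀ x ∈ (S : Subgroup G), f x = 1 → x ∈ Z) : Hyp (S.mapSurjective hf) (Z.map f) := by
  haveI : Fact (Nat.Prime 2) := ⟨Nat.prime_two⟩
  haveI : Finite Q := Finite.of_surjective f hf
  have hmem : ∀ {y : Q}, y ∈ ((S.mapSurjective hf : Sylow 2 Q) : Subgroup Q) ↔
      ∃ x ∈ (S : Subgroup G), f x = y := by
    intro y; rw [Sylow.coe_mapSurjective, mem_map]
  refine ⟨fun y hy => ?_, fun z hz s hs => ?_, fun n hn z hz => ?_, fun a ha => ?_, fun y hy hyZ T hT => ?_⟩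
  · obtain ⟨x, hx, rfl⟩ := hy; exact hmem.2 ⟨x, h.le hx, rfl⟩
  · obtain ⟨x, hx, rfl⟩ := hz
    obtain ⟨y, hy, rfl⟩ := hmem.1 hs
    rw [← map_mul, ← map_mul, h.central x hx y hy]
  · obtain ⟨x, hx, rfl⟩ := hz
    obtain ⟨m, rfl⟩ := hf n
    -- replace `m` by an element normalising `S`
    set P := ((S.mapSurjective hf : Sylow 2 Q) : Subgroup Q).comap f with hP
    have hSP : (S : Subgroup G) ≤ P := fun s hs => hmem.2 ⟨s, hs, rfl⟩
    have hmSP : ((m • S : Sylow 2 G) : Subgroup G) ≤ P := fun s hs => by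
      rw [mem_smul_sylow] at hs
      have := (mem_normalizer_iff.1 hn (f (m⁻¹ * s * m))).1 (hmem.2 ⟨_, hs, rfl⟩)
      rw [← map_inv, ← map_mul, ← map_mul, show m * (m⁻¹ * s * m) * m⁻¹ = s by group] at this
      exact this
    obtain ⟨k, hk⟩ := MulAction.exists_smul_eq P ((m • S : Sylow 2 G).subtype hmSP) (S.subtype hSP)
    rw [Sylow.smul_subtype] at hk
    have hkS : (k : G) • m • S = S := Sylow.subtype_injective hk
    rw [← mul_smul] at hkS
    obtain ⟨s, hs, hse⟩ := hmem.1 (show f (k : G) ∈ ((S.mapSurjective hf : Sylow 2 Q) : Subgroup Q) from k.2)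
    have hw := h.inv _ (Sylow.smul_eq_iff_mem_normalizer.1 hkS) x hx
    refine ⟨(k : G) * m * x * ((k : G) * m)⁻¹, hw, ?_⟩
    have hc := congrArg f (h.central _ hw s hs)
    simp only [map_mul, map_inv, hse] at hc ⊢
    calc f k * f m * f x * (f k * f m)⁻¹ = (f k)⁻¹ * (f k * (f k * f m * f x * (f k * f m)⁻¹)) := by group
      _ = (f k)⁻¹ * (f k * f m * f x * (f k * f m)⁻¹ * f k) := by rw [hc]
      _ = f m * f x * (f m)⁻¹ := by group
  · obtain ⟨a₀, ha₀, rfl⟩ := hmem.1 ha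
    obtain ⟨s, hs, hsn⟩ := h.noncyc a₀ ha₀
    refine ⟨f s, hmem.2 ⟨s, hs, rfl⟩, fun hmem' => hsn ?_⟩
    rw [← MonoidHom.map_zpowers, ← Subgroup.map_sup, mem_map] at hmem'
    obtain ⟨w, hw, hwe⟩ := hmem'
    have hwS : w ∈ (S : Subgroup G) := sup_le (zpowers_le.2 ha₀) h.le hw
    have hk := hK (w⁻¹ * s) (mul_mem (inv_mem hwS) hs) (by rw [map_mul, map_inv, hwe, inv_mul_cancel])
    rw [← mul_inv_cancel_left w s]
    exact mul_mem hw (mem_sup_right hk)
  · obtain ⟨x, hx, rfl⟩ := hmem.1 hy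
    have hxZ : x ∉ Z := fun e => hyZ (mem_map_of_mem f e)
    obtain ⟨U, rfl⟩ := Sylow.mapSurjective_surjective hf 2 T
    rw [Sylow.coe_mapSurjective] at hT
    set P := ((U : Subgroup G).map f).comap f with hP
    have hUP : (U : Subgroup G) ≤ P := fun u hu => mem_map_of_mem f hu
    have hxp : IsPGroup 2 ↥((zpowers x).subgroupOf P) :=
      (S.isPGroup'.to_le (zpowers_le.2 hx)).comap_of_injective P.subtype P.subtype_injective
    obtain ⟨W, hW⟩ := hxp.exists_le_sylow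
    obtain ⟨p, hp⟩ := MulAction.exists_smul_eq P (U.subtype hUP) W
    have hxW : (⟨x, hT⟩ : P) ∈ (W : Subgroup P) := hW (mem_subgroupOf.2 (mem_zpowers x))
    rw [← hp, Sylow.smul_subtype] at hxW
    have e : (p : G) • U = S := h.uniq x hx hxZ _ (mem_subgroupOf.1 hxW)
    rw [← e]
    apply Sylow.ext
    rw [Sylow.coe_mapSurjective, Sylow.coe_mapSurjective]
    obtain ⟨u, hu, hue⟩ := mem_map.1 (show f (p : G) ∈ (U : Subgroup G).map f from p.2)
    ext q
    simp only [mem_map, mem_smul_sylow]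
    constructor
    · rintro ⟨w, hw, rfl⟩
      refine ⟨(p : G) * (u⁻¹ * w * u) * (p : G)⁻¹, ?_, ?_⟩
      · rw [show (p : G)⁻¹ * ((p : G) * (u⁻¹ * w * u) * (p : G)⁻¹) * p = u⁻¹ * w * u by group]
        exact mul_mem (mul_mem (inv_mem hu) hw) hu
      · simp only [map_mul, map_inv, hue]; group
    · rintro ⟨w, hw, rfl⟩
      refine ⟨u * ((p : G)⁻¹ * w * p) * u⁻¹, mul_mem (mul_mem hu hw) (inv_mem hu), ?_⟩
      simp only [map_mul, map_inv, hue]; group

end Hyp

end Cfsg.Agent.CentralInter
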