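import Cfsg.Agent.Lib.CentralInter.Defs
import Cfsg.Agent.Lib.Transfer.Basic
import Mathlib.GroupTheory.SchurZassenhaus

/-!
# Groups without odd quotients: quotients and cores
-/

set_option autoImplicit false
set_option linter.unusedSectionVars false
set_option linter.style.haveILetI false

namespace Cfsg.Agent.CentralInter

open Subgroup

universe u v

variable {G : Type u} [Group G] [Finite G]

/-- A normal subgroup of odd index contains every 2-subgroup. -/
theorem le_of_odd_index {L P : Subgroup G} [L.Normal] (hL : Odd L.index) (hP : IsPGroup 2 P) : P ≤ L := by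
  haveI : Fact (Nat.Prime 2) := ⟨Nat.prime_two⟩
  intro x hx
  rw [← QuotientGroup.eq_one_iff, ← orderOf_eq_one_iff]
  obtain ⟨j, hj⟩ := IsPGroup.iff_orderOf.1 hP ⟨x, hx⟩
  rw [Subgroup.orderOf_mk] at hj
  refine Nat.eq_one_of_dvd_coprimes (a := 2 ^ j) ?_ ?_ (orderOf_dvd_natCard _)
  · exact Nat.Coprime.pow_left j (Nat.coprime_two_left.2 hL)
  · exact hj ▸ orderOf_map_dvd (QuotientGroup.mk' L) x

/-- The whole group is the only normal subgroup containing a Sylow 2-subgroup. -/
theorem NoOddQuot.eq_top (hgen : NoOddQuot G) {L : Subgroup G} (hn : L.Normal) (S : Sylow 2 G)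
    (hS : (S : Subgroup G) ≤ L) : L = ⊤ := by
  haveI : Fact (Nat.Prime 2) := ⟨Nat.prime_two⟩
  refine hgen L hn ?_
  rw [← Nat.not_even_iff_odd, even_iff_two_dvd]
  exact fun h => S.not_dvd_index (h.trans (Subgroup.index_dvd_of_le hS))

theorem NoOddQuot.map {Q : Type v} [Group Q] (hgen : NoOddQuot G) (f : G →* Q) (hf : Function.Surjective f) :
    NoOddQuot Q := by
  intro L hn hL
  have h := hgen (L.comap f) (hn.comap f) (by rwa [L.index_comap_of_surjective hf])
  rw [← Subgroup.map_comap_eq_self_of_surjective hf L, h, Subgroup.map_top_of_surjective f hf]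

/-- The group without odd quotients centralises a normal subgroup centralised by `S`. -/
theorem NoOddQuot.le_center (hgen : NoOddQuot G) (S : Sylow 2 G) {N : Subgroup G} (hn : N.Normal)
    (h : N ≤ centralizer ((S : Subgroup G) : Set G)) : N ≤ center G := by
  haveI := hn
  have htop := hgen.eq_top (L := centralizer (N : Set G)) inferInstance S (fun s hs =>
    mem_centralizer_iff.2 fun x hx => ((mem_centralizer_iff.1 (h hx)) s hs).symm)
  intro x hx
  rw [mem_center_iff]
  intro g
  exact (mem_centralizer_iff.1 (htop.ge (mem_top g)) x hx).symm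

theorem oddCore_quotient (G : Type u) [Group G] [Finite G] :
    Cfsg.oddCore (G ⧸ Cfsg.oddCore G) = ⊥ := by
  haveI : Fact (Nat.Prime 2) := ⟨Nat.prime_two⟩
  exact PBasic.pPrimeCore_quotient_pPrimeCore 2 G

theorem le_oddCore {N : Subgroup G} (hn : N.Normal) (hodd : Odd (Nat.card N)) : N ≤ Cfsg.oddCore G :=
  le_sSup ⟨hn, Nat.coprime_two_right.mpr hodd⟩

theorem odd_card_oddCore : Odd (Nat.card (Cfsg.oddCore G)) := by
  haveI : Fact (Nat.Prime 2) := ⟨Nat.prime_two⟩
  exact Nat.coprime_two_right.1 (Cfsg.Agent.FittingCores.pPrimeCore_coprime 2)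

/-- A central 2-subgroup does not change a trivial odd core. -/
theorem oddCore_quotient_central (hO : Cfsg.oddCore G = ⊥) (R : Subgroup G) [R.Normal] (hR : IsPGroup 2 R)
    (hRc : R ≤ center G) : Cfsg.oddCore (G ⧸ R) = ⊥ := by
  haveI : Fact (Nat.Prime 2) := ⟨Nat.prime_two⟩
  set f := QuotientGroup.mk' R with hf
  set M := (Cfsg.oddCore (G ⧸ R)).comap f with hM
  have hOn : (Cfsg.oddCore (G ⧸ R)).Normal := inferInstance
  haveI : M.Normal := hOn.comap f
  have hRM : R ≤ M := fun r hr => by
    rw [hM, mem_comap, hf, QuotientGroup.mk'_apply, (QuotientGroup.eq_one_iff r).2 hr]; exact one_mem _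
  set m := Nat.card (Cfsg.oddCore (G ⧸ R)) with hm
  have hmodd : Odd m := odd_card_oddCore
  have hidx : (R.subgroupOf M).index = m := by
    show R.relIndex M = m
    have h1 := Subgroup.relIndex_mul_index hRM
    have h2 : M.index = (Cfsg.oddCore (G ⧸ R)).index :=
      (Cfsg.oddCore (G ⧸ R)).index_comap_of_surjective (QuotientGroup.mk'_surjective R)
    have h3 := (Cfsg.oddCore (G ⧸ R)).card_mul_index
    rw [h2, show R.index = Nat.card (G ⧸ R) from rfl, ← h3] at h1
    exact Nat.eq_of_mul_eq_mul_right (Nat.pos_of_ne_zero Subgroup.index_ne_zero_of_finite) h1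
  obtain ⟨k, hk⟩ := IsPGroup.iff_card.1 hR
  have hcop : (Nat.card (R.subgroupOf M)).Coprime (R.subgroupOf M).index := by
    rw [hidx, Nat.card_congr (subgroupOfEquivOfLe hRM).toEquiv, hk]
    exact Nat.Coprime.pow_left k (Nat.coprime_two_left.2 hmodd)
  obtain ⟨C, hC⟩ := Subgroup.exists_right_complement'_of_coprime hcop
  have hCcard : Nat.card C = m := by rw [← hidx, hC.symm.index_eq_card]
  have hiff : ∀ x : M, x ∈ C ↔ x ^ m = 1 := by
    intro x
    refine ⟨fun hx => ?_, fun hx => ?_⟩
    · rw [← hCcard]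
      exact congrArg Subtype.val (pow_card_eq_one' (x := (⟨x, hx⟩ : C)))
    · obtain ⟨⟨r, c⟩, rfl⟩ := hC.existsUnique x |>.exists
      have hcomm : Commute (r : M) (c : M) := Subtype.ext
        ((mem_center_iff.1 (hRc (mem_subgroupOf.1 r.2)) _).symm)
      have h1 : ((c : M)) ^ m = 1 := by
        rw [← hCcard]; exact congrArg Subtype.val (pow_card_eq_one' (x := c))
      rw [hcomm.mul_pow, h1, mul_one] at hx
      have h2 : orderOf (r : M) ∣ 2 ^ k := by
        rw [Subgroup.orderOf_coe, ← hk, ← Nat.card_congr (subgroupOfEquivOfLe hRM).toEquiv]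
        exact orderOf_dvd_natCard r
      have h3 : orderOf (r : M) = 1 := Nat.eq_one_of_dvd_coprimes
        (Nat.Coprime.pow_left k (Nat.coprime_two_left.2 hmodd)) h2 (orderOf_dvd_of_pow_eq_one hx)
      rw [orderOf_eq_one_iff] at h3
      rw [show ((r, c).1 : M) = 1 from h3, one_mul]
      exact c.2
  have hCn : (C.map M.subtype).Normal := ⟨by
    rintro _ ⟨x, hx, rfl⟩ g
    refine ⟨⟨g * x * g⁻¹, (inferInstance : M.Normal).conj_mem _ x.2 g⟩, (hiff _).2 ?_, rfl⟩
    refine Subtype.ext ?_
    show (g * (x : G) * g⁻¹) ^ m = 1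
    rw [conj_pow, show (x : G) ^ m = ((x ^ m : M) : G) from rfl, (hiff x).1 hx]
    simp⟩
  have hC0 := le_oddCore hCn (by
    rw [Subgroup.card_map_of_injective M.subtype_injective, hCcard]; exact hmodd)
  rw [hO, le_bot_iff, Subgroup.map_eq_bot_iff_of_injective _ M.subtype_injective] at hC0
  refine Subgroup.eq_bot_of_card_eq _ ?_
  rw [← hm, ← hCcard, hC0, Subgroup.card_bot]

/-- The 2-core in a Sylow subgroup of a group modulo its largest normal 2-subgroup. -/
theorem normalCore_mapSurjective {Q : Type v} [Group Q] (S : Sylow 2 G) (f : G →* Q)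
    (hf : Function.Surjective f) (hker : f.ker = (S : Subgroup G).normalCore) [Fact (Nat.Prime 2)] :
    ((S.mapSurjective hf : Sylow 2 Q) : Subgroup Q).normalCore = ⊥ := by
  rw [Sylow.coe_mapSurjective, eq_bot_iff]
  intro q hq
  obtain ⟨g, rfl⟩ := hf q
  have hle : (((S : Subgroup G).map f).normalCore).comap f ≤ (S : Subgroup G) := by
    intro x hx
    obtain ⟨s, hs, hse⟩ := Subgroup.normalCore_le _ (mem_comap.1 hx)
    have : s⁻¹ * x ∈ f.ker := by rw [MonoidHom.mem_ker, map_mul, map_inv, hse, inv_mul_cancel]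
    have := mul_mem hs (Subgroup.normalCore_le _ (hker.le this))
    rwa [mul_inv_cancel_left] at this
  have hn : ((((S : Subgroup G).map f).normalCore).comap f).Normal := (inferInstance : (((S : Subgroup G).map f).normalCore).Normal).comap f
  have := hker.ge ((Subgroup.normal_le_normalCore.2 hle) (mem_comap.2 hq))
  exact mem_bot.2 this

end Cfsg.Agent.CentralInter
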