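import Cfsg.Agent.Lib.CentralInter.OLemma
import Cfsg.Agent.Lib.CentralInter.Average
import Cfsg.Agent.Lib.CentralInter.Reduce
import Cfsg.Agent.Lib.Involutions.SwapCount
import Cfsg.Agent.S0208

/-!
# No two Sylow 2-subgroups of a reduced group share an involution

The intersection `D` of two Sylow 2-subgroups with a common involution is the same for all those
inside `S`; an involution outside it and the dihedral trick put the class of an involution of `D`
inside `D`.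
-/

set_option autoImplicit false
set_option linter.unusedSectionVars false
set_option linter.style.haveILetI false

namespace Cfsg.Agent.CentralInter

open Subgroup
open scoped commutatorElement

universe u

variable {G : Type u} [Group G] [Finite G] {S : Sylow 2 G} {Z D : Subgroup G}

/-- An element of `S` that is an involution modulo `D`. -/
def DInv (S : Sylow 2 G) (D : Subgroup G) (x : G) : Prop :=
  x ∈ (S : Subgroup G) ∧ x ∉ D ∧ x * x ∈ D

/-- The properties of the intersection `D` of `S` with another Sylow subgroup. -/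
structure Local (S : Sylow 2 G) (Z D : Subgroup G) : Prop where
  le : D ≤ Z
  wit : ∃ T : Sylow 2 G, T ≠ S ∧ D ≤ (T : Subgroup G)
  ti : ∀ T : Sylow 2 G, T ≠ S → ∀ d ∈ D, d ≠ 1 → d ∈ (T : Subgroup G) →
    (S : Subgroup G) ⊓ (T : Subgroup G) = D
  move : ∀ x y : G, DInv S D x → DInv S D y → ∃ n ∈ normalizer ((S : Subgroup G) : Set G),
    (∀ d ∈ D, n * d * n⁻¹ = d) ∧ y⁻¹ * (n * x * n⁻¹) ∈ D
  two : ∃ x y : G, DInv S D x ∧ DInv S D y ∧ x⁻¹ * y ∉ D
  invol_central : ∀ x : G, DInv S D x → ∀ s ∈ (S : Subgroup G), ⁅x, s⁆ ∈ D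
  kind : (∀ x ∈ (S : Subgroup G), x * x ∈ D) ∨
    ∃ x ∈ ⁅(S : Subgroup G), (S : Subgroup G)⁆, x ∉ D ∧ x * x ∈ D
  cover : ⁅(S : Subgroup G), (S : Subgroup G)⁆ ⊓ D = ⊥ ∨ D.relIndex (S : Subgroup G) = 4 ∨
    ∃ P : Subgroup G, P ≤ (S : Subgroup G) ∧ D ≤ P ∧ D.relIndex P = 8 ∧ P.relIndex (S : Subgroup G) = 8 ∧
      (∀ p ∈ P, p * p ∈ D ∧ ∀ s ∈ (S : Subgroup G), ⁅p, s⁆ ∈ D) ∧
      ∀ x ∈ (S : Subgroup G), x * x ∈ P ∧ (x * x ∈ D → x ∈ P)

/-- The involutions of `Z` in the commutator subgroup of `S`, with the identity. -/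
def wSub (h : Hyp S Z) : Subgroup G where
  carrier := {x | x ∈ ⁅(S : Subgroup G), (S : Subgroup G)⁆ ∧ x ∈ Z ∧ x * x = 1}
  one_mem' := ⟨one_mem _, one_mem _, one_mul 1⟩
  mul_mem' := fun {x y} hx hy => ⟨mul_mem hx.1 hy.1, mul_mem hx.2.1 hy.2.1, by
    calc x * y * (x * y) = x * (y * x) * y := by group
      _ = x * (x * y) * y := by rw [h.central y hy.2.1 x (h.le hx.2.1)]
      _ = x * x * (y * y) := by group
      _ = 1 := by rw [hx.2.2, hy.2.2, one_mul]⟩
  inv_mem' := fun {x} hx => ⟨inv_mem hx.1, inv_mem hx.2.1, by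
    rw [← mul_inv_rev, hx.2.2, inv_one]⟩

theorem conj_wSub (h : Hyp S Z) {n w : G} (hn : n ∈ normalizer ((S : Subgroup G) : Set G)) (hw : w ∈ wSub h) :
    n * w * n⁻¹ ∈ wSub h := by
  refine ⟨?_, h.inv n hn w hw.2.1, by rw [conj_mul, hw.2.2, mul_one, mul_inv_cancel]⟩
  have hmap : (S : Subgroup G).map (MulAut.conj n).toMonoidHom ≤ (S : Subgroup G) := by
    rintro _ ⟨x, hx, rfl⟩; exact conj_mem_of_normalizer hn hx
  have := mem_map_of_mem (MulAut.conj n).toMonoidHom hw.1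
  rw [map_commutator] at this
  exact commutator_mono hmap hmap this

namespace Local

theorem comm (hL : Local S Z D) (h : Hyp S Z) {d s : G} (hd : d ∈ D) (hs : s ∈ (S : Subgroup G)) :
    d * s = s * d :=
  h.central d (hL.le hd) s hs

theorem le_sylow (hL : Local S Z D) (h : Hyp S Z) : D ≤ (S : Subgroup G) := hL.le.trans h.le

/-- Some power of an element outside `D` is an involution modulo `D`. -/
theorem exists_pow {x : G} (hx : x ∈ (S : Subgroup G)) (hxD : x ∉ D) : ∃ k : ℕ, DInv S D (x ^ k) := by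
  classical
  haveI : Fact (Nat.Prime 2) := ⟨Nat.prime_two⟩
  obtain ⟨j, hj⟩ := S.isPGroup' ⟨x, hx⟩
  have hex : ∃ i : ℕ, x ^ 2 ^ i ∈ D := ⟨j, by
    rw [show x ^ 2 ^ j = ((1 : (S : Subgroup G)) : G) by rw [← hj]; rfl]; exact one_mem D⟩
  obtain ⟨i, hi⟩ : ∃ i, Nat.find hex = i + 1 :=
    Nat.exists_eq_succ_of_ne_zero fun e => hxD (by
      have := Nat.find_spec hex; rwa [e, pow_zero, pow_one] at this)
  refine ⟨2 ^ i, pow_mem hx _, Nat.find_min hex (by omega), ?_⟩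
  have := Nat.find_spec hex
  rwa [hi, pow_succ, pow_mul, pow_two] at this

theorem all_mem (hL : Local S Z D) (h : Hyp S Z) (hne : ¬ Z ≤ D) {x : G} (hx : DInv S D x) : x ∈ Z := by
  obtain ⟨z, hz, hzD⟩ := SetLike.not_le_iff_exists.1 hne
  obtain ⟨k, hk⟩ := exists_pow (h.le hz) hzD
  obtain ⟨n, hn, -, hd⟩ := hL.move _ x hk hx
  have := mul_mem (h.inv n hn _ (pow_mem hz k)) (inv_mem (hL.le hd))
  rwa [mul_inv_rev, inv_inv, mul_inv_cancel_left] at this

theorem derived_inf_eq_bot (hL : Local S Z D) (h : Hyp S Z)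
    (hnf : ∀ c ∈ (S : Subgroup G), orderOf c = 2 →
      (∀ n ∈ normalizer ((S : Subgroup G) : Set G), n * c * n⁻¹ = c) → False)
    (hne : ¬ Z ≤ D ∨ D.relIndex (S : Subgroup G) = 4) :
    ⁅(S : Subgroup G), (S : Subgroup G)⁆ ⊓ D = ⊥ := by
  classical
  by_cases h4 : D.relIndex (S : Subgroup G) = 4
  · suffices he : ⁅(S : Subgroup G), (S : Subgroup G)⁆ = ⊥ by rw [he, bot_inf_eq]
    obtain ⟨x, y, hx, hy, hxy⟩ := hL.two
    set N := D.subgroupOf (S : Subgroup G) with hN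
    have hNc : N ≤ center (S : Subgroup G) := fun d hd => mem_center_iff.2 fun g =>
      Subtype.ext (hL.comm h (mem_subgroupOf.1 hd) g.2).symm
    let x' : (S : Subgroup G) := ⟨x, hx.1⟩
    let y' : (S : Subgroup G) := ⟨y, hy.1⟩
    haveI : N.Normal := ⟨fun d hd g => by
      rw [mem_center_iff.1 (hNc hd) g, mul_inv_cancel_right]; exact hd⟩
    have hmem : ∀ g, g ∈ zpowers x' ⊔ N → g ∈ N ∨ x'⁻¹ * g ∈ N := by
      intro g hg
      rw [← SetLike.mem_coe, Subgroup.mul_normal] at hg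
      obtain ⟨a, ha, d, hd, rfl⟩ := hg
      obtain ⟨k, rfl⟩ := mem_zpowers_iff.1 ha
      have hxx : x' * x' ∈ N := mem_subgroupOf.2 hx.2.2
      rcases Int.even_or_odd k with ⟨j, rfl⟩ | ⟨j, rfl⟩
      · left; rw [← two_mul, zpow_mul, zpow_two]; exact mul_mem (zpow_mem hxx j) hd
      · right
        rw [zpow_add, zpow_one, zpow_mul, zpow_two,
          show x'⁻¹ * ((x' * x') ^ j * x' * d) = (x'⁻¹ * (x' * x') ^ j * x') * d by group,
          mul_assoc x'⁻¹, ← mem_center_iff.1 (hNc (zpow_mem hxx j)) x', inv_mul_cancel_left]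
        exact mul_mem (zpow_mem hxx j) hd
    have hyA : y' ∉ zpowers x' ⊔ N := fun hy' => by
      rcases hmem y' hy' with e | e
      · exact hy.2.1 (mem_subgroupOf.1 e)
      · exact hxy (mem_subgroupOf.1 e)
    have hidx : (zpowers x' ⊔ N).index = 2 := by
      have h1 := Subgroup.relIndex_mul_index (le_sup_right : N ≤ zpowers x' ⊔ N)
      rw [show N.index = 4 from h4] at h1
      have hne1 : N.relIndex (zpowers x' ⊔ N) ≠ 1 := fun e => hx.2.1 (mem_subgroupOf.1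
        (relIndex_eq_one.1 e (mem_sup_left (mem_zpowers x'))))
      have hne2 : (zpowers x' ⊔ N).index ≠ 1 := fun e => hyA (index_eq_one.1 e ▸ mem_top y')
      have h3 : (zpowers x' ⊔ N).index ∣ 4 := ⟨_, by rw [mul_comm]; exact h1.symm⟩
      have h5 := Nat.le_of_dvd (by norm_num) h3
      interval_cases (zpowers x' ⊔ N).index <;> omega
    obtain ⟨c, hc⟩ := derived_cyclic N hNc x' y' hyA fun g k hg hk => by
      rw [Subgroup.mul_mem_iff_of_index_two hidx]; exact iff_of_false hg hk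
    have hle : ⁅(S : Subgroup G), (S : Subgroup G)⁆ ≤ zpowers (c : G) := by
      rw [← map_subtype_commutator]
      exact (map_mono hc).trans (MonoidHom.map_zpowers _ _).le
    by_contra hb
    haveI : IsCyclic ↥⁅(S : Subgroup G), (S : Subgroup G)⁆ :=
      isCyclic_of_injective (Subgroup.inclusion hle) (Subgroup.inclusion_injective hle)
    obtain ⟨d, hd⟩ := IsCyclic.exists_generator (α := ↥⁅(S : Subgroup G), (S : Subgroup G)⁆)
    have hd' : ⁅(S : Subgroup G), (S : Subgroup G)⁆ = zpowers (d : G) := by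
      refine le_antisymm (fun g hg => ?_) (zpowers_le.2 d.2)
      obtain ⟨k, hk⟩ := mem_zpowers_iff.1 (hd ⟨g, hg⟩)
      exact ⟨k, congrArg Subtype.val hk⟩
    obtain ⟨e, -, heS, he2, hfix⟩ := h.exists_fixed_of_cyclic hd' fun e => hb (by
      rw [hd', e, zpowers_one_eq_bot])
    exact hnf e heS he2 hfix
  rcases hL.cover with hcov | hcov | ⟨P, hPS, hDP, h8, h8', hP, hsq⟩
  · exact hcov
  · exact absurd hcov h4
  have hne' := hne.resolve_right h4
  have hPZ : P ≤ Z := fun p hp => by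
    by_cases hpD : p ∈ D
    · exact hL.le hpD
    · exact hL.all_mem h hne' ⟨hPS hp, hpD, (hP p hp).1⟩
  set Γ := normalizer ((S : Subgroup G) : Set G) ⊓ centralizer (D : Set G) with hΓ
  have hSΓ : (S : Subgroup G) ≤ Γ := le_inf le_normalizer fun s hs =>
    mem_centralizer_iff.2 fun d hd => hL.comm h hd hs
  have hfixD : ∀ n ∈ Γ, ∀ d ∈ D, n * d * n⁻¹ = d := fun n hn d hd => by
    rw [← mem_centralizer_iff.1 hn.2 d hd, mul_inv_cancel_right]
  have hPiff : ∀ x ∈ (S : Subgroup G), (x * x ∈ D ↔ x ∈ P) := fun x hx =>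
    ⟨(hsq x hx).2, fun hp => (hP x hp).1⟩
  have hinv : ∀ n ∈ Γ, ∀ p ∈ P, n * p * n⁻¹ ∈ P := fun n hn p hp => by
    refine (hPiff _ (conj_mem_of_normalizer hn.1 (hPS hp))).1 ?_
    rw [conj_mul, hfixD n hn _ (hP p hp).1]
    exact (hP p hp).1
  obtain ⟨m, e, hm, -, heq, hB⟩ := exists_average S Γ P hSΓ inf_le_left
    (fun a ha b hb => h.central a (hPZ ha) b (hPS hb)) hinv
    (fun a ha s hs => h.central a (hPZ ha) s hs)
  set W := e.ker.map P.subtype with hW
  have hWP : W ≤ P := map_subtype_le _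
  have hWD : ∀ x ∈ W, x ∈ D → x = 1 := by
    rintro _ ⟨a, ha, rfl⟩ haD
    have h1 := hB ⊥ a fun n hn => by
      rw [mem_bot, mul_inv_eq_one]; exact hfixD n hn _ haD
    rw [mem_bot, show ((e a : P) : G) = 1 by rw [MonoidHom.mem_ker.1 ha]; rfl, one_mul, inv_eq_one] at h1
    obtain ⟨j, hj⟩ := S.isPGroup' ⟨a, hPS a.2⟩
    have h2 : (a : G) ^ 2 ^ j = 1 := congrArg Subtype.val hj
    have := (pow_gcd_eq_one (a := (a : G))).2 ⟨h1, h2⟩
    rwa [Nat.Coprime.gcd_eq_one (Nat.Coprime.pow_right j (Nat.coprime_two_right.2 hm)), pow_one] at this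
  have hmoveP : ∀ n ∈ Γ, ∀ p ∈ P, n * p * n⁻¹ * p⁻¹ ∈ W := by
    intro n hn p hp
    refine ⟨⟨n * p * n⁻¹, hinv n hn p hp⟩ * (⟨p, hp⟩ : P)⁻¹, ?_, rfl⟩
    rw [SetLike.mem_coe, MonoidHom.mem_ker, map_mul, map_inv, heq n hn ⟨p, hp⟩, mul_inv_cancel]
  have hcP : ∀ x ∈ (S : Subgroup G), ∀ y ∈ (S : Subgroup G), ⁅x, y⁆ ∈ P := fun x hx y hy => by
    rw [show ⁅x, y⁆ = x * x * ((x⁻¹ * y) * (x⁻¹ * y)) * (y⁻¹ * y⁻¹) by rw [commutatorElement_def]; group]
    exact mul_mem (mul_mem (hsq x hx).1 (hsq _ (mul_mem (inv_mem hx) hy)).1) (hsq _ (inv_mem hy)).1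
  -- squaring is a bijection between the nonzero classes
  let σ : (S : Subgroup G) ⧸ P.subgroupOf (S : Subgroup G) → P ⧸ D.subgroupOf P :=
    Quotient.lift (fun x : (S : Subgroup G) => ((⟨(x : G) * x, (hsq x x.2).1⟩ : P) : P ⧸ D.subgroupOf P))
      fun x y hxy => by
        replace hxy := QuotientGroup.leftRel_apply.1 hxy
        rw [mem_subgroupOf] at hxy
        rw [QuotientGroup.eq, mem_subgroupOf]
        show ((x : G) * x)⁻¹ * ((y : G) * y) ∈ D
        have hp : (x : G)⁻¹ * y ∈ P := hxy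
        set p := (x : G)⁻¹ * y with hpdef
        rw [show (y : G) = x * p by rw [hpdef, mul_inv_cancel_left],
          show ((x : G) * x)⁻¹ * ((x : G) * p * ((x : G) * p)) = (x : G)⁻¹ * (p * (x : G)) * p by group,
          h.central p (hPZ hp) x x.2, inv_mul_cancel_left]
        exact (hP p hp).1
  have hσsurj : Function.Surjective σ := by
    obtain ⟨s, hs, hsP⟩ : ∃ s ∈ (S : Subgroup G), s ∉ P :=
      SetLike.not_le_iff_exists.1 fun hle => by
        rw [Subgroup.relIndex_eq_one.2 hle] at h8'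
        exact absurd h8' (by norm_num)
    have hz : DInv S D (s * s) := ⟨mul_mem hs hs, fun e => hsP ((hsq s hs).2 e), (hP _ (hsq s hs).1).1⟩
    intro q
    obtain ⟨p, rfl⟩ := QuotientGroup.mk_surjective q
    by_cases hpD : (p : G) ∈ D
    · refine ⟨((1 : (S : Subgroup G)) : (S : Subgroup G) ⧸ P.subgroupOf (S : Subgroup G)), ?_⟩
      show ((⟨((1 : (S : Subgroup G)) : G) * ((1 : (S : Subgroup G)) : G), (hsq _ (one_mem _)).1⟩ : P) : P ⧸ D.subgroupOf P) = _
      rw [QuotientGroup.eq, mem_subgroupOf]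
      show (((1 : (S : Subgroup G)) : G) * ((1 : (S : Subgroup G)) : G))⁻¹ * (p : G) ∈ D
      simpa using hpD
    · obtain ⟨n, hn, -, hnd⟩ := hL.move _ p hz ⟨hPS p.2, hpD, (hP p p.2).1⟩
      refine ⟨((⟨n * s * n⁻¹, conj_mem_of_normalizer hn hs⟩ : (S : Subgroup G)) :
        (S : Subgroup G) ⧸ P.subgroupOf (S : Subgroup G)), ?_⟩
      show ((⟨n * s * n⁻¹ * (n * s * n⁻¹), (hsq _ (conj_mem_of_normalizer hn hs)).1⟩ : P) : P ⧸ D.subgroupOf P) = _
      rw [eq_comm, QuotientGroup.eq, mem_subgroupOf]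
      show (p : G)⁻¹ * (n * s * n⁻¹ * (n * s * n⁻¹)) ∈ D
      rwa [conj_mul]
  have hσinj : Function.Injective σ :=
    (hσsurj.bijective_of_nat_card_le (le_of_eq (h8'.trans h8.symm))).1
  have htr : ∀ x ∈ (S : Subgroup G), x ∉ P → ∀ y ∈ (S : Subgroup G), y ∉ P → ∃ n : G,
      (∀ p ∈ (S : Subgroup G), n * p * n⁻¹ ∈ (S : Subgroup G)) ∧
      (∀ p ∈ P, n * p * n⁻¹ * p⁻¹ ∈ W) ∧ y⁻¹ * (n * x * n⁻¹) ∈ P := by
    intro x hx hxP y hy hyP
    have hd : ∀ {x}, x ∈ (S : Subgroup G) → x ∉ P → DInv S D (x * x) := fun {x} hx hxP =>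
      ⟨mul_mem hx hx, fun e => hxP ((hsq x hx).2 e), (hP _ (hsq x hx).1).1⟩
    obtain ⟨n, hn, hnD, hnd⟩ := hL.move _ _ (hd hx hxP) (hd hy hyP)
    have hnΓ : n ∈ Γ := ⟨hn, mem_centralizer_iff.2 fun d hd => by
      have := hnD d hd
      rw [mul_inv_eq_iff_eq_mul] at this
      exact this.symm⟩
    refine ⟨n, fun p hp => conj_mem_of_normalizer hn hp, hmoveP n hnΓ, ?_⟩
    have : ((⟨y, hy⟩ : (S : Subgroup G)) : (S : Subgroup G) ⧸ P.subgroupOf (S : Subgroup G)) =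
        ((⟨n * x * n⁻¹, conj_mem_of_normalizer hn hx⟩ : (S : Subgroup G)) :
          (S : Subgroup G) ⧸ P.subgroupOf (S : Subgroup G)) := hσinj (by
      show ((⟨y * y, (hsq y hy).1⟩ : P) : P ⧸ D.subgroupOf P) =
        ((⟨n * x * n⁻¹ * (n * x * n⁻¹), (hsq _ (conj_mem_of_normalizer hn hx)).1⟩ : P) : P ⧸ D.subgroupOf P)
      rw [QuotientGroup.eq, mem_subgroupOf]
      show (y * y)⁻¹ * (n * x * n⁻¹ * (n * x * n⁻¹)) ∈ D
      rwa [conj_mul])
    exact mem_subgroupOf.1 (QuotientGroup.eq.1 this)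
  have hmain := bracket_mem_of_transitive (S : Subgroup G) P W hPS hWP
    (fun p hp s hs => h.central p (hPZ hp) s hs) hcP (fun s hs => (hsq s hs).1) h8' htr
  rw [eq_bot_iff]
  intro x hx
  exact mem_bot.2 (hWD x (commutator_le.2 hmain hx.1) hx.2)

variable (hnf : ∀ c ∈ (S : Subgroup G), orderOf c = 2 →
  (∀ n ∈ normalizer ((S : Subgroup G) : Set G), n * c * n⁻¹ = c) → False)
include hnf

theorem wSub_inf (hL : Local S Z D) (h : Hyp S Z) (hne : ¬ Z ≤ D) {w : G} (hw : w ∈ wSub h) (hwD : w ∈ D) :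
    w = 1 :=
  mem_bot.1 (hL.derived_inf_eq_bot h hnf (Or.inl hne) ▸ ⟨hw.1, hwD⟩)

theorem exists_wSub (hL : Local S Z D) (h : Hyp S Z) (hne : ¬ Z ≤ D) : ∃ w ∈ wSub h, w ∉ D := by
  rcases hL.kind with hk | ⟨x, hxd, hxD, hxx⟩
  · exfalso
    obtain ⟨s, hs, hsZ⟩ := h.exists_not_mem
    exact hsZ (hL.all_mem h hne ⟨hs, fun e => hsZ (hL.le e), hk s hs⟩)
  · have hxS : x ∈ (S : Subgroup G) := commutator_le_self _ hxd
    exact ⟨x, ⟨hxd, hL.all_mem h hne ⟨hxS, hxD, hxx⟩,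
      mem_bot.1 (hL.derived_inf_eq_bot h hnf (Or.inl hne) ▸ ⟨mul_mem hxd hxd, hxx⟩)⟩, hxD⟩

theorem decomp (hL : Local S Z D) (h : Hyp S Z) (hne : ¬ Z ≤ D) {z : G} (hz : z ∈ Z) (hz2 : z * z = 1) :
    ∃ w ∈ wSub h, w⁻¹ * z ∈ D := by
  by_cases hzD : z ∈ D
  · exact ⟨1, one_mem _, by rw [inv_one, one_mul]; exact hzD⟩
  obtain ⟨w, hw, hwD⟩ := hL.exists_wSub hnf h hne
  obtain ⟨n, hn, -, hd⟩ := hL.move w z ⟨h.le hw.2.1, hwD, by rw [hw.2.2]; exact one_mem D⟩
    ⟨h.le hz, hzD, by rw [hz2]; exact one_mem D⟩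
  refine ⟨n * w * n⁻¹, conj_wSub h hn hw, ?_⟩
  have := inv_mem hd
  rwa [mul_inv_rev, inv_inv] at this

theorem eq_one_of_fixed (hL : Local S Z D) (h : Hyp S Z) (hne : ¬ Z ≤ D) {w : G} (hw : w ∈ wSub h)
    (hfix : ∀ n ∈ normalizer ((S : Subgroup G) : Set G), (∀ d ∈ D, n * d * n⁻¹ = d) → n * w * n⁻¹ = w) :
    w = 1 := by
  by_contra hw1
  have hwI : DInv S D w := ⟨h.le hw.2.1, fun e => hw1 (hL.wSub_inf hnf h hne hw e),
    by rw [hw.2.2]; exact one_mem D⟩
  obtain ⟨x, y, hx, hy, hxy⟩ := hL.two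
  obtain ⟨n, hn, hnD, hnx⟩ := hL.move w x hwI hx
  obtain ⟨k, hk, hkD, hky⟩ := hL.move w y hwI hy
  rw [hfix n hn hnD] at hnx
  rw [hfix k hk hkD] at hky
  refine hxy ?_
  have := mul_mem hnx (inv_mem hky)
  rwa [show x⁻¹ * w * (y⁻¹ * w)⁻¹ = x⁻¹ * y by group] at this

/-- The intersection is unique in `S`. -/
theorem eq_of_local {D' : Subgroup G} (h : Hyp S Z) (hL : Local S Z D) (hL' : Local S Z D')
    (h1 : D ≠ ⊥) (h1' : D' ≠ ⊥) : D = D' := by
  classical
  have key : ∀ {A B : Subgroup G}, Local S Z A → Local S Z B → (∃ x ∈ A, x ≠ 1 ∧ x ∈ B) → A = B := by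
    intro A B hA hB ⟨x, hxA, hx1, hxB⟩
    obtain ⟨T, hT, hBT⟩ := hB.wit
    exact (hA.ti T hT x hxA hx1 (hBT hxB)).symm.trans (hB.ti T hT x hxB hx1 (hBT hxB))
  obtain ⟨d₁, hd₁, hd₁1⟩ := (Subgroup.bot_or_exists_ne_one D).resolve_left h1
  obtain ⟨d₂, hd₂, hd₂1⟩ := (Subgroup.bot_or_exists_ne_one D').resolve_left h1'
  by_cases hne : Z ≤ D
  · exact key hL hL' ⟨d₂, hne (hL'.le hd₂), hd₂1, hd₂⟩
  by_cases hne' : Z ≤ D'
  · exact key hL hL' ⟨d₁, hd₁, hd₁1, hne' (hL.le hd₁)⟩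
  by_contra hDD
  haveI : Fact (Nat.Prime 2) := ⟨Nat.prime_two⟩
  obtain ⟨d, hdD, hd⟩ : ∃ d ∈ D, orderOf d = 2 := by
    obtain ⟨k, hk⟩ := IsPGroup.iff_card.1 (S.isPGroup'.to_le (hL.le_sylow h))
    have h2 : 2 ∣ Nat.card D := by
      rw [hk]
      refine dvd_pow_self 2 fun e => h1 (Subgroup.eq_bot_of_card_eq _ ?_)
      rw [hk, e, pow_zero]
    obtain ⟨d, hd⟩ := exists_prime_orderOf_dvd_card' 2 h2
    exact ⟨d, d.2, by rw [← hd, Subgroup.orderOf_coe]⟩
  have hdd := Invol.mul_self hd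
  set Ω : Subgroup G :=
    { carrier := {z | z ∈ Z ∧ z * z = 1}
      one_mem' := ⟨one_mem _, one_mul 1⟩
      mul_mem' := fun {a b} ha hb => ⟨mul_mem ha.1 hb.1, by
        calc a * b * (a * b) = a * (b * a) * b := by group
          _ = a * (a * b) * b := by rw [h.central b hb.1 a (h.le ha.1)]
          _ = a * a * (b * b) := by group
          _ = 1 := by rw [ha.2, hb.2, one_mul]⟩
      inv_mem' := fun {a} ha => ⟨inv_mem ha.1, by rw [← mul_inv_rev, ha.2, inv_one]⟩ } with hΩ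
  have hΩinv : ∀ n ∈ normalizer ((S : Subgroup G) : Set G), ∀ z ∈ Ω, n * z * n⁻¹ ∈ Ω :=
    fun n hn z hz => ⟨h.inv n hn z hz.1, by rw [conj_mul, hz.2, mul_one, mul_inv_cancel]⟩
  -- the elements acting trivially on `Ω` modulo `W`
  let Γ : Subgroup G :=
    { carrier := {n | n ∈ normalizer ((S : Subgroup G) : Set G) ∧ ∀ z ∈ Ω, n * z * n⁻¹ * z⁻¹ ∈ wSub h}
      one_mem' := ⟨one_mem _, fun z _ => by simp [one_mem]⟩
      mul_mem' := fun {a b} ha hb => ⟨mul_mem ha.1 hb.1, fun z hz => by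
        have h1 := ha.2 _ (hΩinv b hb.1 z hz)
        have := mul_mem h1 (hb.2 z hz)
        rwa [show a * (b * z * b⁻¹) * a⁻¹ * (b * z * b⁻¹)⁻¹ * (b * z * b⁻¹ * z⁻¹) =
          a * b * z * (a * b)⁻¹ * z⁻¹ by group] at this⟩
      inv_mem' := fun {a} ha => ⟨inv_mem ha.1, fun z hz => by
        have h1 := ha.2 _ (hΩinv a⁻¹ (inv_mem ha.1) z hz)
        have := inv_mem h1
        rwa [show (a * (a⁻¹ * z * a⁻¹⁻¹) * a⁻¹ * (a⁻¹ * z * a⁻¹⁻¹)⁻¹)⁻¹ =
          a⁻¹ * z * a⁻¹⁻¹ * z⁻¹ by group] at this⟩ }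
  have hΓfix : ∀ {A : Subgroup G}, Local S Z A → ¬ Z ≤ A → ∀ n ∈ normalizer ((S : Subgroup G) : Set G),
      (∀ a ∈ A, n * a * n⁻¹ = a) → n ∈ Γ := by
    intro A hA hAne n hn hnA
    refine ⟨hn, fun z hz => ?_⟩
    obtain ⟨w, hw, ha⟩ := hA.decomp hnf h hAne hz.1 hz.2
    set a := w⁻¹ * z with hadef
    rw [show z = w * a by rw [hadef, mul_inv_cancel_left], ← conj_mul, hnA a ha,
      show n * w * n⁻¹ * a * (w * a)⁻¹ = n * w * n⁻¹ * w⁻¹ by group]
    exact mul_mem (conj_wSub h hn hw) (inv_mem hw)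
  have hSΓ : (S : Subgroup G) ≤ Γ := fun s hs => ⟨le_normalizer hs, fun z hz => by
    rw [← h.central z hz.1 s hs, mul_inv_cancel_right, mul_inv_cancel]; exact one_mem _⟩
  obtain ⟨m, e, hm, hef, -, hB⟩ := exists_average S Γ Ω hSΓ (fun n hn => hn.1)
    (fun a ha b hb => h.central a ha.1 b (h.le hb.1)) (fun n hn => hΩinv n hn.1)
    (fun a ha s hs => h.central a ha.1 s hs)
  have hdΩ : d ∈ Ω := ⟨hL.le hdD, hdd⟩
  set E : G := ((e ⟨d, hdΩ⟩ : Ω) : G) with hE
  have hdm : d ^ m = d := by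
    obtain ⟨k, rfl⟩ := hm
    rw [pow_succ, pow_mul, pow_two, hdd, one_pow, one_mul]
  have hEW : E * d⁻¹ ∈ wSub h := by
    have := hB (wSub h) ⟨d, hdΩ⟩ fun n hn => hn.2 d hdΩ
    rwa [show ((⟨d, hdΩ⟩ : Ω) : G) ^ m = d from hdm] at this
  have hEd : E = d := by
    have h1 := hL.eq_one_of_fixed hnf h hne hEW fun n hn hnD => by
      rw [← conj_mul, hef n (hΓfix hL hne n hn hnD) ⟨d, hdΩ⟩, ← conj_inv, hnD d hdD]
    exact mul_inv_eq_one.1 h1
  obtain ⟨w, hw, hwd⟩ := hL'.decomp hnf h hne' hdΩ.1 hdd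
  have hw1 : w = 1 := hL'.eq_one_of_fixed hnf h hne' hw fun n hn hnD => by
    have h2 := hef n (hΓfix hL' hne' n hn hnD) ⟨d, hdΩ⟩
    rw [← hE, hEd] at h2
    have h3 := hnD _ hwd
    rw [← conj_mul, ← conj_inv, h2] at h3
    exact inv_injective (mul_right_cancel h3)
  rw [hw1, inv_one, one_mul] at hwd
  exact hDD (key hL hL' ⟨d, hdD, Invol.ne_one hd, hwd⟩)

/-- An involution of `S` outside `D`. -/
theorem exists_invol (hL : Local S Z D) (h : Hyp S Z) :
    ∃ u ∈ (S : Subgroup G), u ∉ D ∧ u * u = 1 := by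
  by_cases hne : ¬ Z ≤ D
  · obtain ⟨w, hw, hwD⟩ := hL.exists_wSub hnf h hne
    exact ⟨w, h.le hw.2.1, hwD, hw.2.2⟩
  push Not at hne
  -- two commuting involutions modulo `D` with a product of the same kind
  have hcomm : ∀ x y : G, DInv S D x → DInv S D y → x * y = y * x := by
    intro x y hx hy
    have hc := hL.invol_central x hx y hy.1
    have hd : ∀ (hb : ⁅(S : Subgroup G), (S : Subgroup G)⁆ ⊓ D = ⊥), x * y = y * x := fun hb =>
      commutatorElement_eq_one_iff_commute.1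
        (mem_bot.1 (hb ▸ ⟨commutator_mem_commutator hx.1 hy.1, hc⟩))
    rcases hL.cover with hb | h4 | ⟨P, hPS, hDP, h8, -, hP, hsq⟩
    · exact hd hb
    · exact hd (hL.derived_inf_eq_bot h hnf (Or.inr h4))
    · have := bracket_mem_of_transitive P D ⊥ hDP bot_le (fun d hd p hp => hL.comm h hd (hPS hp))
        (fun p hp q hq => (hP p hp).2 q (hPS hq)) (fun p hp => (hP p hp).1) h8 (fun p hp hpD q hq hqD => by
          obtain ⟨n, hn, hnD, hnd⟩ := hL.move p q ⟨hPS hp, hpD, (hP p hp).1⟩ ⟨hPS hq, hqD, (hP q hq).1⟩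
          refine ⟨n, fun r hr => ?_, fun d hd => by rw [hnD d hd, mul_inv_cancel]; exact one_mem _, hnd⟩
          refine (hsq _ (conj_mem_of_normalizer hn (hPS hr))).2 ?_
          rw [conj_mul, hnD _ (hP r hr).1]
          exact (hP r hr).1)
        x ((hsq x hx.1).2 hx.2.2) y ((hsq y hy.1).2 hy.2.2)
      exact commutatorElement_eq_one_iff_commute.1 (mem_bot.1 this)
  obtain ⟨x, y, hx, hy, hxy⟩ := hL.two
  have hxyI : DInv S D (x * y) := by
    refine ⟨mul_mem hx.1 hy.1, fun e => hxy ?_, ?_⟩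
    · have := mul_mem (inv_mem hx.2.2) e
      rwa [show (x * x)⁻¹ * (x * y) = x⁻¹ * y by group] at this
    · rw [show x * y * (x * y) = x * (y * x) * y by group, ← hcomm x y hx hy,
        show x * (x * y) * y = x * x * (y * y) by group]
      exact mul_mem hx.2.2 hy.2.2
  obtain ⟨n, hn, hnD, hd⟩ := hL.move x (x * y) hx hxyI
  set d := (x * y)⁻¹ * (n * x * n⁻¹) with hddef
  refine ⟨y * d, mul_mem hy.1 (hL.le_sylow h hd), fun e => hy.2.1 ?_, ?_⟩
  · have := mul_mem e (inv_mem hd)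
    rwa [mul_inv_cancel_right] at this
  · have h1 : x * y * d * (x * y * d) = x * x := by
      rw [show x * y * d = n * x * n⁻¹ by rw [hddef]; group, conj_mul, hnD _ hx.2.2]
    have hdy : d * y = y * d := hL.comm h hd hy.1
    have hdx : d * x = x * d := hL.comm h hd hx.1
    have hcomm' : (y * d) * x = x * (y * d) := by
      rw [mul_assoc, hdx, ← mul_assoc, ← hcomm x y hx hy, mul_assoc]
    have h2 : x * x * ((y * d) * (y * d)) = x * x :=
      calc x * x * ((y * d) * (y * d)) = x * (x * (y * d)) * (y * d) := by group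
        _ = x * ((y * d) * x) * (y * d) := by rw [hcomm']
        _ = x * y * d * (x * y * d) := by group
        _ = x * x := h1
    exact mul_eq_left.1 h2

end Local

/-- The dihedral argument: no two Sylow subgroups share an element. -/
theorem Hyp.ti_of_local (h : Hyp S Z) (hcen : center G = ⊥) (hO : Cfsg.oddCore G = ⊥)
    (hcore : (S : Subgroup G).normalCore = ⊥)
    (hloc : ∀ t ∈ (S : Subgroup G), orderOf t = 2 → ∀ T : Sylow 2 G, T ≠ S → t ∈ (T : Subgroup G) →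
      ∃ D, Local S Z D ∧ t ∈ D)
    (T : Sylow 2 G) (hT : T ≠ S) : (S : Subgroup G) ⊓ (T : Subgroup G) = ⊥ := by
  haveI : Fact (Nat.Prime 2) := ⟨Nat.prime_two⟩
  have hnf : ∀ c ∈ (S : Subgroup G), orderOf c = 2 →
      (∀ n ∈ normalizer ((S : Subgroup G) : Set G), n * c * n⁻¹ = c) → False := fun c hc hc2 hfix => by
    have := h.mem_center_of_fixed hO hc hc2 hfix
    rw [hcen, mem_bot] at this
    exact Invol.ne_one hc2 this
  by_contra hne
  obtain ⟨t, ht⟩ : ∃ t : ↥((S : Subgroup G) ⊓ (T : Subgroup G)), orderOf t = 2 := by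
    obtain ⟨k, hk⟩ := IsPGroup.iff_card.1 (S.isPGroup'.to_le (inf_le_left :
      (S : Subgroup G) ⊓ (T : Subgroup G) ≤ (S : Subgroup G)))
    refine exists_prime_orderOf_dvd_card' 2 ?_
    rw [hk]
    refine dvd_pow_self 2 fun e => hne (Subgroup.eq_bot_of_card_eq _ ?_)
    rw [hk, e, pow_zero]
  rw [← Subgroup.orderOf_coe] at ht
  obtain ⟨D, hL, htD⟩ := hloc t t.2.1 ht T hT t.2.2
  have hDne : D ≠ ⊥ := fun e => Invol.ne_one ht (mem_bot.1 (e ▸ htD))
  -- an involution of `S` shared with another Sylow subgroup lies in `D`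
  have hbad : ∀ v ∈ (S : Subgroup G), orderOf v = 2 → ∀ T' : Sylow 2 G, T' ≠ S → v ∈ (T' : Subgroup G) →
      v ∈ D := fun v hv hv2 T' hT' hvT => by
    obtain ⟨D', hL', hvD⟩ := hloc v hv hv2 T' hT' hvT
    rwa [Local.eq_of_local hnf h hL hL' hDne fun e => Invol.ne_one hv2 (mem_bot.1 (e ▸ hvD))]
  -- the conjugates of `t` in `S` lie in `D`
  have hconj : ∀ n ∈ normalizer ((S : Subgroup G) : Set G), n * (t : G) * n⁻¹ ∈ D := by
    intro n hn
    refine hbad _ (conj_mem_of_normalizer hn t.2.1) ((Invol.order_conj n _).trans ht) (n • T)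
      (fun e => hT ?_) (conj_mem_smul t.2.2)
    have := congrArg (n⁻¹ • ·) e
    simp only [inv_smul_smul] at this
    rwa [Sylow.smul_eq_iff_mem_normalizer.2 (inv_mem hn)] at this
  have hcls : ∀ g : G, g * (t : G) * g⁻¹ ∈ (S : Subgroup G) → g * (t : G) * g⁻¹ ∈ D := by
    intro g hg
    obtain ⟨n, hn, e⟩ := h.fusion t.2.1 hg
    exact e ▸ hconj n hn
  obtain ⟨u, huS, huD, hu1⟩ := Local.exists_invol hnf hL h
  have hu : orderOf u = 2 := Invol.order_two_of_sq hu1 fun e => huD (e ▸ one_mem D)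
  -- centralisers of elements of `D` normalise it
  have hCN : ∀ z ∈ D, z ≠ 1 → ∀ g : G, g * z = z * g → ∀ d ∈ D, g * d * g⁻¹ ∈ D := by
    intro z hz hz1 g hg
    obtain ⟨T₀, hT₀, hDT₀⟩ := hL.wit
    have hzS := hL.le_sylow h hz
    have hzg : g * z * g⁻¹ = z := by rw [hg, mul_inv_cancel_right]
    have hmap : D.map (MulAut.conj g).toMonoidHom = ((g • S : Sylow 2 G) : Subgroup G) ⊓ ((g • T₀ : Sylow 2 G) : Subgroup G) := by
      rw [← hL.ti T₀ hT₀ z hz hz1 (hDT₀ hz), Subgroup.map_inf _ _ _ (MulAut.conj g).injective,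
        Sylow.coe_subgroup_smul, Sylow.coe_subgroup_smul]
      rfl
    have hsub : ∀ U : Sylow 2 G, z ∈ (U : Subgroup G) → D ≤ ((g • U : Sylow 2 G) : Subgroup G) := by
      intro U hzU
      have hz' : z ∈ ((g • U : Sylow 2 G) : Subgroup G) := hzg ▸ conj_mem_smul hzU
      rcases eq_or_ne (g • U) S with e | e
      · rw [e]; exact hL.le_sylow h
      · rw [← hL.ti _ e z hz hz1 hz']; exact inf_le_right
    have heq : D = D.map (MulAut.conj g).toMonoidHom := by
      refine Subgroup.eq_of_le_of_card_ge ?_ (Subgroup.card_map_of_injective (MulAut.conj g).injective).le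
      rw [hmap]
      exact le_inf (hsub S hzS) (hsub T₀ (hDT₀ hz))
    intro d hd
    rw [heq]
    exact ⟨d, hd, rfl⟩
  have hall : ∀ g : G, g * (t : G) * g⁻¹ ∈ D := by
    intro g
    set v := g * (t : G) * g⁻¹ with hv
    have hv2 : orderOf v = 2 := (Invol.order_conj g _).trans ht
    have heven : Even (orderOf (v * u)) := by
      rw [← Nat.not_odd_iff_even]
      intro hodd
      obtain ⟨k, -, hk⟩ := Cfsg.Agent.S0208.result v u hv2 hu hodd
      refine huD ?_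
      have := hcls (k * g) (by
        rw [show k * g * (t : G) * (k * g)⁻¹ = k * v * k⁻¹ by rw [hv]; group, hk]; exact huS)
      rwa [show k * g * (t : G) * (k * g)⁻¹ = k * v * k⁻¹ by rw [hv]; group, hk] at this
    set z := (v * u) ^ (orderOf (v * u) / 2) with hzdef
    have hz2 : orderOf z = 2 := Invol.half_order hv2 hu heven (orderOf_pos _)
    obtain ⟨hzv, hzu⟩ := Invol.half_commute hv2 hu heven
    have hgood : ∀ w ∈ (S : Subgroup G), orderOf w = 2 → w ∉ D → ∀ k : G, k * w = w * k →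
        k ∈ normalizer ((S : Subgroup G) : Set G) := by
      intro w hw hw2 hwD k hk
      by_contra hkN
      refine hwD (hbad w hw hw2 (k • S) (fun e => hkN (Sylow.smul_eq_iff_mem_normalizer.1 e)) ?_)
      have := conj_mem_smul (g := k) hw
      rwa [hk, mul_inv_cancel_right] at this
    have hmemS : ∀ w : G, orderOf w = 2 → w ∈ normalizer ((S : Subgroup G) : Set G) →
        w ∈ (S : Subgroup G) := by
      intro w hw2 hw
      have hp : IsPGroup 2 (zpowers w) := IsPGroup.of_card (n := 1) (by rw [Nat.card_zpowers, hw2, pow_one])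
      exact (inf_le_right : zpowers w ⊓ (S : Subgroup G) ≤ _)
        ((hp.inf_normalizer_sylow S).le ⟨mem_zpowers w, hw⟩)
    have hzS : z ∈ (S : Subgroup G) :=
      hmemS z hz2 (hgood u huS hu huD z (by simpa [hzdef] using hzu.eq))
    by_cases hzD : z ∈ D
    · obtain ⟨U, hU⟩ : ∃ U : Sylow 2 ↥(centralizer ({z} : Set G)),
          (⟨v, mem_centralizer_singleton_iff.2 (by simpa [hzdef] using hzv.eq.symm)⟩ :
            centralizer ({z} : Set G)) ∈ (U : Subgroup _) := by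
        obtain ⟨U, hU⟩ := (IsPGroup.of_card (n := 1) (by
          rw [Nat.card_zpowers, Subgroup.orderOf_mk, hv2, pow_one]) :
            IsPGroup 2 (zpowers (⟨v, mem_centralizer_singleton_iff.2 (by simpa [hzdef] using hzv.eq.symm)⟩ :
              centralizer ({z} : Set G)))).exists_le_sylow
        exact ⟨U, hU (mem_zpowers _)⟩
      have hSC : (S : Subgroup G) ≤ centralizer ({z} : Set G) := fun s hs =>
        mem_centralizer_singleton_iff.2 (hL.comm h hzD hs).symm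
      obtain ⟨c, hc⟩ := MulAction.exists_smul_eq (centralizer ({z} : Set G)) (S.subtype hSC) U
      rw [← hc, Sylow.smul_subtype] at hU
      have hU' : v ∈ (((c : G) • S : Sylow 2 G) : Subgroup G) := mem_subgroupOf.1 hU
      rw [mem_smul_sylow] at hU'
      have h1 := hcls ((c : G)⁻¹ * g) (by
        rw [show (c : G)⁻¹ * g * (t : G) * ((c : G)⁻¹ * g)⁻¹ = (c : G)⁻¹ * v * c by rw [hv]; group]
        exact hU')
      have h2 := hCN z hzD (Invol.ne_one hz2) c (mem_centralizer_singleton_iff.1 c.2) _ h1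
      rwa [show (c : G) * ((c : G)⁻¹ * g * (t : G) * ((c : G)⁻¹ * g)⁻¹) * (c : G)⁻¹ = v by
        rw [hv]; group] at h2
    · exact hcls g (hmemS v hv2 (hgood z hzS hz2 hzD v (by simpa [hzdef] using hzv.eq.symm)))
  have hle : Subgroup.normalClosure ({(t : G)} : Set G) ≤ (S : Subgroup G) := by
    refine (closure_le _).2 fun x hx => ?_
    obtain ⟨a, ha, hax⟩ := Group.mem_conjugatesOfSet_iff.1 hx
    obtain rfl := Set.mem_singleton_iff.1 ha
    obtain ⟨g, rfl⟩ := isConj_iff.1 hax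
    exact hL.le_sylow h (hall g)
  have := Subgroup.normal_le_normalCore.2 hle (subset_normalClosure (Set.mem_singleton (t : G)))
  rw [hcore, mem_bot] at this
  exact Invol.ne_one ht this

end Cfsg.Agent.CentralInter
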