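import Cfsg.Agent.Lib.CentralInter.Basic
import Cfsg.Statements.S3181

/-!
# The groups arising from central Sylow 2-intersections
-/

set_option autoImplicit false

namespace Cfsg.Agent.CentralInter

universe u

/-- `PSL₂(2ⁿ)`, a Suzuki group or `PSU₃(2ⁿ)`. -/
def IsModel (Q : Type u) [Group Q] : Prop :=
  (∃ (n : ℕ) (F : Type) (_ : Field F) (_ : Fintype F), 2 ≤ n ∧ Fintype.card F = 2 ^ n ∧
      Nonempty (Q ≃* Matrix.ProjectiveSpecialLinearGroup (Fin 2) F)) ∨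
  (∃ (m : ℕ) (F : Type) (_ : Field F) (_ : Fintype F), 1 ≤ m ∧ Fintype.card F = 2 ^ (2 * m + 1) ∧
      Nonempty (Q ≃* ↥(Cfsg.Lie.Sz F (2 ^ (m + 1))))) ∨
  (∃ (n : ℕ) (F : Type) (_ : Field F) (_ : Fintype F), 2 ≤ n ∧ Fintype.card F = 4 ^ n ∧
      Nonempty (Q ≃* Cfsg.PSU 3 F (2 ^ n)))

/-- A model group with its Sylow 2-subgroup: trivial intersections and at least two involutions. -/
structure Facts {Q : Type u} [Group Q] (S : Sylow 2 Q) : Prop where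
  ti : ∀ T : Sylow 2 Q, T ≠ S → (S : Subgroup Q) ⊓ (T : Subgroup Q) = ⊥
  two : ∃ s t : Q, s ∈ (S : Subgroup Q) ∧ t ∈ (S : Subgroup Q) ∧ orderOf s = 2 ∧ orderOf t = 2 ∧ s ≠ t
  nn : ∃ T : Sylow 2 Q, T ≠ S
  model : IsModel Q

/-- No proper normal subgroup of odd index. -/
def NoOddQuot (G : Type u) [Group G] : Prop := ∀ L : Subgroup G, L.Normal → Odd L.index → L = ⊤

end Cfsg.Agent.CentralInter
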