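import Cfsg.Agent.Lib.Schur.SL2Root
import Cfsg.Agent.Lib.Classical.SL2Sylow
import Cfsg.Agent.Lib.PSUMult.Setup
import Cfsg.Agent.Lib.Suzuki.Group
import Cfsg.Agent.S1162
import Cfsg.Agent.S0324
import Cfsg.Prelude.Def_KGroupFacts
import Cfsg.Agent.S2086

/-!
# The model groups: perfectness, centres, Sylow 2-subgroups of `PSL₂(2ⁿ)`
-/

set_option autoImplicit false
set_option linter.unusedSectionVars false
set_option linter.style.haveILetI false

namespace Cfsg.Agent.CentralInter.Groups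

open Subgroup Matrix

universe u v

/-- A simple non-abelian group is perfect and has trivial centre. -/
theorem perfect_center_of_simple {Q : Type u} [Group Q] [IsSimpleGroup Q]
    (hQ : ∃ x y : Q, x * y ≠ y * x) : commutator Q = ⊤ ∧ center Q = ⊥ := by
  obtain ⟨x, y, hxy⟩ := hQ
  refine ⟨((inferInstance : (commutator Q).Normal).eq_bot_or_eq_top).resolve_left fun h => hxy ?_,
    ((inferInstance : (center Q).Normal).eq_bot_or_eq_top).resolve_right fun h => hxy ?_⟩
  · have := commutator_mem_commutator (H₁ := (⊤ : Subgroup Q)) (H₂ := ⊤) (mem_top x) (mem_top y)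
    rw [← _root_.commutator_def, h, mem_bot] at this
    exact commutatorElement_eq_one_iff_mul_comm.1 this
  · exact (mem_center_iff.1 (h ▸ mem_top y) x)

/-- A simple group whose order is even and not two is non-abelian. -/
theorem noncomm_of_even {Q : Type u} [Group Q] [Finite Q] [IsSimpleGroup Q] (h2 : 2 ∣ Nat.card Q)
    (h : Nat.card Q ≠ 2) : ∃ x y : Q, x * y ≠ y * x := by
  by_contra hcon
  push Not at hcon
  letI : CommGroup Q := { (inferInstance : Group Q) with mul_comm := hcon }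
  have hp := IsSimpleGroup.prime_card (α := Q)
  exact h ((Nat.prime_dvd_prime_iff_eq Nat.prime_two hp).1 h2).symm

variable {F : Type} [Field F] [Fintype F] {n : ℕ}

theorem psl_facts (hn : 2 ≤ n) (hF : Fintype.card F = 2 ^ n) :
    commutator (ProjectiveSpecialLinearGroup (Fin 2) F) = ⊤ ∧
      center (ProjectiveSpecialLinearGroup (Fin 2) F) = ⊥ := by
  have h4 : 4 ≤ Fintype.card F := by
    rw [hF]; exact le_trans (by norm_num) (Nat.pow_le_pow_right (by norm_num) hn)
  haveI : IsSimpleGroup (ProjectiveSpecialLinearGroup (Fin 2) F) :=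
    ProjectiveSpecialLinearGroup.rank_two_simple (by rw [Nat.card_eq_fintype_card]; omega)
  refine perfect_center_of_simple ?_
  by_contra hcon
  push Not at hcon
  obtain ⟨a, ha0, ha1⟩ : ∃ a : F, a ≠ 0 ∧ a ^ 2 ≠ 1 := by
    by_contra h
    push Not at h
    classical
    have hle : (Finset.univ : Finset F) ⊆ {0, 1, -1} := fun x _ => by
      rcases eq_or_ne x 0 with rfl | hx
      · simp
      · rcases sq_eq_one_iff.1 (h x hx) with rfl | rfl <;> simp
    have := Finset.card_le_card hle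
    rw [Finset.card_univ] at this
    have : ({0, 1, -1} : Finset F).card ≤ 3 := Finset.card_le_three
    omega
  have hp : commutator (SpecialLinearGroup (Fin 2) F) = ⊤ := Matrix.SL2.commutator_eq_top (a := a) ha0 ha1
  let π := QuotientGroup.mk' (center (SpecialLinearGroup (Fin 2) F))
  have hc : commutator (ProjectiveSpecialLinearGroup (Fin 2) F) = ⊤ := by
    rw [_root_.commutator_def, ← Subgroup.map_top_of_surjective π (QuotientGroup.mk'_surjective _),
      ← map_commutator, ← _root_.commutator_def, hp]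
  have hb : commutator (ProjectiveSpecialLinearGroup (Fin 2) F) = ⊥ := by
    rw [_root_.commutator_def, eq_bot_iff, commutator_le]
    intro x _ y _
    rw [mem_bot, commutatorElement_eq_one_iff_mul_comm]
    exact hcon x y
  have hss : Subsingleton (ProjectiveSpecialLinearGroup (Fin 2) F) :=
    ⟨fun x y => (mem_bot.1 (hb ▸ hc ▸ mem_top x)).trans (mem_bot.1 (hb ▸ hc ▸ mem_top y)).symm⟩
  exact false_of_nontrivial_of_subsingleton (ProjectiveSpecialLinearGroup (Fin 2) F)

theorem psl_exp (hn : 1 ≤ n) (hF : Fintype.card F = 2 ^ n)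
    (S : Sylow 2 (ProjectiveSpecialLinearGroup (Fin 2) F)) : ∀ x ∈ S, x * x = 1 := by
  haveI : Fact (Nat.Prime 2) := ⟨Nat.prime_two⟩
  classical
  let R : Subgroup (SpecialLinearGroup (Fin 2) F) := SL2Root.rootSub
  have hR : IsPGroup 2 R := IsPGroup.of_card (n := n) (by
    rw [SL2Root.card_rootSub, Nat.card_eq_fintype_card, hF])
  have hidx : ¬ 2 ∣ R.index := by
    have hq : Nat.card F = 2 ^ n := by rw [Nat.card_eq_fintype_card, hF]
    have h := ClassicalSL.card_sl_mul (ι := Fin 2) (F := F)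
    rw [ClassicalGL2.card_gl2, hq, pow_two] at h
    have h1 : 2 ≤ 2 ^ n := le_trans (by norm_num) (Nat.pow_le_pow_right (by norm_num) hn)
    have hcard : Nat.card (SpecialLinearGroup (Fin 2) F) = 2 ^ n * ((2 ^ n + 1) * (2 ^ n - 1)) :=
      Nat.eq_of_mul_eq_mul_left (show 0 < 2 ^ n - 1 by omega) (h.trans (by ring))
    have h2 := R.card_mul_index
    rw [SL2Root.card_rootSub, hq, hcard] at h2
    rw [Nat.eq_of_mul_eq_mul_left (by positivity) h2]
    intro hd
    have he : 2 ∣ 2 ^ n := dvd_pow_self 2 (by omega)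
    rcases (Nat.Prime.dvd_mul Nat.prime_two).1 hd with h3 | h3 <;> omega
  obtain ⟨U, hU⟩ := Sylow.mapSurjective_surjective
    (QuotientGroup.mk'_surjective (center (SpecialLinearGroup (Fin 2) F))) 2 S
  obtain ⟨g, hg⟩ := MulAction.exists_smul_eq (SpecialLinearGroup (Fin 2) F) (hR.toSylow hidx) U
  intro x hx
  rw [← hU] at hx
  change x ∈ (Sylow.mapSurjective _ U).toSubgroup at hx
  rw [Sylow.coe_mapSurjective, mem_map] at hx
  obtain ⟨y, hy, rfl⟩ := hx
  rw [← hg, Sylow.coe_subgroup_smul, Subgroup.mem_pointwise_smul_iff_inv_smul_mem] at hy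
  obtain ⟨b, hb⟩ := hy
  have hbb : SL2Root.rootHom (F := F) b * SL2Root.rootHom b = 1 := by
    haveI : CharP F 2 := by
      have := FiniteField.card' F
      obtain ⟨p, hp⟩ := CharP.exists F
      haveI := hp
      obtain ⟨e, hpp, he⟩ := FiniteField.card F p
      have : p = 2 := (Nat.prime_dvd_prime_iff_eq hpp Nat.prime_two).1 (hpp.dvd_of_dvd_pow (n := n)
        (by rw [← hF, he]; exact dvd_pow_self p e.pos.ne'))
      exact this ▸ hp
    rw [← map_mul, show b * b = 1 from CharTwo.add_self_eq_zero b.toAdd, map_one]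
  rw [MulAut.smul_def, MulAut.conj_inv_apply] at hb
  rw [hb] at hbb
  rw [← map_mul, show y * y = 1 by
    calc y * y = g * ((g⁻¹ * y * g) * (g⁻¹ * y * g)) * g⁻¹ := by group
      _ = 1 := by rw [hbb]; group, map_one]

theorem sz_facts {m : ℕ} (hm : 1 ≤ m) (hF : Fintype.card F = 2 ^ (2 * m + 1)) :
    commutator ↥(Cfsg.Lie.Sz F (2 ^ (m + 1))) = ⊤ ∧ center ↥(Cfsg.Lie.Sz F (2 ^ (m + 1))) = ⊥ := by
  haveI : IsSimpleGroup ↥(Cfsg.Lie.Sz F (2 ^ (m + 1))) := Cfsg.Agent.S1162.result hm hF
  haveI : Finite ↥(Cfsg.Lie.Sz F (2 ^ (m + 1))) :=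
    Finite.of_equiv _ (Cfsg.Agent.Suzuki.minorEquiv (m := m) ⟨hm, hF⟩).toEquiv
  refine perfect_center_of_simple (noncomm_of_even ?_ ?_) <;>
    rw [← Nat.card_congr (Cfsg.Agent.Suzuki.minorEquiv (m := m) ⟨hm, hF⟩).toEquiv,
      Cfsg.Agent.S0324.result hm hF]
  · exact Dvd.dvd.mul_right (Dvd.dvd.mul_right (dvd_pow (dvd_pow_self 2 (by omega)) two_ne_zero) _) _
  · intro h
    have h8 : 8 ≤ 2 ^ (2 * m + 1) := le_trans (by norm_num : 8 ≤ 2 ^ 3) (Nat.pow_le_pow_right (by norm_num) (by omega))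
    have hd : (2 ^ (2 * m + 1)) ^ 2 ∣ 2 := ⟨_, by rw [← mul_assoc]; exact h.symm⟩
    have hle := Nat.le_of_dvd two_pos hd
    nlinarith

theorem psu_perfect (hn : 2 ≤ n) {E : Type} [Field E] [Fintype E] (hE : Fintype.card E = 4 ^ n) :
    commutator (Cfsg.PSU 3 E (2 ^ n)) = ⊤ := by
  have hE' : Fintype.card E = (2 ^ n) ^ 2 := by rw [hE, ← pow_mul, mul_comm, pow_mul]; norm_num
  have h4 : 4 ≤ 2 ^ n := le_trans (by norm_num) (Nat.pow_le_pow_right (by norm_num) hn)
  have hp := Cfsg.Agent.PSUMult.perfect_su hE' le_rfl (fun _ => by omega)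
  let π : Cfsg.SU 3 E (2 ^ n) →* Cfsg.PSU 3 E (2 ^ n) := QuotientGroup.mk' (center (Cfsg.SU 3 E (2 ^ n)))
  rw [_root_.commutator_def, ← Subgroup.map_top_of_surjective π (QuotientGroup.mk'_surjective _),
    ← map_commutator, ← _root_.commutator_def, hp]

end Cfsg.Agent.CentralInter.Groups
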