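import Cfsg.Agent.Lib.PSUMult.Radical
import Cfsg.Agent.Lib.PSUMult.ThreeNotP
import Cfsg.Agent.Lib.Schur.PerfectQuot
import Cfsg.Agent.Lib.Classical.HermSU

/-!
# The multiplier of `SU₃`, without the certificates for larger unitary groups

The argument is that of `PSUMult.mult_three`, repeated here to keep the imports small.
-/

set_option autoImplicit false
set_option linter.unusedSectionVars false
set_option linter.style.haveILetI false

namespace Cfsg.Agent.PSUMult

open scoped commutatorElement
open Matrix

universe u

variable {F : Type u} [Field F] [Fintype F] {q : ℕ}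

/-- The multiplier of `SU₃` is trivial. -/
theorem mult_three_light (hF : Fintype.card F = q ^ 2) (hq : 3 ≤ q) :
    Cfsg.HasCyclicSchurMultiplier ↥(Cfsg.SU 3 F q) 1 := by
  classical
  refine mult_one_of_kills (perfect_su hF le_rfl (fun _ => hq)) fun r hr => ?_
  haveI := Fact.mk hr
  set p := ringChar F
  haveI : CharP F p := ringChar.charP F
  obtain ⟨N, hp, hN⟩ := FiniteField.card F p
  haveI := Fact.mk hp
  by_cases hrp : r = p
  · subst hrp; exact exists_kills_three_p hF hq
  have hrq : ¬ r ∣ q := fun h => hrp ((Nat.prime_dvd_prime_iff_eq hr hp).1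
    (hr.dvd_of_dvd_pow (n := N) (by rw [← hN, hF]; exact h.trans (dvd_pow_self q two_ne_zero))))
  by_cases hc : r ∣ q * q - q + 1
  · by_cases h5 : 5 ≤ r
    · exact exists_kills_singer hF h5 hrq hc
    have hr2 : r ≠ 2 := by
      rintro rfl
      have : Even (q * q - q) := by
        rw [← Nat.mul_sub_one]
        exact Nat.even_mul_pred_self q
      rw [Nat.even_iff] at this
      omega
    have hr3 : r = 3 := by
      have := hr.two_le
      rcases (show r = 3 ∨ r = 4 by omega) with h | h
      · exact h
      · rw [h] at hr; norm_num at hr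
    subst hr3
    refine exists_kills_three hF hq ?_
    have h3 : 3 ∣ (q + 1) * (q * q - q + 1) := hc.mul_left _
    obtain ⟨k, hk⟩ := hc
    have hle := Nat.le_mul_self q
    rcases (show q % 3 = 0 ∨ q % 3 = 1 ∨ q % 3 = 2 by omega) with h | h | h
    · exact absurd (Nat.dvd_of_mod_eq_zero h) hrq
    · exfalso
      have : (q * q - q + 1) % 3 = 1 := by
        have : q * q % 3 = 1 := by rw [Nat.mul_mod, h]
        omega
      omega
    · omega
  · exact exists_kills_line hF hrp hrq hc


end Cfsg.Agent.PSUMult
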