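import Cfsg.Agent.Lib.CentralInter.Reduce
import Cfsg.Agent.Lib.Schur.Basic

/-!
# Central extensions of a perfect group by a group without odd quotients
-/

set_option autoImplicit false
set_option linter.unusedSectionVars false
set_option linter.style.haveILetI false

namespace Cfsg.Agent.CentralInter

open Subgroup
open scoped Pointwise commutatorElement

universe u v

variable {H : Type u} [Group H] {Q : Type v} [Group Q]

/-- The derived subgroup of a central extension of a perfect group covers it. -/
theorem map_derived (f : H →* Q) (hf : Function.Surjective f) (hQ : commutator Q = ⊤) :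
    (commutator H).map f = ⊤ := by
  rw [_root_.commutator_def, map_commutator, Subgroup.map_top_of_surjective f hf, ← _root_.commutator_def, hQ]

/-- A surjection splits as the derived subgroup times the kernel. -/
theorem derived_sup_ker (f : H →* Q) (hf : Function.Surjective f) (hQ : commutator Q = ⊤) :
    commutator H ⊔ f.ker = ⊤ := by
  rw [← Subgroup.comap_map_eq, map_derived f hf hQ, Subgroup.comap_top]

/-- The derived subgroup of a central extension of a perfect group is perfect. -/
theorem derived_perfect (f : H →* Q) (hf : Function.Surjective f) (hker : f.ker ≤ center H)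
    (hQ : commutator Q = ⊤) : commutator (commutator H) = ⊤ := by
  set L := commutator H with hL
  have hle : L ≤ (commutator L).map L.subtype := by
    rw [map_subtype_commutator]
    have hsup := derived_sup_ker f hf hQ
    conv_lhs => rw [hL, _root_.commutator_def]
    rw [commutator_le]
    intro x _ y _
    haveI : f.ker.Normal := inferInstance
    obtain ⟨a, ha, k, hk, rfl⟩ : x ∈ (L : Set H) * (f.ker : Set H) := by
      rw [← Subgroup.mul_normal, hsup]; trivial
    obtain ⟨b, hb, m, hm, rfl⟩ : y ∈ (L : Set H) * (f.ker : Set H) := by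
      rw [← Subgroup.mul_normal, hsup]; trivial
    have hkc := mem_center_iff.1 (hker hk)
    have hmc := mem_center_iff.1 (hker hm)
    have : ⁅a * k, b * m⁆ = ⁅a, b⁆ := by
      rw [commutatorElement_def, commutatorElement_def]
      calc a * k * (b * m) * (a * k)⁻¹ * (b * m)⁻¹ = a * (k * b) * (m * (k⁻¹ * a⁻¹) * m⁻¹) * b⁻¹ := by group
        _ = a * (b * k) * (k⁻¹ * a⁻¹) * b⁻¹ := by
            rw [← hkc b, ← hmc (k⁻¹ * a⁻¹), mul_inv_cancel_right]
        _ = a * b * a⁻¹ * b⁻¹ := by group
    rw [this]
    exact commutator_mem_commutator ha hb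
  rw [eq_top_iff]
  intro x _
  obtain ⟨y, hy, e⟩ := hle x.2
  rwa [← Subtype.ext (show (y : H) = x from e)]

/-- The stem extension carried by the derived subgroup. -/
theorem isStem_derived (f : H →* Q) (hf : Function.Surjective f) (hker : f.ker ≤ center H)
    (hQ : commutator Q = ⊤) : Cfsg.IsStemExtension (f.comp (commutator H).subtype) := by
  refine ⟨fun q => ?_, fun x hx => ?_, ?_⟩
  · obtain ⟨x, hx, rfl⟩ := (map_derived f hf hQ).ge (mem_top q)
    exact ⟨⟨x, hx⟩, rfl⟩
  · exact mem_center_iff.2 fun y => Subtype.ext (mem_center_iff.1 (hker hx) (y : H))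
  · rw [derived_perfect f hf hker hQ]; exact le_top

/-- The kernel is the centre when the quotient has none. -/
theorem ker_eq_center (σ : H →* Q) (hσ : Cfsg.IsStemExtension σ) (hQ : center Q = ⊥) :
    σ.ker = center H := by
  refine le_antisymm hσ.2.1 fun x hx => ?_
  rw [MonoidHom.mem_ker, ← mem_bot, ← hQ, mem_center_iff]
  intro q
  obtain ⟨y, rfl⟩ := hσ.1 q
  rw [← map_mul, ← map_mul, mem_center_iff.1 hx y]

variable [Finite H]

/-- The derived subgroup and the 2-part of the kernel give everything. -/
theorem inf_ker_sup_derived (hgen : NoOddQuot H) (S : Sylow 2 H) (f : H →* Q) (hf : Function.Surjective f)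
    (hQ : commutator Q = ⊤) : ((S : Subgroup H) ⊓ f.ker) ⊔ commutator H = ⊤ := by
  haveI : Fact (Nat.Prime 2) := ⟨Nat.prime_two⟩
  set M := ((S : Subgroup H) ⊓ f.ker) ⊔ commutator H with hM
  haveI hMn : M.Normal := ⟨fun x hx g => by
    have h1 : ⁅g, x⁆ ∈ M := mem_sup_right (commutator_mem_commutator (mem_top g) (mem_top x))
    have := mul_mem h1 hx
    rwa [commutatorElement_def, inv_mul_cancel_right] at this⟩
  refine hgen M hMn ?_
  have htop : f.ker ⊔ M = ⊤ := by
    rw [eq_top_iff, ← derived_sup_ker f hf hQ]
    exact sup_le (le_sup_right.trans le_sup_right) le_sup_left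
  have h1 : M.index = M.relIndex f.ker := by
    rw [← Subgroup.relIndex_top_right, ← htop, Subgroup.relIndex_sup_right]
  have h2 : M.index ∣ (S : Subgroup H).relIndex f.ker := by
    rw [h1, ← Subgroup.inf_relIndex_right (H := (S : Subgroup H)) (K := f.ker)]
    exact Subgroup.relIndex_dvd_of_le_left _ le_sup_left
  rw [← Nat.not_even_iff_odd, even_iff_two_dvd]
  intro h
  have h3 : (S : Subgroup H).relIndex f.ker ∣ (S : Subgroup H).index := by
    obtain ⟨c, hc⟩ := Subgroup.relIndex_dvd_index_of_normal (H := f.ker) (K := (S : Subgroup H))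
    have e1 := Subgroup.relIndex_mul_index (inf_le_right : (S : Subgroup H) ⊓ f.ker ≤ f.ker)
    have e2 := Subgroup.relIndex_mul_index (inf_le_left : (S : Subgroup H) ⊓ f.ker ≤ (S : Subgroup H))
    rw [Subgroup.inf_relIndex_right, hc] at e1
    rw [inf_comm, Subgroup.inf_relIndex_right, inf_comm, ← e1, mul_left_comm] at e2
    exact ⟨c, Nat.eq_of_mul_eq_mul_left (Nat.pos_of_ne_zero Subgroup.index_ne_zero_of_finite) e2⟩
  exact S.not_dvd_index ((h.trans h2).trans h3)

end Cfsg.Agent.CentralInter
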