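import Cfsg.Agent.Lib.CentralInter.Induction
import Cfsg.Agent.Lib.CentralInter.Split
import Cfsg.Agent.Lib.CentralInter.Groups
import Cfsg.Agent.Lib.AbelianTwo.Cover
import Cfsg.Agent.Lib.Solvable.PSeries
import Cfsg.Agent.Lib.Suzuki.Multiplier
import Cfsg.Agent.Lib.CentralInter.SU3Mult
import Cfsg.Agent.S3183
import Cfsg.Agent.S0205
import Cfsg.Prelude.Def_TwoFusion

/-!
# Groups with central Sylow 2-intersections: the structure

Everything except the two inputs about the model groups (`ModelStmt`, `KindStmt`).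
-/

set_option autoImplicit false
set_option linter.unusedSectionVars false
set_option linter.style.haveILetI false

namespace Cfsg.Agent.CentralInter

open Subgroup
open scoped commutatorElement

universe u

variable {G : Type u} [Group G] [Finite G]

/-- The subgroup generated by the Sylow 2-subgroups. -/
def sylGen (G : Type u) [Group G] : Subgroup G := ⨆ T : Sylow 2 G, (T : Subgroup G)

theorem sylGen_normal : (sylGen G).Normal := by
  refine ⟨fun x hx g => ?_⟩
  have hle : (sylGen G).map (MulAut.conj g).toMonoidHom ≤ sylGen G := by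
    rw [sylGen, Subgroup.map_iSup]
    refine iSup_le fun T => ?_
    rintro _ ⟨y, hy, rfl⟩
    exact le_iSup (fun T : Sylow 2 G => (T : Subgroup G)) (g • T) (conj_mem_smul hy)
  exact hle ⟨x, hx, rfl⟩

theorem le_sylGen (S : Sylow 2 G) : (S : Subgroup G) ≤ sylGen G :=
  le_iSup (fun T : Sylow 2 G => (T : Subgroup G)) S

theorem noOddQuot_sylGen : NoOddQuot (sylGen G) := by
  haveI : Fact (Nat.Prime 2) := ⟨Nat.prime_two⟩
  intro L hn hL
  haveI := hn
  have hle : sylGen G ≤ L.map (sylGen G).subtype := iSup_le fun U x hx => by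
    have hp : IsPGroup 2 ((U : Subgroup G).subgroupOf (sylGen G)) :=
      U.isPGroup'.comap_of_injective (sylGen G).subtype (sylGen G).subtype_injective
    exact ⟨⟨x, le_sylGen U hx⟩, le_of_odd_index hL hp (mem_subgroupOf.2 hx), rfl⟩
  rw [eq_top_iff]
  intro x _
  obtain ⟨y, hy, e⟩ := hle x.2
  rwa [← Subtype.ext (show (y : G) = x from e)]

theorem odd_index_sylGen : Odd (sylGen G).index := by
  haveI : Fact (Nat.Prime 2) := ⟨Nat.prime_two⟩
  obtain ⟨S⟩ : Nonempty (Sylow 2 G) := inferInstance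
  rw [← Nat.not_even_iff_odd, even_iff_two_dvd]
  exact fun h => S.not_dvd_index (h.trans (Subgroup.index_dvd_of_le (le_sylGen S)))

theorem oddCore_subgroupOf : (Cfsg.oddCore G).subgroupOf (sylGen G) = Cfsg.oddCore (sylGen G) := by
  haveI := sylGen_normal (G := G)
  have hinj : Function.Injective (sylGen G).subtype := Subtype.coe_injective
  refine le_antisymm (le_oddCore inferInstance ?_) fun x hx => ?_
  · refine (odd_card_oddCore (G := G)).of_dvd_nat ?_
    rw [← Subgroup.card_map_of_injective (K := (Cfsg.oddCore G).subgroupOf (sylGen G)) (sylGen G).subtype_injective]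
    exact Subgroup.card_dvd_of_le (by rintro _ ⟨y, hy, rfl⟩; exact mem_subgroupOf.1 hy)
  · have hn : ((Cfsg.oddCore (sylGen G)).map (sylGen G).subtype).Normal := by
      haveI : (Cfsg.oddCore (sylGen G)).Characteristic := Cfsg.Agent.FittingCores.pPrimeCore_characteristic 2
      infer_instance
    exact mem_subgroupOf.2 (le_oddCore hn (by
      rw [Subgroup.card_map_of_injective hinj]; exact odd_card_oddCore) (mem_map_of_mem _ hx))

/-- A 2-group on top of the odd core. -/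
theorem solvable_pLength (h : IsPGroup 2 (sylGen G ⧸ Cfsg.oddCore (sylGen G))) :
    Group.IsSolvable G ∧ Cfsg.PLengthLE 2 1 G := by
  haveI : Fact (Nat.Prime 2) := ⟨Nat.prime_two⟩
  haveI := sylGen_normal (G := G)
  have hsolv : Group.IsSolvable (sylGen G) := by
    haveI := Cfsg.Agent.S0205.result (G := Cfsg.oddCore (sylGen G)) odd_card_oddCore
    haveI := h.isNilpotent
    exact (Group.isSolvable_iff_subgroup_quotient (Cfsg.oddCore (sylGen G))).2 ⟨inferInstance, inferInstance⟩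
  refine ⟨?_, ?_⟩
  · haveI := hsolv
    haveI := Cfsg.Agent.S0205.result (G := G ⧸ sylGen G) odd_index_sylGen
    exact (Group.isSolvable_iff_subgroup_quotient (sylGen G)).2 ⟨inferInstance, inferInstance⟩
  · rw [PSeries.pLengthLE_iff]
    set N := Cfsg.oddCore G with hN
    haveI : N.Normal := inferInstance
    have h1 : N ≤ PSeries.U 2 G 1 := PSeries.le_succ_even (n := 0) Even.zero (by
      rw [PSeries.U_zero, Subgroup.relIndex_bot_left]
      exact Nat.coprime_two_right.2 odd_card_oddCore)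
    have h2 : sylGen G ⊔ N ≤ PSeries.U 2 G 2 := PSeries.le_succ_odd (n := 1) (by norm_num) (by
      obtain ⟨k, hk⟩ := IsPGroup.iff_card.1 h
      have hd : (PSeries.U 2 G 1).relIndex (sylGen G ⊔ N) ∣ 2 ^ k := by
        refine (Subgroup.relIndex_dvd_of_le_left _ h1).trans (dvd_of_eq ?_)
        rw [Subgroup.relIndex_sup_right, ← hk]
        show (N.subgroupOf (sylGen G)).index = _
        rw [oddCore_subgroupOf]
        rfl
      obtain ⟨m, -, hm⟩ := (Nat.dvd_prime_pow Nat.prime_two).1 hd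
      exact ⟨m, hm⟩)
    refine top_le_iff.1 (PSeries.le_succ_even (n := 2) (by norm_num) ?_)
    rw [Subgroup.relIndex_top_right]
    exact Nat.coprime_two_right.2 (odd_index_sylGen.of_dvd_nat
      (Subgroup.index_dvd_of_le ((le_sup_left).trans h2)))

/-- The third alternative. -/
def AltSLFive (G : Type u) [Group G] : Prop :=
  ∃ (N M : Subgroup G) (_ : N.Normal) (_ : M.Normal) (_ : (N.subgroupOf M).Normal), N < M ∧ Odd (Nat.card ↥N) ∧ Odd M.index ∧
    ∃ A L : Subgroup (↥M ⧸ N.subgroupOf M), IsMulCommutative ↥A ∧ IsPGroup 2 ↥A ∧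
      Nonempty (↥L ≃* Matrix.SpecialLinearGroup (Fin 2) (ZMod 5)) ∧ (∀ a ∈ A, ∀ l ∈ L, a * l = l * a) ∧ A ⊔ L = ⊤

/-- The fourth alternative. -/
def AltRankOne (G : Type u) [Group G] : Prop :=
  ∃ (M : Subgroup G), M.Normal ∧ Odd M.index ∧ ∃ A L : Subgroup G, IsMulCommutative ↥A ∧ IsPGroup 2 ↥A ∧
    ((Cfsg.IsInternalDirectProduct A L M ∧
        ((∃ (m : ℕ) (F : Type) (_ : Field F) (_ : Fintype F), 1 ≤ m ∧ Fintype.card F = 2 ^ (2 * m + 1) ∧
            Nonempty (↥L ≃* ↥(Cfsg.Lie.Sz F (2 ^ (m + 1))))) ∨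
          (∃ (n : ℕ) (F : Type) (_ : Field F) (_ : Fintype F), 2 ≤ n ∧ Fintype.card F = 4 ^ n ∧
            (Nonempty (↥L ≃* Cfsg.PSU 3 F (2 ^ n)) ∨ Nonempty (↥L ≃* ↥(Cfsg.SU 3 F (2 ^ n))))))) ∨
      (A ≤ M ∧ L ≤ M ∧ (∀ a ∈ A, ∀ l ∈ L, a * l = l * a) ∧ A ⊔ L = M ∧ Group.IsPerfect ↥L ∧
        Subgroup.center ↥L ≠ ⊥ ∧
        ∃ (F : Type) (_ : Field F) (_ : Fintype F), Fintype.card F = 8 ∧
          Nonempty (↥L ⧸ Subgroup.center ↥L ≃* ↥(Cfsg.Lie.Sz F 4))))

/-- A kernel of odd central then central 2-power order is central. -/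
theorem ker_comp_le_center {H : Type u} [Group H] [Finite H] (hgen : NoOddQuot H) (S : Sylow 2 H)
    (hOc : Cfsg.oddCore H ≤ center H) (R : Subgroup (H ⧸ Cfsg.oddCore H)) [R.Normal]
    (hR : R ≤ center (H ⧸ Cfsg.oddCore H)) :
    ((QuotientGroup.mk' R).comp (QuotientGroup.mk' (Cfsg.oddCore H))).ker ≤ center H := by
  set O := Cfsg.oddCore H with hO
  set f₁ := QuotientGroup.mk' O with hf₁
  refine hgen.le_center S inferInstance fun x hx => ?_
  rw [mem_centralizer_iff]
  intro s hs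
  have hxR : f₁ x ∈ R := (QuotientGroup.eq_one_iff _).1 hx
  set a := s * x * s⁻¹ * x⁻¹ with ha
  have haO : a ∈ O := by
    refine (QuotientGroup.eq_one_iff _).1 ?_
    show f₁ a = 1
    rw [ha, map_mul, map_mul, map_mul, map_inv, map_inv, mem_center_iff.1 (hR hxR) (f₁ s),
      mul_inv_cancel_right, mul_inv_cancel]
  have hac := hOc haO
  have hpow : ∀ k : ℕ, s ^ k * x = a ^ k * (x * s ^ k) := by
    intro k
    induction k with
    | zero => simp
    | succ k ih =>
      have hsx : s * x = a * x * s := by rw [ha]; group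
      calc s ^ (k + 1) * x = s * (s ^ k * x) := by rw [pow_succ', mul_assoc]
        _ = s * a ^ k * (x * s ^ k) := by rw [ih, mul_assoc]
        _ = a ^ k * s * (x * s ^ k) := by rw [mem_center_iff.1 (pow_mem hac k) s]
        _ = a ^ k * (s * x) * s ^ k := by group
        _ = a ^ (k + 1) * (x * s ^ (k + 1)) := by rw [hsx, pow_succ, pow_succ' s]; group
  obtain ⟨j, hj⟩ := S.isPGroup' ⟨s, hs⟩
  have h1 := hpow (2 ^ j)
  rw [show s ^ 2 ^ j = 1 from congrArg Subtype.val hj, one_mul, mul_one, right_eq_mul] at h1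
  have h2 : a = 1 := by
    refine orderOf_eq_one_iff.1 (Nat.eq_one_of_dvd_coprimes (a := 2 ^ j)
      (Nat.Coprime.pow_left j (Nat.coprime_two_left.2 (odd_card_oddCore (G := H)))) (orderOf_dvd_of_pow_eq_one h1) ?_)
    exact (Subgroup.orderOf_mk a haO).symm ▸ orderOf_dvd_natCard (⟨a, haO⟩ : O)
  rw [ha, mul_inv_eq_one, mul_inv_eq_iff_eq_mul] at h2
  exact h2

variable {S : Sylow 2 G} {Z : Subgroup G}

/-- The branch over `PSL₂`. -/
theorem alt_sl_five (hna : ¬ IsMulCommutative (S : Subgroup G)) (R : Subgroup (sylGen G ⧸ Cfsg.oddCore (sylGen G)))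
    [R.Normal] (hR : IsPGroup 2 R) (hRc : R ≤ center (sylGen G ⧸ Cfsg.oddCore (sylGen G))) {n : ℕ}
    {F : Type} [Field F] [Fintype F] (hn : 2 ≤ n) (hF : Fintype.card F = 2 ^ n)
    (e : (sylGen G ⧸ Cfsg.oddCore (sylGen G)) ⧸ R ≃* Matrix.ProjectiveSpecialLinearGroup (Fin 2) F) :
    AltSLFive G := by
  haveI : Fact (Nat.Prime 2) := ⟨Nat.prime_two⟩
  haveI := sylGen_normal (G := G)
  obtain ⟨hperf, hcen⟩ := Groups.psl_facts hn hF
  set O := Cfsg.oddCore (sylGen G) with hO
  set f := e.toMonoidHom.comp (QuotientGroup.mk' R) with hf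
  have hfs : Function.Surjective f := e.surjective.comp (QuotientGroup.mk'_surjective R)
  have hfk : f.ker = R := by ext x; simp [hf]
  have hker : f.ker ≤ center _ := hfk.le.trans hRc
  set L := commutator (sylGen G ⧸ O) with hL
  have hLp := derived_perfect f hfs hker hperf
  have hσ := isStem_derived f hfs hker hperf
  have hσc := ker_eq_center _ hσ hcen
  -- the abelian case is excluded
  have hne : (f.comp L.subtype).ker ≠ ⊥ := by
    intro hb
    refine hna ⟨⟨fun x y => Subtype.ext ?_⟩⟩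
    set x' : sylGen G := ⟨x, le_sylGen S x.2⟩ with hx'
    set y' : sylGen G := ⟨y, le_sylGen S y.2⟩ with hy'
    set g := QuotientGroup.mk' O with hg
    have hmem : ⁅g x', g y'⁆ ∈ L := commutator_mem_commutator (mem_top _) (mem_top _)
    have hSk : ∀ z : sylGen G, (z : G) ∈ (S : Subgroup G) →
        f (g z) * f (g z) = 1 := fun z hz => by
      set P := (S.subtype (le_sylGen S)).mapSurjective (f := f.comp g) (hfs.comp (QuotientGroup.mk'_surjective O))
      refine Groups.psl_exp (by omega) hF P _ ?_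
      show f (g z) ∈ (P : Subgroup _)
      rw [Sylow.coe_mapSurjective]
      exact mem_map_of_mem (f.comp g) (show z ∈ ((S.subtype (le_sylGen S) : Sylow 2 (sylGen G)) : Subgroup (sylGen G)) by
        rw [Sylow.coe_subtype, mem_subgroupOf]; exact hz)
    have h1 : f ⁅g x', g y'⁆ = 1 := by
      have ha := hSk x' x.2
      have hb' := hSk y' y.2
      have hc := hSk (x' * y') (mul_mem x.2 y.2)
      rw [map_commutatorElement, commutatorElement_eq_one_iff_mul_comm]
      rw [map_mul, map_mul] at hc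
      calc f (g x') * f (g y') = (f (g x') * f (g y'))⁻¹ := (inv_eq_of_mul_eq_one_right hc).symm
        _ = f (g y') * f (g x') := by
          rw [mul_inv_rev, inv_eq_of_mul_eq_one_right ha, inv_eq_of_mul_eq_one_right hb']
    have h2 : (⟨_, hmem⟩ : L) = 1 := mem_bot.1 (hb ▸ (show (⟨_, hmem⟩ : L) ∈ (f.comp L.subtype).ker from h1))
    have h3 : ⁅x', y'⁆ ∈ O := by
      rw [← QuotientGroup.eq_one_iff]
      show g ⁅x', y'⁆ = 1
      rw [map_commutatorElement]
      exact congrArg Subtype.val h2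
    have h4 : ⁅(x : G), (y : G)⁆ ∈ (S : Subgroup G) :=
      commutator_le_self _ (commutator_mem_commutator x.2 y.2)
    obtain ⟨j, hj⟩ := S.isPGroup' ⟨_, h4⟩
    have h5 : orderOf ⁅x', y'⁆ = 1 := Nat.eq_one_of_dvd_coprimes (a := 2 ^ j)
      (Nat.Coprime.pow_left j (Nat.coprime_two_left.2 (odd_card_oddCore (G := sylGen G))))
      (orderOf_dvd_of_pow_eq_one (Subtype.ext (by
        show ⁅(x : G), (y : G)⁆ ^ 2 ^ j = 1
        exact congrArg Subtype.val hj)))
      ((Subgroup.orderOf_mk _ h3).symm ▸ orderOf_dvd_natCard (⟨_, h3⟩ : O))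
    rw [orderOf_eq_one_iff, commutatorElement_eq_one_iff_mul_comm] at h5
    exact (congrArg Subtype.val h5 :)
  rcases Nat.lt_or_ge n 3 with hn3 | hn3
  swap
  · -- trivial multiplier
    exfalso
    have hq : Nat.gcd 2 (2 ^ n - 1) = 1 := by
      have h8 : 1 ≤ 2 ^ n := Nat.one_le_two_pow
      have hev : 2 ∣ 2 ^ n := dvd_pow_self 2 (by omega)
      exact Nat.coprime_two_left.2 (Nat.odd_iff.2 (by omega))
    have hm := Cfsg.Agent.S2086.result hF 2 le_rfl
      (fun _ => le_trans (by norm_num) (Nat.pow_le_pow_right (by norm_num) hn)) (by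
        have h8 : 8 ≤ 2 ^ n := le_trans (by norm_num : 8 ≤ 2 ^ 3) (Nat.pow_le_pow_right (by norm_num) hn3)
        have h9 : 2 ^ n ≠ 9 := fun e => by
          have hev : 2 ∣ 2 ^ n := dvd_pow_self 2 (by omega)
          omega
        simp only [Set.mem_insert_iff, Set.mem_singleton_iff, Prod.mk.injEq]
        omega)
    rw [hq] at hm
    have := Schur.inf_commutator_eq_bot hm _ hσ.1 hσ.2.1
    rw [hLp, inf_top_eq] at this
    exact hne this
  -- the double cover
  obtain rfl : n = 2 := by omega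
  rw [hσc] at hne
  obtain ⟨e5⟩ := AbelianTwo.psl_four_five (F := F) (Or.inl (by rw [hF]; norm_num))
  let e' : L ⧸ center L ≃* Matrix.ProjectiveSpecialLinearGroup (Fin 2) (ZMod 5) :=
    ((QuotientGroup.quotientMulEquivOfEq hσc.symm).trans
      (QuotientGroup.quotientKerEquivOfSurjective _ hσ.1)).trans e5
  obtain ⟨eL⟩ := AbelianTwo.sl_five_of_center hLp e' hne
  have hsup : R ⊔ L = ⊤ := by rw [← hfk, sup_comm]; exact derived_sup_ker f hfs hperf
  set N := Cfsg.oddCore G with hN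
  haveI hMn : (sylGen G ⊔ N).Normal := inferInstance
  haveI hNM : (N.subgroupOf (sylGen G ⊔ N)).Normal := inferInstance
  let E : sylGen G ⧸ O ≃* ↥(sylGen G ⊔ N) ⧸ N.subgroupOf (sylGen G ⊔ N) :=
    (QuotientGroup.quotientMulEquivOfEq oddCore_subgroupOf.symm).trans
      (QuotientGroup.quotientInfEquivProdNormalQuotient (sylGen G) N)
  refine ⟨N, sylGen G ⊔ N, inferInstance, hMn, hNM, lt_of_le_of_ne le_sup_right fun h => ?_,
    odd_card_oddCore, odd_index_sylGen.of_dvd_nat (Subgroup.index_dvd_of_le le_sup_left),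
    R.map E.toMonoidHom, L.map E.toMonoidHom, ?_, hR.map _,
    ⟨(L.equivMapOfInjective E.toMonoidHom E.injective).symm.trans eL⟩, ?_, ?_⟩
  · refine hna ⟨⟨fun x y => ?_⟩⟩
    have hS : (S : Subgroup G) ≤ N := (le_sylGen S).trans (le_sup_left.trans h.ge)
    have h0 : ∀ z : (S : Subgroup G), z = 1 := fun z => by
      obtain ⟨j, hj⟩ := S.isPGroup' z
      refine orderOf_eq_one_iff.1 (Nat.eq_one_of_dvd_coprimes (a := 2 ^ j)
        (Nat.Coprime.pow_left j (Nat.coprime_two_left.2 (odd_card_oddCore (G := G))))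
        (orderOf_dvd_of_pow_eq_one hj) ?_)
      rw [← Subgroup.orderOf_coe, ← Subgroup.orderOf_mk (z : G) (hS z.2)]
      exact orderOf_dvd_natCard _
    rw [h0 x, h0 y]
  · refine .of_setLike_mul_comm fun a ha b hb => ?_
    obtain ⟨a, ha', rfl⟩ := ha
    obtain ⟨b, hb', rfl⟩ := hb
    rw [← map_mul, ← map_mul, mem_center_iff.1 (hRc hb') a]
  · intro a ha l hl
    obtain ⟨a, ha', rfl⟩ := ha
    obtain ⟨l, hl', rfl⟩ := hl
    rw [← map_mul, ← map_mul, mem_center_iff.1 (hRc ha') l]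
  · rw [← Subgroup.map_sup, hsup, Subgroup.map_top_of_surjective _ E.surjective]

/-- A perfect cover of `PSU₃` with centre of order prime to two. -/
theorem psu_cover {q : ℕ} (h4 : 4 ≤ q) {F : Type} [Field F] [Fintype F] (hFq : Fintype.card F = q ^ 2)
    (hQ : commutator (Cfsg.PSU 3 F q) = ⊤)
    {L : Type u} [Group L] [Finite L] (hLp : commutator L = ⊤) (σ : L →* Cfsg.PSU 3 F q)
    (hσ : Cfsg.IsStemExtension σ) :
    Odd (Nat.card σ.ker) ∧ (Nonempty (L ≃* Cfsg.PSU 3 F q) ∨ Nonempty (L ≃* ↥(Cfsg.SU 3 F q))) := by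
  classical
  haveI : Finite (Cfsg.PSU 3 F q) := Finite.of_surjective σ hσ.1
  set d := Nat.gcd 3 (q + 1) with hd
  haveI : NeZero d := ⟨(Nat.gcd_pos_of_pos_left _ (by norm_num)).ne'⟩
  have hperf := Cfsg.Agent.PSUMult.perfect_su hFq le_rfl (fun _ => by omega)
  set τ : Cfsg.SU 3 F q →* Cfsg.PSU 3 F q := QuotientGroup.mk' (center (Cfsg.SU 3 F q)) with hτ
  obtain ⟨s, hs, hne, hinv, hfix, -⟩ := Cfsg.Agent.HermStd.exists_sigma hFq
  have hτd : Nat.card τ.ker = d := by
    rw [hτ, QuotientGroup.ker_mk', Cfsg.Agent.HermSU.card_center_SU hne hinv hs (by omega) hfix, ← hd]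
  have hd3 : d = 1 ∨ d = 3 := (Nat.dvd_prime Nat.prime_three).1 (Nat.gcd_dvd_left 3 _)
  haveI : IsCyclic τ.ker := by
    rcases hd3 with h | h
    · haveI : Subsingleton τ.ker := (Nat.card_eq_one_iff_unique.1 (hτd.trans h)).1
      exact isCyclic_of_subsingleton
    · haveI := Fact.mk Nat.prime_three
      exact isCyclic_of_prime_card (hτd.trans h)
  have hm : Cfsg.HasCyclicSchurMultiplier (Cfsg.PSU 3 F q) d :=
    Cfsg.Agent.Schur.hasSchurMultiplier_of_perfect hperf
      (Cfsg.Agent.PSUMult.mult_three_light hFq (by omega)) τ (QuotientGroup.mk'_surjective _)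
      (QuotientGroup.ker_mk' _).le (mulEquivOfCyclicCardEq (by rw [hτd, Nat.card_congr Multiplicative.toAdd, Nat.card_zmod]))
  obtain ⟨-, hM⟩ := (Schur.hasCyclicSchurMultiplier_iff _).1 hm
  have hdvd := Schur.card_dvd_card_multiplier σ hσ.1 hσ.2.1
  rw [hLp, inf_top_eq, hM] at hdvd
  by_cases hb : σ.ker = ⊥
  · refine ⟨by rw [hb, Subgroup.card_bot]; exact odd_one, Or.inl ⟨?_⟩⟩
    exact MulEquiv.ofBijective σ ⟨(MonoidHom.ker_eq_bot_iff σ).1 hb, hσ.1⟩
  have h1 : Nat.card σ.ker ≠ 1 := fun h => hb (Subgroup.eq_bot_of_card_eq _ h)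
  have h3 : d = 3 ∧ Nat.card σ.ker = 3 := by
    rcases hd3 with h | h
    · rw [h] at hdvd; exact absurd (Nat.dvd_one.1 hdvd) h1
    · rw [h] at hdvd; exact ⟨h, ((Nat.dvd_prime Nat.prime_three).1 hdvd).resolve_left h1⟩
  refine ⟨by rw [h3.2]; decide, Or.inr ?_⟩
  have hτk : Nat.card τ.ker = 3 := hτd.trans h3.1
  haveI := Fact.mk Nat.prime_three
  haveI := isCyclic_of_prime_card h3.2
  haveI := isCyclic_of_prime_card hτk
  haveI := isCyclic_of_prime_card (p := 3) (hM.trans h3.1)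
  have hcop : Nat.Coprime (Nat.card (Abelianization (Cfsg.PSU 3 F q)))
      (Nat.card (Schur.Multiplier (Cfsg.PSU 3 F q))) := by
    have : Nat.card (Abelianization (Cfsg.PSU 3 F q)) = 1 := by
      show (commutator (Cfsg.PSU 3 F q)).index = 1
      rw [hQ, Subgroup.index_top]
    rw [this]
    exact Nat.coprime_one_left _
  obtain ⟨f, -⟩ := Schur.cover_unique σ τ hσ
    ⟨QuotientGroup.mk'_surjective _, (QuotientGroup.ker_mk' _).le, by rw [hperf]; exact le_top⟩
    ⟨mulEquivOfCyclicCardEq (by rw [hM, h3.1, h3.2])⟩ ⟨mulEquivOfCyclicCardEq (by rw [hM, h3.1, hτk])⟩ hcop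
  exact ⟨f⟩

/-- The branch over Suzuki groups and `PSU₃`. -/
theorem alt_rank_one (h : Hyp S Z) (R : Subgroup (sylGen G ⧸ Cfsg.oddCore (sylGen G))) [R.Normal]
    (hRc : R ≤ center (sylGen G ⧸ Cfsg.oddCore (sylGen G)))
    (hder : ∃ x y : (sylGen G ⧸ Cfsg.oddCore (sylGen G)) ⧸ R,
      x ∈ ((⁅(S : Subgroup G), (S : Subgroup G)⁆).subgroupOf (sylGen G)).map
          ((QuotientGroup.mk' R).comp (QuotientGroup.mk' _)) ∧
      y ∈ ((⁅(S : Subgroup G), (S : Subgroup G)⁆).subgroupOf (sylGen G)).map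
          ((QuotientGroup.mk' R).comp (QuotientGroup.mk' _)) ∧
      orderOf x = 2 ∧ orderOf y = 2 ∧ x ≠ y)
    (hmod : (∃ (m : ℕ) (F : Type) (_ : Field F) (_ : Fintype F), 1 ≤ m ∧ Fintype.card F = 2 ^ (2 * m + 1) ∧
        Nonempty ((sylGen G ⧸ Cfsg.oddCore (sylGen G)) ⧸ R ≃* ↥(Cfsg.Lie.Sz F (2 ^ (m + 1))))) ∨
      (∃ (n : ℕ) (F : Type) (_ : Field F) (_ : Fintype F), 2 ≤ n ∧ Fintype.card F = 4 ^ n ∧
        Nonempty ((sylGen G ⧸ Cfsg.oddCore (sylGen G)) ⧸ R ≃* Cfsg.PSU 3 F (2 ^ n)))) :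
    AltRankOne G := by
  haveI : Fact (Nat.Prime 2) := ⟨Nat.prime_two⟩
  haveI := sylGen_normal (G := G)
  set P := S.subtype (le_sylGen S) with hP
  have h0 := h.restrict (sylGen G) (le_sylGen S)
  set f₀ := (QuotientGroup.mk' R).comp (QuotientGroup.mk' (Cfsg.oddCore (sylGen G))) with hf₀
  have hOc : (Cfsg.oddCore (sylGen G)) ≤ center (sylGen G) := by
    refine noOddQuot_sylGen.le_center P inferInstance ((h0.centralizes_or_cyclic (Cfsg.oddCore (sylGen G)) odd_card_oddCore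
      fun s _ => ?_).resolve_right ?_)
    · rw [normalizer_eq_top_iff.2 inferInstance]; trivial
    · rintro ⟨c, hc, -⟩
      obtain ⟨x, y, hx, hy, hx2, hy2, hxy⟩ := hder
      have hle : ((⁅(S : Subgroup G), (S : Subgroup G)⁆).subgroupOf (sylGen G)) ≤ zpowers c := fun w hw => by
        rw [← hc]
        have hw' : (w : G) ∈ (⁅(P : Subgroup (sylGen G)), (P : Subgroup (sylGen G))⁆).map (sylGen G).subtype := by
          rw [map_commutator, hP, Sylow.coe_subtype, map_subgroupOf_eq_of_le (le_sylGen S)]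
          exact mem_subgroupOf.1 hw
        obtain ⟨v, hv, e⟩ := hw'
        rwa [← Subtype.ext (show (v : G) = w from e)]
      have hz : ∀ {z}, z ∈ ((⁅(S : Subgroup G), (S : Subgroup G)⁆).subgroupOf (sylGen G)).map f₀ → z ∈ zpowers (f₀ c) :=
        fun {z} hz => by rw [← MonoidHom.map_zpowers]; exact map_mono hle hz
      exact hxy ((Invol.eq_half hx2 (hz hx)).2.trans (Invol.eq_half hy2 (hz hy)).2.symm)
  have hker : f₀.ker ≤ center (sylGen G) := ker_comp_le_center noOddQuot_sylGen P hOc R hRc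
  have hfs₀ : Function.Surjective f₀ := (QuotientGroup.mk'_surjective R).comp (QuotientGroup.mk'_surjective (Cfsg.oddCore (sylGen G)))
  -- common construction
  have key : ∀ {Q : Type} [Group Q] (e : ((sylGen G) ⧸ (Cfsg.oddCore (sylGen G))) ⧸ R ≃* Q), commutator Q = ⊤ →
      ∃ (A L : Subgroup G) (σ : L →* Q), IsMulCommutative A ∧ IsPGroup 2 A ∧ commutator L = ⊤ ∧
        Cfsg.IsStemExtension σ ∧ A ≤ (sylGen G) ∧ L ≤ (sylGen G) ∧ (∀ a ∈ A, ∀ l ∈ L, a * l = l * a) ∧ A ⊔ L = (sylGen G) ∧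
        ∀ x : L, (x : G) ∈ A → x ∈ σ.ker ∧ ∃ k : ℕ, x ^ 2 ^ k = 1 := by
    intro Q _ e hQ
    set f := e.toMonoidHom.comp f₀ with hf
    have hfs : Function.Surjective f := e.surjective.comp hfs₀
    have hfk : f.ker = f₀.ker := by ext x; simp [hf]
    have hker' : f.ker ≤ center (sylGen G) := hfk.le.trans hker
    set A₀ := (P : Subgroup (sylGen G)) ⊓ f.ker with hA₀
    set L₀ := commutator (sylGen G) with hL₀
    set φ := L₀.equivMapOfInjective (sylGen G).subtype (sylGen G).subtype_injective with hφ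
    have hsup : A₀ ⊔ L₀ = ⊤ := inf_ker_sup_derived noOddQuot_sylGen P f hfs hQ
    obtain ⟨hσ1, hσ2, hσ3⟩ := isStem_derived f hfs hker' hQ
    have hLp := derived_perfect f hfs hker' hQ
    have hLp' : commutator (L₀.map (sylGen G).subtype) = ⊤ := by
      rw [_root_.commutator_def, ← Subgroup.map_top_of_surjective φ.toMonoidHom φ.surjective, ← map_commutator,
        ← _root_.commutator_def, hLp]
    refine ⟨A₀.map (sylGen G).subtype, L₀.map (sylGen G).subtype, (f.comp L₀.subtype).comp φ.symm.toMonoidHom, ?_, ?_, hLp',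
      ⟨hσ1.comp φ.symm.surjective, fun x hx => ?_, ?_⟩, map_subtype_le _, map_subtype_le _, ?_, ?_, ?_⟩
    · refine .of_setLike_mul_comm fun a ha b hb => ?_
      obtain ⟨a, ha', rfl⟩ := ha
      obtain ⟨b, hb', rfl⟩ := hb
      rw [← map_mul, ← map_mul, mem_center_iff.1 (hker' hb'.2) a]
    · exact (P.isPGroup'.to_le (inf_le_left : A₀ ≤ (P : Subgroup (sylGen G)))).map (sylGen G).subtype
    · rw [mem_center_iff]
      intro y
      have := mem_center_iff.1 (hσ2 (show φ.symm x ∈ (f.comp L₀.subtype).ker from hx)) (φ.symm y)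
      exact φ.symm.injective (by rw [map_mul, map_mul, this])
    · rw [hLp']; exact le_top
    · intro a ha l hl
      obtain ⟨a, ha', rfl⟩ := ha
      obtain ⟨l, hl', rfl⟩ := hl
      rw [← map_mul, ← map_mul, mem_center_iff.1 (hker' ha'.2) l]
    · rw [← Subgroup.map_sup, hsup, ← MonoidHom.range_eq_map, range_subtype]
    · rintro x ⟨a, ha, hax⟩
      have hxa : ((φ.symm x : L₀) : (sylGen G)) = a := by
        refine Subtype.ext ?_
        have h1 : ((φ (φ.symm x) : L₀.map (sylGen G).subtype) : G) = ((φ.symm x : L₀) : (sylGen G)) := rfl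
        rw [MulEquiv.apply_symm_apply] at h1
        exact h1.symm.trans hax.symm
      refine ⟨?_, ?_⟩
      · show f ((φ.symm x : L₀) : (sylGen G)) = 1
        rw [hxa]; exact ha.2
      · obtain ⟨k, hk⟩ := P.isPGroup' ⟨a, ha.1⟩
        refine ⟨k, Subtype.ext ?_⟩
        show (x : G) ^ 2 ^ k = 1
        rw [← hax]
        exact congrArg (fun z : (P : Subgroup (sylGen G)) => ((z : (sylGen G)) : G)) hk
  have hinf : ∀ {Q : Type} [Group Q] {A L : Subgroup G} (σ : L →* Q), Odd (Nat.card σ.ker) →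
      (∀ x : L, (x : G) ∈ A → x ∈ σ.ker ∧ ∃ k : ℕ, x ^ 2 ^ k = 1) → A ⊓ L = ⊥ := by
    intro Q _ A L σ hodd hA
    rw [eq_bot_iff]
    intro x hx
    obtain ⟨hxk, k, hk⟩ := hA ⟨x, hx.2⟩ hx.1
    have h1 : orderOf (⟨x, hx.2⟩ : L) = 1 := Nat.eq_one_of_dvd_coprimes (a := 2 ^ k)
      (Nat.Coprime.pow_left k (Nat.coprime_two_left.2 hodd)) (orderOf_dvd_of_pow_eq_one hk)
      ((Subgroup.orderOf_mk _ hxk).symm ▸ orderOf_dvd_natCard (⟨_, hxk⟩ : σ.ker))
    rw [orderOf_eq_one_iff] at h1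
    exact mem_bot.2 (congrArg Subtype.val h1)
  rcases hmod with ⟨m, F, iF, iF', hm, hF, ⟨e⟩⟩ | ⟨n, F, iF, iF', hn, hF, ⟨e⟩⟩
  · obtain ⟨hperf, hcen⟩ := Groups.sz_facts hm hF
    obtain ⟨A, L, σ, hA, hA2, hLp, hσ, hAH, hLH, hcomm, hsup, hmem⟩ := key e hperf
    have hσc := ker_eq_center σ hσ hcen
    haveI : Finite ↥(Cfsg.Lie.Sz F (2 ^ (m + 1))) := Finite.of_surjective σ hσ.1
    by_cases hb : σ.ker = ⊥
    · refine ⟨(sylGen G), sylGen_normal, odd_index_sylGen, A, L, hA, hA2, Or.inl ⟨⟨hAH, hLH, hcomm,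
        hinf σ (by rw [hb, Subgroup.card_bot]; exact odd_one) hmem, hsup⟩, Or.inl ⟨m, F, iF, iF', hm, hF,
        ⟨MulEquiv.ofBijective σ ⟨(MonoidHom.ker_eq_bot_iff σ).1 hb, hσ.1⟩⟩⟩⟩⟩
    · rcases Nat.lt_or_ge m 2 with hm2 | hm2
      · obtain rfl : m = 1 := by omega
        refine ⟨(sylGen G), sylGen_normal, odd_index_sylGen, A, L, hA, hA2, Or.inr ⟨hAH, hLH, hcomm, hsup, ⟨hLp⟩,
          fun hc => hb (hσc.trans hc), F, iF, iF', by rw [hF]; norm_num,
          ⟨(QuotientGroup.quotientMulEquivOfEq hσc.symm).trans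
            (QuotientGroup.quotientKerEquivOfSurjective σ hσ.1)⟩⟩⟩
      · exfalso
        have := Schur.inf_commutator_eq_bot (Cfsg.Agent.Suzuki.multiplier_lie_trivial ⟨by omega, hF⟩ hm2) σ hσ.1 hσ.2.1
        rw [hLp, inf_top_eq] at this
        exact hb this
  · obtain ⟨A, L, σ, hA, hA2, hLp, hσ, hAH, hLH, hcomm, hsup, hmem⟩ := key e (Groups.psu_perfect hn hF)
    obtain ⟨hodd, hL⟩ := psu_cover (le_trans (by norm_num) (Nat.pow_le_pow_right two_pos hn))
      (by rw [hF, ← pow_mul, mul_comm, pow_mul]; norm_num) (Groups.psu_perfect hn hF) hLp σ hσ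
    exact ⟨(sylGen G), sylGen_normal, odd_index_sylGen, A, L, hA, hA2, Or.inl ⟨⟨hAH, hLH, hcomm, hinf σ hodd hmem, hsup⟩,
      Or.inr ⟨n, F, iF, iF', hn, hF, hL⟩⟩⟩

/-- The structure theorem. -/
theorem structure_of_inputs (hmodel : ModelStmt.{u}) (hkind : KindStmt.{u})
    (hsuz : ∀ (Q : Type u) [Group Q] [Finite Q], IsModel Q → ∀ P : Sylow 2 Q,
      (∃ (n : ℕ) (F : Type) (_ : Field F) (_ : Fintype F), 2 ≤ n ∧ Fintype.card F = 2 ^ n ∧
        Nonempty (Q ≃* Matrix.ProjectiveSpecialLinearGroup (Fin 2) F)) ∨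
      ∃ x y : Q, x ∈ ⁅(P : Subgroup Q), (P : Subgroup Q)⁆ ∧ y ∈ ⁅(P : Subgroup Q), (P : Subgroup Q)⁆ ∧
        orderOf x = 2 ∧ orderOf y = 2 ∧ x ≠ y)
    (hCI : ∀ S T : Sylow 2 G, S ≠ T → ∃ U : Sylow 2 G,
      (S : Subgroup G) ⊓ (T : Subgroup G) ≤ (Subgroup.center ↥(U : Subgroup G)).map (U : Subgroup G).subtype) :
    (Group.IsSolvable G ∧ Cfsg.PLengthLE 2 1 G) ∨
    (∀ S : Sylow 2 G, IsMulCommutative ↥(S : Subgroup G)) ∨ AltSLFive G ∨ AltRankOne G := by
  haveI : Fact (Nat.Prime 2) := ⟨Nat.prime_two⟩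
  haveI := sylGen_normal (G := G)
  by_cases hab : ∀ S : Sylow 2 G, IsMulCommutative ↥(S : Subgroup G)
  · exact Or.inr (Or.inl hab)
  push Not at hab
  obtain ⟨S, hna⟩ := hab
  set Z := (Subgroup.center ↥(S : Subgroup G)).map (S : Subgroup G).subtype with hZ
  have h : Hyp S Z := by
    refine ⟨map_subtype_le _, ?_, fun n hn z hz => ?_, fun a ha => ?_, fun x hx hxZ T hxT => ?_⟩
    · rintro _ ⟨z, hz, rfl⟩ s hs
      exact (congrArg Subtype.val (mem_center_iff.1 hz ⟨s, hs⟩)).symm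
    · obtain ⟨z, hz, rfl⟩ := hz
      refine ⟨⟨n * z * n⁻¹, conj_mem_of_normalizer hn z.2⟩, mem_center_iff.2 fun y => Subtype.ext ?_, rfl⟩
      have hy := congrArg Subtype.val (mem_center_iff.1 hz
        ⟨n⁻¹ * y * n⁻¹⁻¹, conj_mem_of_normalizer (inv_mem hn) y.2⟩)
      simp only [Subgroup.coe_mul, inv_inv] at hy
      show (y : G) * (n * z * n⁻¹) = n * z * n⁻¹ * y
      calc (y : G) * (n * z * n⁻¹) = n * (n⁻¹ * y * n * z) * n⁻¹ := by group
        _ = n * (z * (n⁻¹ * y * n)) * n⁻¹ := by rw [hy]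
        _ = _ := by group
    · by_contra hcon
      push Not at hcon
      refine hna ⟨⟨fun x y => Subtype.ext ?_⟩⟩
      have hle : zpowers a ⊔ Z ≤ centralizer ((zpowers a ⊔ Z : Subgroup G) : Set G) := by
        have hza : ∀ z ∈ Z, ∀ w ∈ (S : Subgroup G), w * z = z * w := by
          rintro _ ⟨z, hz, rfl⟩ w hw
          exact congrArg Subtype.val (mem_center_iff.1 hz ⟨w, hw⟩)
        refine sup_le (zpowers_le.2 ?_) fun z hz => ?_
        · refine mem_centralizer_iff.2 fun w hw => ?_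
          have : zpowers a ⊔ Z ≤ centralizer ({a} : Set G) := sup_le
            (zpowers_le.2 (mem_centralizer_singleton_iff.2 rfl))
            (fun z hz => mem_centralizer_singleton_iff.2 (hza z hz a ha).symm)
          exact mem_centralizer_singleton_iff.1 (this hw)
        · exact mem_centralizer_iff.2 fun w hw =>
            hza z hz w (sup_le (zpowers_le.2 ha) (map_subtype_le _) hw)
      exact ((mem_centralizer_iff.1 (hle (hcon x x.2))) y (hcon y y.2)).symm
    · by_contra hne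
      exact hxZ ((Cfsg.Agent.S3183.result hCI S).2 T hne ⟨hx, hxT⟩).1
  set H := sylGen G with hH
  set O := Cfsg.oddCore H with hO
  set P := S.subtype (le_sylGen S) with hP
  have h0 := h.restrict H (le_sylGen S)
  have hSO : ∀ x ∈ (P : Subgroup H), x ∈ O → x = 1 := fun x hx hxO => by
    obtain ⟨j, hj⟩ := P.isPGroup' ⟨x, hx⟩
    refine orderOf_eq_one_iff.1 (Nat.eq_one_of_dvd_coprimes (a := 2 ^ j)
      (Nat.Coprime.pow_left j (Nat.coprime_two_left.2 (odd_card_oddCore (G := H)))) ?_ ?_)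
    · exact orderOf_dvd_of_pow_eq_one (congrArg Subtype.val hj)
    · exact (Subgroup.orderOf_mk x hxO).symm ▸ orderOf_dvd_natCard (⟨x, hxO⟩ : O)
  set g := QuotientGroup.mk' O with hg
  have hgs := QuotientGroup.mk'_surjective O
  have hb := h0.map g hgs fun x hx hx1 => by
    rw [hSO x hx ((QuotientGroup.eq_one_iff x).1 hx1)]; exact one_mem _
  have hgen := (noOddQuot_sylGen (G := G)).map g hgs
  by_cases hnn : ∃ T : Sylow 2 (H ⧸ O), T ≠ P.mapSurjective hgs
  swap
  · push Not at hnn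
    refine Or.inl (solvable_pLength ?_)
    set Pb := P.mapSurjective hgs with hPb
    haveI : Subsingleton (Sylow 2 (H ⧸ O)) := ⟨fun A B => (hnn A).trans (hnn B).symm⟩
    have htop := hgen.eq_top (Sylow.normal_of_subsingleton Pb) Pb le_rfl
    exact fun x => by
      obtain ⟨k, hk⟩ := Pb.isPGroup' ⟨x, htop ▸ mem_top x⟩
      exact ⟨k, congrArg Subtype.val hk⟩
  obtain ⟨R, hRn, hRZ, hRc, hF⟩ :=
    goal hmodel hkind _ (H ⧸ O) _ _ rfl hb (oddCore_quotient H) hgen hnn
  haveI := hRn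
  have hR2 : IsPGroup 2 R := (P.mapSurjective hgs).isPGroup'.to_le (hRZ.trans hb.le)
  rcases hsuz _ hF.model ((P.mapSurjective hgs).mapSurjective (QuotientGroup.mk'_surjective R)) with
    ⟨n, F, iF, iF', hn, hcard, ⟨e⟩⟩ | ⟨x, y, hx, hy, hx2, hy2, hxy⟩
  · exact Or.inr (Or.inr (Or.inl (alt_sl_five hna R hR2 hRc hn hcard e)))
  · rcases hF.model with ⟨n, F, iF, iF', hn, hcard, ⟨e⟩⟩ | hmod
    · exact Or.inr (Or.inr (Or.inl (alt_sl_five hna R hR2 hRc hn hcard e)))
    refine Or.inr (Or.inr (Or.inr (alt_rank_one h R hRc ⟨x, y, ?_, ?_, hx2, hy2, hxy⟩ hmod))) <;>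
    · have hle : ⁅(((P.mapSurjective hgs).mapSurjective (QuotientGroup.mk'_surjective R) : Sylow 2 _) : Subgroup ((H ⧸ O) ⧸ R)),
          (((P.mapSurjective hgs).mapSurjective (QuotientGroup.mk'_surjective R) : Sylow 2 _) : Subgroup ((H ⧸ O) ⧸ R))⁆ ≤
          ((⁅(S : Subgroup G), (S : Subgroup G)⁆).subgroupOf H).map ((QuotientGroup.mk' R).comp g) := by
        rw [Sylow.coe_mapSurjective, Sylow.coe_mapSurjective, ← map_commutator, ← map_commutator,
          Subgroup.map_map]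
        refine map_mono fun w hw => ?_
        have := mem_map_of_mem H.subtype hw
        rw [map_commutator, hP, Sylow.coe_subtype, map_subgroupOf_eq_of_le (le_sylGen S)] at this
        exact this
      exact hle (by assumption)

end Cfsg.Agent.CentralInter
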