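import Cfsg.Agent.Lib.CentralInter.Local

/-!
# The induction: reduced groups with central intersections

The inputs about the model groups are arguments here; `Main` supplies them.
-/

set_option autoImplicit false
set_option linter.unusedSectionVars false
set_option linter.style.haveILetI false

namespace Cfsg.Agent.CentralInter

open Subgroup

universe u

/-- A group with trivial intersections and trivial cores is a model group. -/
def ModelStmt : Prop :=
  ∀ (X : Type u) [Group X] [Finite X] (S : Sylow 2 X),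
    (∀ T : Sylow 2 X, T ≠ S → (S : Subgroup X) ⊓ (T : Subgroup X) = ⊥) → (∃ T : Sylow 2 X, T ≠ S) →
    (∃ s t : X, s ∈ (S : Subgroup X) ∧ t ∈ (S : Subgroup X) ∧ orderOf s = 2 ∧ orderOf t = 2 ∧ s ≠ t) →
    Cfsg.oddCore X = ⊥ → NoOddQuot X → IsModel X

/-- The two facts about model groups. -/
def KindStmt : Prop :=
  ∀ (Q : Type u) [Group Q] [Finite Q], IsModel Q → ∀ S : Sylow 2 Q, SylowKind S ∧ CoverKind S

/-- Strong induction on the order. -/
def Goal (n : ℕ) : Prop :=
  ∀ (G : Type u) [Group G] [Finite G] (S : Sylow 2 G) (Z : Subgroup G), Nat.card G = n → Hyp S Z →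
    Cfsg.oddCore G = ⊥ → NoOddQuot G → (∃ T : Sylow 2 G, T ≠ S) →
    ∃ (R : Subgroup G) (_ : R.Normal), R ≤ Z ∧ R ≤ center G ∧
      Facts (S.mapSurjective (QuotientGroup.mk'_surjective R))

variable {G : Type u} [Group G] [Finite G] {S : Sylow 2 G} {Z : Subgroup G}

theorem exists_preLocal (hkind : KindStmt.{u}) (h : Hyp S Z) (hO : Cfsg.oddCore G = ⊥)
    (hcen : center G = ⊥) (ih : ∀ m < Nat.card G, Goal.{u} m) {t : G} (htS : t ∈ (S : Subgroup G))
    (ht : orderOf t = 2) {T₀ : Sylow 2 G} (hT₀ : T₀ ≠ S) (htT : t ∈ (T₀ : Subgroup G)) :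
    ∃ D, PreLocal S Z t D := by
  haveI : Fact (Nat.Prime 2) := ⟨Nat.prime_two⟩
  have hcomm : ∀ T : Sylow 2 G, t ∈ (T : Subgroup G) → (T : Subgroup G) ≤ centralizer ({t} : Set G) := by
    intro T hT s hs
    rw [mem_centralizer_singleton_iff]
    rcases eq_or_ne T S with rfl | hne
    · exact (h.central t (h.mem_Z htS htT hT₀) s hs).symm
    · exact (h.comm_of_mem htS hT hne s hs).symm
  set C := ⨆ U : {U : Sylow 2 G // t ∈ (U : Subgroup G)}, ((U.1 : Sylow 2 G) : Subgroup G) with hC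
  have hTC : ∀ T : Sylow 2 G, t ∈ (T : Subgroup G) → (T : Subgroup G) ≤ C := fun T hT =>
    le_iSup_of_le (⟨T, hT⟩ : {U : Sylow 2 G // t ∈ (U : Subgroup G)}) le_rfl
  have hSC := hTC S htS
  have hCc : C ≤ centralizer ({t} : Set G) := iSup_le fun U => hcomm U.1 U.2
  have hCne : C ≠ ⊤ := fun e => Invol.ne_one ht (mem_bot.1 (hcen ▸ mem_center_iff.2 fun g =>
    mem_centralizer_singleton_iff.1 (hCc (e ▸ mem_top g))))
  have hcardC : Nat.card C < Nat.card G :=
    lt_of_le_of_ne (Nat.le_of_dvd Nat.card_pos (Subgroup.card_subgroup_dvd_card C))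
      fun e => hCne (Subgroup.eq_top_of_card_eq _ e)
  have hgenC : NoOddQuot C := by
    intro L hn hL
    haveI := hn
    have hle : C ≤ L.map C.subtype := iSup_le fun U x hx => by
      have hp : IsPGroup 2 ((U.1 : Subgroup G).subgroupOf C) :=
        U.1.isPGroup'.comap_of_injective C.subtype C.subtype_injective
      exact ⟨⟨x, hTC U.1 U.2 hx⟩, le_of_odd_index hL hp (mem_subgroupOf.2 hx), rfl⟩
    rw [eq_top_iff]
    intro x _
    obtain ⟨y, hy, e⟩ := hle x.2
    rwa [← Subtype.ext (show (y : G) = x from e)]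
  set P := S.subtype hSC with hP
  have hC0 := h.restrict C hSC
  -- `S` centralises the odd core of `C`
  set O := Cfsg.oddCore C with hOdef
  have hOn : (O.map C.subtype) ≤ centralizer ((S : Subgroup G) : Set G) := by
    refine (h.centralizes_or_cyclic (O.map C.subtype) ?_ fun s hs => ?_).resolve_right ?_
    · rw [Subgroup.card_map_of_injective C.subtype_injective]; exact odd_card_oddCore
    · have : (⟨s, hSC hs⟩ : C) ∈ normalizer (O : Set C) := by
        rw [normalizer_eq_top_iff.2 inferInstance]; trivial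
      exact le_normalizer_map C.subtype ⟨_, this, rfl⟩
    · rintro ⟨c, hc, hc1⟩
      obtain ⟨d, -, hdS, hd2, hfix⟩ := h.exists_fixed_of_cyclic hc hc1
      exact Invol.ne_one hd2 (mem_bot.1 (hcen ▸ h.mem_center_of_fixed hO hdS hd2 hfix))
  have hOc : O ≤ center C := hgenC.le_center P inferInstance fun x hx => by
    rw [mem_centralizer_iff]
    intro s hs
    rw [hP, SetLike.mem_coe, Sylow.coe_subtype, mem_subgroupOf] at hs
    exact Subtype.ext (mem_centralizer_iff.1 (hOn (mem_map_of_mem C.subtype hx)) s hs)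
  have hSO : ∀ x ∈ (P : Subgroup C), x ∈ O → x = 1 := fun x hx hxO => by
    obtain ⟨j, hj⟩ := P.isPGroup' ⟨x, hx⟩
    refine orderOf_eq_one_iff.1 (Nat.eq_one_of_dvd_coprimes (a := 2 ^ j)
      (Nat.Coprime.pow_left j (Nat.coprime_two_left.2 (odd_card_oddCore (G := C)))) ?_ ?_)
    · exact orderOf_dvd_of_pow_eq_one (congrArg Subtype.val hj)
    · exact (Subgroup.orderOf_mk x hxO).symm ▸ orderOf_dvd_natCard (⟨x, hxO⟩ : O)
  set f₁ := QuotientGroup.mk' O with hf₁
  have hf₁s := QuotientGroup.mk'_surjective O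
  have hC1 := hC0.map f₁ hf₁s fun x hx hx1 => by
    rw [hSO x hx ((QuotientGroup.eq_one_iff x).1 hx1)]; exact one_mem _
  have hkerc : f₁.ker ≤ center C := fun x hx => hOc ((QuotientGroup.eq_one_iff x).1 hx)
  have hnn1 : ∃ T : Sylow 2 (C ⧸ O), T ≠ P.mapSurjective hf₁s :=
    ⟨(T₀.subtype (hTC T₀ htT)).mapSurjective hf₁s, fun e => hT₀ (Sylow.subtype_injective
      (sylow_eq_of_map f₁ hkerc P _ (by rw [← Sylow.coe_mapSurjective hf₁s, ← Sylow.coe_mapSurjective hf₁s, e])))⟩
  have hlt : Nat.card (C ⧸ O) < Nat.card G :=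
    lt_of_le_of_lt (Nat.le_of_dvd Nat.card_pos (Subgroup.card_quotient_dvd_card O)) hcardC
  obtain ⟨R, hRn, hRZ, hRc, hF⟩ := ih _ hlt (C ⧸ O) _ _ rfl hC1 (oddCore_quotient C) (hgenC.map f₁ hf₁s) hnn1
  haveI := hRn
  set f := (QuotientGroup.mk' R).comp f₁ with hf
  have hfs : Function.Surjective f := (QuotientGroup.mk'_surjective R).comp hf₁s
  have hker : f.ker ≤ center C := by
    refine hgenC.le_center P inferInstance fun x hx => ?_
    rw [mem_centralizer_iff]
    intro s hs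
    have hxR : f₁ x ∈ R := (QuotientGroup.eq_one_iff _).1 hx
    set a := s * x * s⁻¹ * x⁻¹ with ha
    have haO : a ∈ O := by
      refine (QuotientGroup.eq_one_iff _).1 ?_
      show f₁ a = 1
      rw [ha, map_mul, map_mul, map_mul, map_inv, map_inv, mem_center_iff.1 (hRc hxR) (f₁ s),
        mul_inv_cancel_right, mul_inv_cancel]
    have hac := hOc haO
    have hpow : ∀ k : ℕ, s ^ k * x = a ^ k * (x * s ^ k) := by
      intro k
      induction k with
      | zero => simp
      | succ k ih =>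
        have hsx : s * x = a * x * s := by rw [ha]; group
        calc s ^ (k + 1) * x = s * (s ^ k * x) := by rw [pow_succ', mul_assoc]
          _ = s * a ^ k * (x * s ^ k) := by rw [ih, mul_assoc]
          _ = a ^ k * s * (x * s ^ k) := by rw [mem_center_iff.1 (pow_mem hac k) s]
          _ = a ^ k * (s * x) * s ^ k := by group
          _ = a ^ (k + 1) * (x * s ^ (k + 1)) := by rw [hsx, pow_succ, pow_succ' s]; group
    obtain ⟨j, hj⟩ := P.isPGroup' ⟨s, hs⟩
    have h1 := hpow (2 ^ j)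
    rw [show s ^ 2 ^ j = 1 from congrArg Subtype.val hj, one_mul, mul_one, right_eq_mul] at h1
    have h2 : a = 1 := by
      refine orderOf_eq_one_iff.1 (Nat.eq_one_of_dvd_coprimes (a := 2 ^ j)
        (Nat.Coprime.pow_left j (Nat.coprime_two_left.2 (odd_card_oddCore (G := C)))) (orderOf_dvd_of_pow_eq_one h1) ?_)
      exact (Subgroup.orderOf_mk a haO).symm ▸ orderOf_dvd_natCard (⟨a, haO⟩ : O)
    rw [ha, mul_inv_eq_one, mul_inv_eq_iff_eq_mul] at h2
    exact h2
  have hPmap : P.mapSurjective hfs = (P.mapSurjective hf₁s).mapSurjective (QuotientGroup.mk'_surjective R) :=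
    Sylow.ext (by simp only [Sylow.coe_mapSurjective, Subgroup.map_map]; rfl)
  have hF' : Facts (P.mapSurjective hfs) := hPmap ▸ hF
  obtain ⟨hk, hcov⟩ := hkind _ hF'.model (P.mapSurjective hfs)
  refine preLocal_of_map hSC f hfs hker (fun x hxS hx => ?_) hF' hk hcov hTC hT₀ htS htT
  have hxR : f₁ x ∈ R := (QuotientGroup.eq_one_iff _).1 hx
  obtain ⟨z, hz, hze⟩ := hRZ hxR
  have hxP : x ∈ (P : Subgroup C) := by rw [hP, Sylow.coe_subtype, mem_subgroupOf]; exact hxS
  have := hSO (z⁻¹ * x) (mul_mem (inv_mem (hC0.le hz)) hxP) ((QuotientGroup.eq_one_iff _).1 (by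
    show f₁ (z⁻¹ * x) = 1
    rw [map_mul, map_inv, hze, inv_mul_cancel]))
  rw [inv_mul_eq_one] at this
  exact this ▸ hz

theorem goal (hmodel : ModelStmt.{u}) (hkind : KindStmt.{u}) : ∀ n, Goal.{u} n := by
  intro n
  induction n using Nat.strong_induction_on with
  | _ n ihn =>
  intro G _ _ S Z hn h hO hgen hnn
  haveI : Fact (Nat.Prime 2) := ⟨Nat.prime_two⟩
  obtain ⟨T₁, hT₁⟩ := hnn
  set R := (S : Subgroup G).normalCore with hR
  have hRS : R ≤ (S : Subgroup G) := normalCore_le _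
  have hRT : R ≤ (T₁ : Subgroup G) := by
    obtain ⟨g, rfl⟩ := MulAction.exists_smul_eq G S T₁
    intro x hx
    rw [mem_smul_sylow]
    have := (normalCore_normal (S : Subgroup G)).conj_mem x hx g⁻¹
    rw [inv_inv] at this
    exact hRS this
  have hRZ : R ≤ Z := fun x hx => h.mem_Z (hRS hx) (hRT hx) hT₁
  have hRc : R ≤ center G := hgen.le_center S inferInstance fun x hx => by
    rw [mem_centralizer_iff]
    exact fun s hs => (h.central x (hRZ hx) s hs).symm
  refine ⟨R, inferInstance, hRZ, hRc, ?_⟩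
  set f := QuotientGroup.mk' R with hf
  have hfs := QuotientGroup.mk'_surjective R
  have hX := h.map f hfs fun x _ hx1 => hRZ ((QuotientGroup.eq_one_iff x).1 hx1)
  set Sb := S.mapSurjective hfs with hSb
  have hOX : Cfsg.oddCore (G ⧸ R) = ⊥ :=
    oddCore_quotient_central hO R (S.isPGroup'.to_le hRS) hRc
  have hgX := hgen.map f hfs
  have hcore : (Sb : Subgroup (G ⧸ R)).normalCore = ⊥ :=
    normalCore_mapSurjective S f hfs (QuotientGroup.ker_mk' R)
  have hcen : center (G ⧸ R) = ⊥ := by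
    by_contra hne
    obtain ⟨p, hp, hpd⟩ := Nat.exists_prime_and_dvd fun e => hne (Subgroup.eq_bot_of_card_eq _ e)
    haveI : Fact p.Prime := ⟨hp⟩
    obtain ⟨z, hz⟩ := exists_prime_orderOf_dvd_card' p hpd
    rw [← Subgroup.orderOf_coe] at hz
    have hzn : (zpowers (z : G ⧸ R)).Normal := ⟨fun x hx g => by
      rw [mem_center_iff.1 (zpowers_le.2 z.2 hx) g, mul_inv_cancel_right]; exact hx⟩
    have hz1 : (z : G ⧸ R) ≠ 1 := fun e => hp.ne_one (by rw [← hz, e, orderOf_one])
    rcases hp.eq_two_or_odd' with rfl | hodd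
    · have hp2 : IsPGroup 2 (zpowers (z : G ⧸ R)) :=
        IsPGroup.of_card (n := 1) (by rw [Nat.card_zpowers, hz, pow_one])
      obtain ⟨U, hU⟩ := hp2.exists_le_sylow
      obtain ⟨g, hg⟩ := MulAction.exists_smul_eq (G ⧸ R) U Sb
      have hle : zpowers (z : G ⧸ R) ≤ (Sb : Subgroup (G ⧸ R)) := fun x hx => by
        rw [← hg, mem_smul_sylow]
        have := hzn.conj_mem x hx g⁻¹
        rw [inv_inv] at this
        exact hU this
      haveI := hzn
      exact hz1 (mem_bot.1 (hcore.le (normal_le_normalCore.2 hle (mem_zpowers _))))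
    · exact hz1 (mem_bot.1 (hOX.le (le_oddCore hzn (by rw [Nat.card_zpowers, hz]; exact hodd)
        (mem_zpowers _))))
  have hnnX : ∃ T : Sylow 2 (G ⧸ R), T ≠ Sb := by
    by_contra hcon
    push Not at hcon
    haveI : Subsingleton (Sylow 2 (G ⧸ R)) := ⟨fun A B => (hcon A).trans (hcon B).symm⟩
    haveI : (Sb : Subgroup (G ⧸ R)).Normal := Sylow.normal_of_subsingleton Sb
    obtain ⟨s, hs, hsZ⟩ := hX.exists_not_mem
    have : s ∈ (Sb : Subgroup (G ⧸ R)).normalCore := normal_le_normalCore.2 le_rfl hs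
    rw [hcore, mem_bot] at this
    exact hsZ (this ▸ one_mem _)
  have hlt : ∀ m < Nat.card (G ⧸ R), Goal.{u} m := fun m hm =>
    ihn m (hm.trans_le ((Nat.le_of_dvd Nat.card_pos (Subgroup.card_quotient_dvd_card R)).trans hn.le))
  have hpre : ∀ t ∈ (Sb : Subgroup (G ⧸ R)), orderOf t = 2 → ∀ T : Sylow 2 (G ⧸ R), T ≠ Sb →
      t ∈ (T : Subgroup (G ⧸ R)) → ∃ D, PreLocal Sb (Z.map f) t D :=
    fun t htS ht T hT htT => exists_preLocal hkind hX hOX hcen hlt htS ht hT htT
  have hloc : ∀ t ∈ (Sb : Subgroup (G ⧸ R)), orderOf t = 2 → ∀ T : Sylow 2 (G ⧸ R), T ≠ Sb →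
      t ∈ (T : Subgroup (G ⧸ R)) → ∃ D, Local Sb (Z.map f) D ∧ t ∈ D := by
    intro t htS ht T hT htT
    obtain ⟨D, htD, hpair, hL⟩ := hpre t htS ht T hT htT
    refine ⟨D, hL fun U hU d hd hd1 hdU => ?_, htD⟩
    have hDS : D ≤ (Sb : Subgroup (G ⧸ R)) := (hpair T hT htT).symm.le.trans inf_le_left
    obtain ⟨j, hj⟩ := Local.exists_pow (D := (⊥ : Subgroup (G ⧸ R))) (hDS hd) (by rwa [mem_bot])
    have he : orderOf (d ^ j) = 2 := Invol.order_two_of_sq (mem_bot.1 hj.2.2) fun e => hj.2.1 (mem_bot.2 e)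
    have heD : d ^ j ∈ D := pow_mem hd j
    obtain ⟨D', -, hpair', -⟩ := hpre _ (hDS heD) he U hU (pow_mem hdU j)
    rw [hpair' U hU (pow_mem hdU j), ← hpair T hT htT]
    exact (hpair' T hT ((hpair T hT htT).symm.le heD).2).symm
  have hti := hX.ti_of_local hcen hOX hcore hloc
  have htwo : ∃ s t : G ⧸ R, s ∈ (Sb : Subgroup (G ⧸ R)) ∧ t ∈ (Sb : Subgroup (G ⧸ R)) ∧ orderOf s = 2 ∧
      orderOf t = 2 ∧ s ≠ t := by
    obtain ⟨s, hs, hsZ⟩ := hX.exists_not_mem
    obtain ⟨j, hj⟩ := Local.exists_pow (D := (⊥ : Subgroup (G ⧸ R))) hs fun e =>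
      hsZ ((mem_bot.1 e).symm ▸ one_mem _)
    have he : orderOf (s ^ j) = 2 := Invol.order_two_of_sq (mem_bot.1 hj.2.2) fun e => hj.2.1 (mem_bot.2 e)
    by_contra hcon
    push Not at hcon
    exact Invol.ne_one he (mem_bot.1 (hcen ▸ hX.mem_center_of_fixed hOX hj.1 he fun n hn =>
      (hcon _ _ (conj_mem_of_normalizer hn hj.1) hj.1 ((Invol.order_conj n _).trans he) he)))
  exact ⟨hti, htwo, hnnX, hmodel _ Sb hti hnnX htwo hOX hgX⟩

end Cfsg.Agent.CentralInter
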