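import Cfsg.Agent.Lib.CentralInter.Component
import Cfsg.Agent.S0231

/-!
# The centraliser of a shared involution gives a `Local` datum
-/

set_option autoImplicit false
set_option linter.unusedSectionVars false
set_option linter.style.haveILetI false

namespace Cfsg.Agent.CentralInter

open Subgroup
open scoped commutatorElement

universe u v

/-- What is known about a Sylow 2-subgroup of a model group: its squares and commutators. -/
def SylowKind {Q : Type u} [Group Q] (S : Sylow 2 Q) : Prop :=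
  (∀ x ∈ (S : Subgroup Q), x * x = 1) ∨
    ∃ x y : Q, x ∈ ⁅(S : Subgroup Q), (S : Subgroup Q)⁆ ∧ y ∈ ⁅(S : Subgroup Q), (S : Subgroup Q)⁆ ∧
      orderOf x = 2 ∧ orderOf y = 2 ∧ x ≠ y

/-- What is known about the 2-part of the covers of a model group. -/
def CoverKind {Q : Type u} [Group Q] (S : Sylow 2 Q) : Prop :=
  (∀ (C : Type u) [Group C] [Finite C] (f : C →* Q), Function.Surjective f → f.ker ≤ center C →
      ∀ x ∈ commutator C, f x = 1 → (∃ k : ℕ, x ^ 2 ^ k = 1) → x = 1) ∨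
    Nat.card S = 4 ∨
    (Nat.card S = 64 ∧ Nat.card (center (S : Subgroup Q)) = 8 ∧
      ∀ x ∈ (S : Subgroup Q), (∀ y ∈ (S : Subgroup Q), x * x * y = y * (x * x)) ∧
        (x * x = 1 ↔ ∀ y ∈ (S : Subgroup Q), x * y = y * x))

variable {H : Type u} [Group H] [Finite H] {Q : Type v} [Group Q]

/-- Two Sylow subgroups with the same image modulo a central kernel are equal. -/
theorem sylow_eq_of_map (f : H →* Q) (hker : f.ker ≤ center H) (A B : Sylow 2 H)
    (hle : (B : Subgroup H).map f ≤ (A : Subgroup H).map f) : B = A := by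
  haveI : Fact (Nat.Prime 2) := ⟨Nat.prime_two⟩
  have hN : (B : Subgroup H) ≤ normalizer ((A : Subgroup H) : Set H) := by
    intro b hb
    obtain ⟨a, ha, he⟩ := hle (mem_map_of_mem f hb)
    have hk : a⁻¹ * b ∈ center H := hker (by rw [MonoidHom.mem_ker, map_mul, map_inv, he, inv_mul_cancel])
    have := mul_mem (le_normalizer ha) (center_le_normalizer (s := ((A : Subgroup H) : Set H)) hk)
    rwa [mul_inv_cancel_left] at this
  have hBA : (B : Subgroup H) ≤ (A : Subgroup H) := fun b hb =>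
    (inf_le_right : (B : Subgroup H) ⊓ (A : Subgroup H) ≤ _) ((B.isPGroup'.inf_normalizer_sylow A).le ⟨hb, hN hb⟩)
  exact Sylow.ext (B.is_maximal' A.isPGroup' hBA).symm

variable {G : Type u} [Group G] [Finite G] {S : Sylow 2 G} {Z : Subgroup G}

/-- The local datum at an involution of `S`, before the trivial intersection property is known. -/
def PreLocal (S : Sylow 2 G) (Z : Subgroup G) (t : G) (D : Subgroup G) : Prop :=
  t ∈ D ∧ (∀ T : Sylow 2 G, T ≠ S → t ∈ (T : Subgroup G) → (S : Subgroup G) ⊓ (T : Subgroup G) = D) ∧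
    ((∀ T : Sylow 2 G, T ≠ S → ∀ d ∈ D, d ≠ 1 → d ∈ (T : Subgroup G) →
      (S : Subgroup G) ⊓ (T : Subgroup G) = D) → Local S Z D)

theorem preLocal_of_map {C : Subgroup G} (hSC : (S : Subgroup G) ≤ C) {Q : Type u} [Group Q] [Finite Q]
    (f : C →* Q) (hf : Function.Surjective f) (hker : f.ker ≤ center C)
    (hK : ∀ x : C, (x : G) ∈ (S : Subgroup G) → f x = 1 → (x : G) ∈ Z)
    (hF : Facts ((S.subtype hSC).mapSurjective hf)) (hk : SylowKind ((S.subtype hSC).mapSurjective hf))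
    (hc : CoverKind ((S.subtype hSC).mapSurjective hf)) {t : G}
    (hTC : ∀ T : Sylow 2 G, t ∈ (T : Subgroup G) → (T : Subgroup G) ≤ C) {T₀ : Sylow 2 G} (hT₀ : T₀ ≠ S)
    (htS : t ∈ (S : Subgroup G)) (htT : t ∈ (T₀ : Subgroup G)) : ∃ D, PreLocal S Z t D := by
  classical
  haveI : Fact (Nat.Prime 2) := ⟨Nat.prime_two⟩
  set P := S.subtype hSC with hP
  set Pb := P.mapSurjective hf with hPb
  have hPb' : (Pb : Subgroup Q) = (P : Subgroup C).map f := Sylow.coe_mapSurjective _ _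
  have hmemP : ∀ x : C, x ∈ (P : Subgroup C) ↔ (x : G) ∈ (S : Subgroup G) := fun x => by
    rw [hP, Sylow.coe_subtype, mem_subgroupOf]
  set D := ((P : Subgroup C) ⊓ f.ker).map C.subtype with hD
  have hDmem : ∀ x : C, (x : G) ∈ (S : Subgroup G) → ((x : G) ∈ D ↔ f x = 1) := fun x hx => by
    refine ⟨fun ⟨y, hy, e⟩ => ?_, fun e => ⟨x, ⟨(hmemP x).2 hx, e⟩, rfl⟩⟩
    rw [← Subtype.ext (show (y : G) = x from e)]; exact hy.2
  have hDS : D ≤ (S : Subgroup G) := by rintro _ ⟨y, hy, rfl⟩; exact (hmemP y).1 hy.1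
  -- the Sylow subgroups inside `C`
  have hpair : ∀ T : Sylow 2 G, T ≠ S → (T : Subgroup G) ≤ C → (S : Subgroup G) ⊓ (T : Subgroup G) = D := by
    intro T hT hTC'
    set P' := T.subtype hTC' with hP'
    have hne : P'.mapSurjective hf ≠ Pb := fun e => hT (Sylow.subtype_injective (sylow_eq_of_map f hker P P' (by
      rw [← Sylow.coe_mapSurjective hf, ← Sylow.coe_mapSurjective hf, e])))
    have hti := hF.ti _ hne
    refine le_antisymm (fun x hx => ?_) (le_inf hDS fun x hx => ?_)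
    · have hxC : x ∈ C := hSC hx.1
      refine (hDmem ⟨x, hxC⟩ hx.1).2 (mem_bot.1 (hti ▸ ⟨?_, ?_⟩))
      · rw [SetLike.mem_coe, hPb']
        exact mem_map_of_mem f ((hmemP ⟨x, hxC⟩).2 hx.1)
      · rw [SetLike.mem_coe, Sylow.coe_mapSurjective]
        refine mem_map_of_mem f ?_
        rw [hP', Sylow.coe_subtype, mem_subgroupOf]; exact hx.2
    · obtain ⟨c, hc⟩ := MulAction.exists_smul_eq C P P'
      obtain ⟨y, hy, rfl⟩ := hx
      have h1 : y ∈ (P' : Subgroup C) := by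
        rw [← hc, mem_smul_sylow, mul_assoc,
          ← mem_center_iff.1 (hker hy.2) c, inv_mul_cancel_left]
        exact hy.1
      rw [hP', Sylow.coe_subtype, mem_subgroupOf] at h1
      exact h1
  have hD₀ : (S : Subgroup G) ⊓ (T₀ : Subgroup G) = D := hpair T₀ hT₀ (hTC T₀ htT)
  refine ⟨D, hD₀ ▸ ⟨htS, htT⟩, fun T hT ht => hpair T hT (hTC T ht), fun hti => ?_⟩
  have hfix : ∀ c : C, ∀ d ∈ D, (c : G) * d * (c : G)⁻¹ = d := by
    rintro c _ ⟨y, hy, rfl⟩
    have := mem_center_iff.1 (hker hy.2) c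
    show (c : G) * (y : G) * (c : G)⁻¹ = y
    rw [show (c : G) * (y : G) = (y : G) * c from congrArg Subtype.val this, mul_inv_cancel_right]
  have hDInv : ∀ {x : G}, DInv S D x → ∃ hx : x ∈ C, orderOf (f ⟨x, hx⟩) = 2 ∧ f ⟨x, hx⟩ ∈ (Pb : Subgroup Q) := by
    intro x hx
    refine ⟨hSC hx.1, Invol.order_two_of_sq ?_ fun e => hx.2.1 ((hDmem ⟨x, hSC hx.1⟩ hx.1).2 e), ?_⟩
    · rw [← map_mul]
      exact (hDmem (⟨x, hSC hx.1⟩ * ⟨x, hSC hx.1⟩) (mul_mem hx.1 hx.1)).1 hx.2.2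
    · rw [hPb']; exact mem_map_of_mem f ((hmemP ⟨x, hSC hx.1⟩).2 hx.1)
  have hback : ∀ q ∈ (Pb : Subgroup Q), orderOf q = 2 → ∃ x : C, f x = q ∧ DInv S D (x : G) := by
    intro q hq hq2
    rw [hPb'] at hq
    obtain ⟨x, hx, rfl⟩ := hq
    have hxS := (hmemP x).1 hx
    refine ⟨x, rfl, hxS, fun e => Invol.ne_one hq2 ((hDmem x hxS).1 e), ?_⟩
    exact (hDmem (x * x) (mul_mem hxS hxS)).2 (by rw [map_mul, Invol.mul_self hq2])
  have hnn : ¬ (Pb : Subgroup Q).Normal := fun hn => by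
    obtain ⟨U, hU⟩ := hF.nn
    haveI := Sylow.unique_of_normal Pb hn
    exact hU (Subsingleton.elim U Pb)
  -- involutions of the model's Sylow subgroup are conjugate under its normalizer
  have hconj : ∀ p q : Q, p ∈ (Pb : Subgroup Q) → q ∈ (Pb : Subgroup Q) → orderOf p = 2 → orderOf q = 2 →
      ∃ g : Q, g * p * g⁻¹ = q ∧ g • Pb = Pb := by
    intro p q hp hq hp2 hq2
    obtain ⟨g, hg⟩ := isConj_iff.1 (Cfsg.Agent.S0231.result Pb hnn (fun g hg => by
      rw [inf_comm, ← Sylow.coe_subgroup_smul]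
      exact hF.ti _ fun e => hg (by rw [← Sylow.coe_subgroup_smul, e])) p q hp2 hq2)
    refine ⟨g, hg, by_contra fun hne => Invol.ne_one hq2 (mem_bot.1 (hF.ti _ hne ▸ ⟨hq, ?_⟩))⟩
    exact hg ▸ conj_mem_smul hp
  refine
    { le := fun x hx => ?_
      wit := ⟨T₀, hT₀, hD₀ ▸ inf_le_right⟩
      ti := hti
      move := fun x y hx hy => ?_
      two := ?_
      invol_central := fun x hx s hs => ?_
      kind := ?_
      cover := ?_ }
  · obtain ⟨y, hy, rfl⟩ := hx
    exact hK y ((hmemP y).1 hy.1) hy.2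
  · obtain ⟨hxC, hx2, hxP⟩ := hDInv hx
    obtain ⟨hyC, hy2, hyP⟩ := hDInv hy
    obtain ⟨g, hg, hgP⟩ := hconj _ _ hxP hyP hx2 hy2
    obtain ⟨c, rfl⟩ := hf g
    have hcS : c • P = P := sylow_eq_of_map f hker P (c • P) (by
      rintro _ ⟨w, hw, rfl⟩
      rw [SetLike.mem_coe, mem_smul_sylow] at hw
      rw [← hPb', ← hgP, mem_smul_sylow, ← map_inv, ← map_mul, ← map_mul, hPb']
      exact mem_map_of_mem f hw)
    have hn : (c : G) ∈ normalizer ((S : Subgroup G) : Set G) := by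
      refine mem_normalizer_iff.2 fun w => ?_
      constructor
      · intro hw
        have := (mem_normalizer_iff.1 (Sylow.smul_eq_iff_mem_normalizer.1 hcS) ⟨w, hSC hw⟩).1
          ((hmemP ⟨w, hSC hw⟩).2 hw)
        exact (hmemP _).1 this
      · intro hw
        have hwC : w ∈ C := by
          have := C.mul_mem (C.mul_mem (C.inv_mem c.2) (hSC hw)) c.2
          simpa [mul_assoc] using this
        have := (mem_normalizer_iff.1 (Sylow.smul_eq_iff_mem_normalizer.1 hcS) ⟨w, hwC⟩).2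
          ((hmemP (c * ⟨w, hwC⟩ * c⁻¹)).2 hw)
        exact (hmemP _).1 this
    refine ⟨c, hn, hfix c, ?_⟩
    refine (hDmem (⟨y, hyC⟩⁻¹ * (c * ⟨x, hxC⟩ * c⁻¹))
      (mul_mem (inv_mem hy.1) (conj_mem_of_normalizer hn hx.1))).2 ?_
    rw [map_mul, map_inv, map_mul, map_mul, map_inv, hg, inv_mul_cancel]
  · obtain ⟨p, q, hp, hq, hp2, hq2, hpq⟩ := hF.two
    obtain ⟨x, rfl, hx⟩ := hback p hp hp2
    obtain ⟨y, rfl, hy⟩ := hback q hq hq2
    refine ⟨x, y, hx, hy, fun e => hpq ?_⟩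
    have := (hDmem (x⁻¹ * y) (mul_mem (inv_mem hx.1) hy.1)).1 e
    rwa [map_mul, map_inv, inv_mul_eq_one] at this
  · obtain ⟨hxC, hx2, hxP⟩ := hDInv hx
    obtain ⟨z, hz, hz2⟩ : ∃ z : Q, (z ∈ (Pb : Subgroup Q) ∧ ∀ y ∈ (Pb : Subgroup Q), z * y = y * z) ∧
        orderOf z = 2 := by
      haveI : Nontrivial (Pb : Subgroup Q) :=
        ⟨⟨⟨_, hxP⟩, 1, fun e => Invol.ne_one hx2 (congrArg Subtype.val e)⟩⟩
      haveI := Pb.isPGroup'.center_nontrivial
      obtain ⟨z, hz⟩ := exists_prime_orderOf_dvd_card' (G := center (Pb : Subgroup Q)) 2 (by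
        obtain ⟨k, hk⟩ := IsPGroup.iff_card.1 (Pb.isPGroup'.to_subgroup (center (Pb : Subgroup Q)))
        rw [hk]
        refine dvd_pow_self 2 fun e => ?_
        rw [e, pow_zero] at hk
        exact (Finite.one_lt_card (α := center (Pb : Subgroup Q))).ne' hk)
      exact ⟨z.1.1, ⟨z.1.2, fun y hy => (congrArg Subtype.val (mem_center_iff.1 z.2 ⟨y, hy⟩)).symm⟩,
        by rw [Subgroup.orderOf_coe, Subgroup.orderOf_coe, hz]⟩
    obtain ⟨g, hg, hgP⟩ := hconj z _ hz.1 hxP hz2 hx2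
    have hsP : f ⟨s, hSC hs⟩ ∈ (Pb : Subgroup Q) := by
      rw [hPb']; exact mem_map_of_mem f ((hmemP ⟨s, hSC hs⟩).2 hs)
    have hgs : g⁻¹ * f ⟨s, hSC hs⟩ * g ∈ (Pb : Subgroup Q) := by
      rw [← mem_smul_sylow, hgP]; exact hsP
    refine (hDmem ⁅(⟨x, hxC⟩ : C), ⟨s, hSC hs⟩⁆ ?_).2 ?_
    · exact commutator_le_self _ (commutator_mem_commutator hx.1 hs)
    · rw [map_commutatorElement, commutatorElement_eq_one_iff_commute]
      show f ⟨x, hxC⟩ * f ⟨s, hSC hs⟩ = f ⟨s, hSC hs⟩ * f ⟨x, hxC⟩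
      rw [← hg]
      calc g * z * g⁻¹ * f ⟨s, hSC hs⟩ = g * (z * (g⁻¹ * f ⟨s, hSC hs⟩ * g)) * g⁻¹ := by group
        _ = g * ((g⁻¹ * f ⟨s, hSC hs⟩ * g) * z) * g⁻¹ := by rw [hz.2 _ hgs]
        _ = f ⟨s, hSC hs⟩ * (g * z * g⁻¹) := by group
  · rcases hk with hk | ⟨p, q, hp, -, hp2, -, -⟩
    · refine Or.inl fun x hx => (hDmem (⟨x, hSC hx⟩ * ⟨x, hSC hx⟩) (mul_mem hx hx)).2 ?_
      rw [map_mul]
      exact hk _ (by rw [hPb']; exact mem_map_of_mem f ((hmemP ⟨x, hSC hx⟩).2 hx))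
    · rw [hPb', ← map_commutator] at hp
      obtain ⟨x, hx, rfl⟩ := hp
      have hxS : (x : G) ∈ (S : Subgroup G) := (hmemP x).1 (commutator_le_self _ hx)
      refine Or.inr ⟨x, ?_, fun e => Invol.ne_one hp2 ((hDmem x hxS).1 e),
        (hDmem (x * x) (mul_mem hxS hxS)).2 (by rw [map_mul, Invol.mul_self hp2])⟩
      have := mem_map_of_mem C.subtype hx
      rw [map_commutator, hP, Sylow.coe_subtype, map_subgroupOf_eq_of_le hSC] at this
      exact this
  · let g : (S : Subgroup G) →* Q := f.comp (inclusion hSC)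
    have hgker : g.ker = D.subgroupOf (S : Subgroup G) := by
      ext x
      rw [MonoidHom.mem_ker, mem_subgroupOf]
      exact (hDmem ⟨x, hSC x.2⟩ x.2).symm
    have hgrange : g.range = (Pb : Subgroup Q) := by
      ext q
      rw [hPb', MonoidHom.mem_range, mem_map]
      exact ⟨fun ⟨x, e⟩ => ⟨inclusion hSC x, (hmemP _).2 x.2, e⟩,
        fun ⟨x, hx, e⟩ => ⟨⟨x, (hmemP x).1 hx⟩, e⟩⟩
    have hidx : D.relIndex (S : Subgroup G) = Nat.card Pb := by
      show (D.subgroupOf (S : Subgroup G)).index = _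
      rw [← hgker, Subgroup.index_ker, hgrange]
    rcases hc with hc | hc | ⟨h64, h8, hsq⟩
    · refine Or.inl (eq_bot_iff.2 fun x hx => mem_bot.2 ?_)
      have hxS : x ∈ (S : Subgroup G) := hDS hx.2
      have hxc : (⟨x, hSC hxS⟩ : C) ∈ commutator C := by
        have : x ∈ (⁅(P : Subgroup C), (P : Subgroup C)⁆).map C.subtype := by
          rw [map_commutator, hP, Sylow.coe_subtype, map_subgroupOf_eq_of_le hSC]; exact hx.1
        obtain ⟨y, hy, rfl⟩ := this
        exact commutator_mono le_top le_top hy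
      obtain ⟨j, hj⟩ := S.isPGroup' ⟨x, hxS⟩
      exact congrArg Subtype.val (hc C f hf hker _ hxc ((hDmem ⟨x, hSC hxS⟩ hxS).1 hx.2)
        ⟨j, Subtype.ext (show x ^ 2 ^ j = 1 from congrArg Subtype.val hj :)⟩)
    · exact Or.inr (Or.inl (hidx.trans hc))
    · set P₁ := ((center (Pb : Subgroup Q)).map (Pb : Subgroup Q).subtype).comap g with hP₁
      set P₂ := P₁.map (S : Subgroup G).subtype with hP₂
      have hP₁mem : ∀ x : (S : Subgroup G), x ∈ P₁ ↔ ∀ y ∈ (Pb : Subgroup Q), g x * y = y * g x := by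
        intro x
        rw [hP₁, mem_comap, mem_map]
        constructor
        · rintro ⟨z, hz, e⟩ y hy
          rw [← e]
          exact (congrArg Subtype.val (mem_center_iff.1 hz ⟨y, hy⟩)).symm
        · intro h
          exact ⟨⟨g x, hgrange.le ⟨x, rfl⟩⟩, mem_center_iff.2 fun y => Subtype.ext (h y y.2).symm, rfl⟩
      have hP₂S : P₂ ≤ (S : Subgroup G) := map_subtype_le _
      have hP₂mem : ∀ x (hx : x ∈ (S : Subgroup G)), x ∈ P₂ ↔ (⟨x, hx⟩ : (S : Subgroup G)) ∈ P₁ := fun x hx =>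
        ⟨fun ⟨y, hy, e⟩ => by rwa [show (⟨x, hx⟩ : (S : Subgroup G)) = y from Subtype.ext e.symm],
          fun e => ⟨_, e, rfl⟩⟩
      have hDP : D ≤ P₂ := fun x hx => (hP₂mem x (hDS hx)).2 ((hP₁mem _).2 fun y _ => by
        rw [show g ⟨x, hDS hx⟩ = 1 from (hDmem ⟨x, hSC (hDS hx)⟩ (hDS hx)).1 hx, one_mul, mul_one])
      have hsub : P₂.subgroupOf (S : Subgroup G) = P₁ := by
        ext x; rw [mem_subgroupOf]; exact hP₂mem x x.2
      have h2 : P₂.relIndex (S : Subgroup G) = 8 := by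
        show (P₂.subgroupOf (S : Subgroup G)).index = 8
        rw [hsub, hP₁, Subgroup.index_comap, hgrange]
        have h1 := Subgroup.relIndex_subgroupOf (H := (center (Pb : Subgroup Q)).map (Pb : Subgroup Q).subtype) (le_refl (Pb : Subgroup Q))
        have hci : (center (Pb : Subgroup Q)).index = 8 := by
          have := (center (Pb : Subgroup Q)).card_mul_index
          rw [show Nat.card (Pb : Subgroup Q) = 64 from h64, h8] at this
          omega
        show (((center (Pb : Subgroup Q)).map (Pb : Subgroup Q).subtype).subgroupOf (Pb : Subgroup Q)).index = 8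
        rwa [← Subgroup.comap_subtype, Subgroup.comap_map_eq_self_of_injective (Pb : Subgroup Q).subtype_injective]
      refine Or.inr (Or.inr ⟨P₂, hP₂S, hDP, ?_, h2, fun p hp => ⟨?_, fun s hs => ?_⟩, fun x hx => ?_⟩)
      · have := Subgroup.relIndex_mul_relIndex D P₂ (S : Subgroup G) hDP hP₂S
        rw [h2, hidx, show Nat.card Pb = 64 from h64] at this
        omega
      · have hpS := hP₂S hp
        refine (hDmem (⟨p, hSC hpS⟩ * ⟨p, hSC hpS⟩) (mul_mem hpS hpS)).2 ?_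
        rw [map_mul]
        exact (hsq _ (hgrange.le ⟨⟨p, hpS⟩, rfl⟩)).2.2 ((hP₁mem _).1 ((hP₂mem p hpS).1 hp))
      · have hpS := hP₂S hp
        refine (hDmem ⁅(⟨p, hSC hpS⟩ : C), ⟨s, hSC hs⟩⁆
          (commutator_le_self _ (commutator_mem_commutator hpS hs))).2 ?_
        rw [map_commutatorElement, commutatorElement_eq_one_iff_commute]
        exact (hP₁mem _).1 ((hP₂mem p hpS).1 hp) _ (hgrange.le ⟨⟨s, hs⟩, rfl⟩)
      · have hgx := hgrange.le ⟨⟨x, hx⟩, rfl⟩
        refine ⟨(hP₂mem _ (mul_mem hx hx)).2 ((hP₁mem _).2 fun y hy => ?_), fun e => (hP₂mem x hx).2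
          ((hP₁mem _).2 ((hsq _ hgx).2.1 ?_))⟩
        · rw [show g ⟨x * x, mul_mem hx hx⟩ = g ⟨x, hx⟩ * g ⟨x, hx⟩ from map_mul g ⟨x, hx⟩ ⟨x, hx⟩]
          exact (hsq _ hgx).1 y hy
        · rw [← map_mul]
          exact (hDmem (⟨x, hSC hx⟩ * ⟨x, hSC hx⟩) (mul_mem hx hx)).1 e

end Cfsg.Agent.CentralInter
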