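import Cfsg.Agent.Lib.CentralInter.Induction
import Cfsg.Agent.Lib.CentralInter.Groups
import Cfsg.Agent.Lib.SERegular.FromSE
import Cfsg.Agent.Lib.Suzuki.Minor
import Cfsg.Agent.Lib.Schur.Congr
import Cfsg.Agent.S0231
import Cfsg.Agent.S0252
import Cfsg.Agent.S0330
import Cfsg.Agent.S1136
import Cfsg.Agent.S1141
import Cfsg.Agent.S2086
import Cfsg.Agent.Lib.CentralInter.SU3Mult
import Cfsg.Agent.S2111

/-!
# The model groups

A group with trivial Sylow 2-intersections and two involutions in a Sylow subgroup, without odd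
core and without proper normal subgroups of odd index, is a model; and the facts on Sylow
2-subgroups and central extensions of the models.
-/

set_option autoImplicit false
set_option linter.unusedSectionVars false
set_option linter.style.haveILetI false

namespace Cfsg.Agent.CentralInter

open Subgroup MulAction
open scoped Pointwise

universe u v

section Recognition

variable {X : Type u} [Group X] [Finite X]

/-- A group with trivial Sylow 2-intersections is a model. -/
theorem model_of_ti (S : Sylow 2 X) (ti : ∀ T : Sylow 2 X, T ≠ S → (S : Subgroup X) ⊓ (T : Subgroup X) = ⊥)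
    (nn : ∃ T : Sylow 2 X, T ≠ S)
    (two : ∃ s t : X, s ∈ (S : Subgroup X) ∧ t ∈ (S : Subgroup X) ∧ orderOf s = 2 ∧ orderOf t = 2 ∧ s ≠ t)
    (hO : Cfsg.oddCore X = ⊥) (hgen : NoOddQuot X) : IsModel X := by
  classical
  haveI : Fact (Nat.Prime 2) := ⟨Nat.prime_two⟩
  obtain ⟨s₀, t₀, hs₀, ht₀, hs₀2, ht₀2, hst₀⟩ := two
  have hnn : ¬ (S : Subgroup X).Normal := fun hn => by
    obtain ⟨T, hT⟩ := nn
    haveI := Sylow.unique_of_normal S hn
    exact hT (Subsingleton.elim _ _)
  have hTI : ∀ g : X, MulAut.conj g • (S : Subgroup X) ≠ S → MulAut.conj g • (S : Subgroup X) ⊓ S = ⊥ := by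
    intro g hg
    rw [← Sylow.coe_subgroup_smul, inf_comm]
    exact ti _ fun e => hg (by rw [← Sylow.coe_subgroup_smul, e])
  set H : Subgroup X := normalizer ((S : Subgroup X) : Set X) with hH
  -- an element carrying a nontrivial element of `S` into `S` normalises it
  have hnorm : ∀ {x g : X}, x ≠ 1 → x ∈ (S : Subgroup X) → g * x * g⁻¹ ∈ (S : Subgroup X) → g ∈ H := by
    intro x g hx hxS hgx
    refine (Sylow.smul_eq_iff_mem_normalizer (g := g) (P := S)).1 ?_
    by_contra hne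
    have h1 : g * x * g⁻¹ ∈ (S : Subgroup X) ⊓ ((g • S : Sylow 2 X) : Subgroup X) :=
      ⟨hgx, conj_mem_smul hxS⟩
    rw [ti _ hne, mem_bot, mul_inv_eq_one] at h1
    exact hx (mul_eq_left.1 h1)
  -- a 2-element of the normalizer lies in `S`
  have hmem : ∀ {t : X}, t ∈ H → orderOf t = 2 → t ∈ (S : Subgroup X) := fun {t} htH ht => by
    have hp : IsPGroup 2 (zpowers t) := IsPGroup.of_card (n := 1) (by rw [Nat.card_zpowers, ht, pow_one])
    exact ((hp.inf_normalizer_sylow S).le ⟨mem_zpowers t, htH⟩).2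
  -- involutions of `S` are central in it
  obtain ⟨z, hz, hz2, hzc⟩ : ∃ z ∈ (S : Subgroup X), orderOf z = 2 ∧ ∀ s ∈ (S : Subgroup X), z * s = s * z := by
    haveI : Nontrivial ↥(S : Subgroup X) :=
      ⟨⟨⟨s₀, hs₀⟩, 1, fun e => Invol.ne_one hs₀2 (congrArg Subtype.val e)⟩⟩
    haveI := S.isPGroup'.center_nontrivial
    obtain ⟨w, hw⟩ := exists_prime_orderOf_dvd_card' (G := center ↥(S : Subgroup X)) 2 (by
      obtain ⟨k, hk⟩ := (S.isPGroup'.to_subgroup (center ↥(S : Subgroup X))).exists_card_eq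
      rw [hk]
      refine dvd_pow_self 2 fun e => ?_
      rw [e, pow_zero] at hk
      exact absurd hk (Finite.one_lt_card (α := center ↥(S : Subgroup X))).ne')
    refine ⟨((w : ↥(S : Subgroup X)) : X), (w : ↥(S : Subgroup X)).2, ?_, fun s hs => ?_⟩
    · rw [← Subgroup.orderOf_coe, ← Subgroup.orderOf_coe] at hw
      exact hw
    · exact (congrArg Subtype.val (mem_center_iff.1 w.2 ⟨s, hs⟩)).symm
  have hcent : ∀ {t : X}, t ∈ (S : Subgroup X) → orderOf t = 2 → ∀ s ∈ (S : Subgroup X), t * s = s * t := by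
    intro t ht ht2 s hs
    obtain ⟨g, hg⟩ := isConj_iff.1 (Cfsg.Agent.S0231.result S hnn hTI z t hz2 ht2)
    have hgH := hnorm (Invol.ne_one hz2) hz (hg ▸ ht)
    have h1 : g⁻¹ * s * g⁻¹⁻¹ ∈ (S : Subgroup X) := conj_mem_of_normalizer (inv_mem hgH) hs
    rw [inv_inv] at h1
    have h2 := hzc _ h1
    rw [← hg]
    calc g * z * g⁻¹ * s = g * (z * (g⁻¹ * s * g)) * g⁻¹ := by group
      _ = g * ((g⁻¹ * s * g) * z) * g⁻¹ := by rw [h2]
      _ = s * (g * z * g⁻¹) := by group
  have hcomm : ∀ s t : X, s ∈ H → t ∈ H → orderOf s = 2 → orderOf t = 2 → s * t = t * s :=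
    fun s t hsH htH hs ht => hcent (hmem hsH hs) hs t (hmem htH ht)
  have hSH : (S : Subgroup X) ≤ H := le_normalizer
  have hSE : Cfsg.IsStronglyEmbedded H := by
    refine ⟨fun e => hnn (normalizer_eq_top_iff.1 e), ?_, fun g hg => ?_⟩
    · rw [even_iff_two_dvd, ← hs₀2, ← Nat.card_zpowers]
      exact card_dvd_of_le (zpowers_le.2 (hSH hs₀))
    · by_contra hodd
      rw [Nat.not_odd_iff_even, even_iff_two_dvd] at hodd
      obtain ⟨⟨t, ht⟩, ht2⟩ := exists_prime_orderOf_dvd_card' 2 hodd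
      rw [Subgroup.orderOf_mk] at ht2
      obtain ⟨htH, y, hy, hyt⟩ := ht
      rw [MulEquiv.coe_toMonoidHom, MulAut.conj_apply] at hyt
      have hy2 : orderOf y = 2 := by rw [← Invol.order_conj g y, hyt]; exact ht2
      exact hg (hnorm (Invol.ne_one hy2) (hmem hy hy2) (hyt ▸ hmem htH ht2))
  have hcore : H.normalCore = ⊥ := by
    refine eq_bot_iff.2 ((le_oddCore H.normalCore_normal ?_).trans hO.le)
    rw [← Nat.not_even_iff_odd, even_iff_two_dvd]
    intro hdvd
    obtain ⟨⟨t, ht⟩, ht2⟩ := exists_prime_orderOf_dvd_card' 2 hdvd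
    rw [Subgroup.orderOf_mk] at ht2
    refine hSE.1 (eq_top_iff.2 fun g _ => ?_)
    have htS := hmem (normalCore_le H ht) ht2
    refine hnorm (Invol.ne_one ht2) htS (hmem (normalCore_le H ?_) ?_)
    · exact (normalCore_normal H).conj_mem t ht g
    · rw [Invol.order_conj, ht2]
  have hodd : Odd ((SERegular.invCent H).relIndex H) :=
    SERegular.odd_of_sylow (S.subtype hSH) fun x hx t ht htH => by
      rw [Sylow.coe_subtype, mem_subgroupOf] at hx
      exact hcent (hmem htH ht) ht _ hx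
  have hc := SERegular.cfg_of_se hSE hcomm
    ⟨s₀, t₀, hSH hs₀, hSH ht₀, hs₀2, ht₀2, hst₀⟩ hodd
  haveI : FaithfulSMul X (X ⧸ H) := by
    refine ⟨fun {g g'} h => ?_⟩
    have hker : g'⁻¹ * g ∈ (MulAction.toPermHom X (X ⧸ H)).ker := by
      rw [MonoidHom.mem_ker]
      refine Equiv.ext fun x => ?_
      show (g'⁻¹ * g) • x = x
      rw [mul_smul, h x, inv_smul_smul]
    rw [← Subgroup.normalCore_eq_ker, hcore, mem_bot, inv_mul_eq_one] at hker
    exact hker.symm
  obtain ⟨g₀, hg₀⟩ : ∃ g : X, g ∉ H := by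
    by_contra h
    push Not at h
    exact hSE.1 (eq_top_iff.2 fun g _ => h g)
  obtain ⟨t, R, hR, -, -⟩ := SERegular.exists_regular hc ⟨(g₀ : X ⧸ H), fun e => hg₀ (by
    rw [QuotientGroup.eq, mul_one, inv_mem_iff] at e; exact e)⟩
  obtain ⟨L, hLn, hLodd, hL⟩ := Cfsg.Agent.S1136.result hR
    ⟨s₀, t₀, Invol.ne_one hs₀2, Invol.ne_one ht₀2, hst₀, Invol.mul_self hs₀2, Invol.mul_self ht₀2,
      hcomm _ _ (hSH hs₀) (hSH ht₀) hs₀2 ht₀2⟩
  obtain rfl := hgen L hLn hLodd
  rcases hL with ⟨F, hFf, hFt, ⟨n, hn, hcard⟩, ⟨e⟩⟩ | ⟨F, hFf, hFt, m, hm, hcard, ⟨e⟩⟩ |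
    ⟨F, hFf, hFt, n, hn, hcard, ⟨e⟩⟩
  · exact Or.inl ⟨n, F, hFf, hFt, hn, hcard, ⟨topEquiv.symm.trans e⟩⟩
  · exact Or.inr (Or.inl ⟨m, F, hFf, hFt, hm, hcard, ⟨topEquiv.symm.trans e⟩⟩)
  · refine Or.inr (Or.inr ⟨n, F, hFf, hFt, hn, ?_, ⟨topEquiv.symm.trans e⟩⟩)
    rw [hcard, ← pow_mul, mul_comm, pow_mul]
    norm_num

end Recognition

section Transport

/-- Sylow subgroups correspond under isomorphisms. -/
theorem sylow_equiv {Q : Type u} {M : Type v} [Group Q] [Finite Q] [Group M] (e : Q ≃* M) (S : Sylow 2 Q)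
    (T : Sylow 2 M) : Nonempty (↥(S : Subgroup Q) ≃* ↥(T : Subgroup M)) := by
  haveI : Fact (Nat.Prime 2) := ⟨Nat.prime_two⟩
  haveI : Finite M := Finite.of_equiv Q e.toEquiv
  have e₁ : ↥(S : Subgroup Q) ≃* ↥((S.mapSurjective (f := e.toMonoidHom) e.surjective : Sylow 2 M) : Subgroup M) :=
    (e.subgroupMap (S : Subgroup Q)).trans (MulEquiv.subgroupCongr rfl)
  exact ⟨e₁.trans (Sylow.equiv _ T)⟩

theorem two_involutions_of_equiv {Q : Type u} [Group Q] {P : Type v} [Group P] {S : Subgroup Q}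
    (e : ↥S ≃* P) (h : ∃ a b : P, a ∈ commutator P ∧ b ∈ commutator P ∧ orderOf a = 2 ∧ orderOf b = 2 ∧ a ≠ b) :
    ∃ x y : Q, x ∈ ⁅S, S⁆ ∧ y ∈ ⁅S, S⁆ ∧ orderOf x = 2 ∧ orderOf y = 2 ∧ x ≠ y := by
  obtain ⟨a, b, ha, hb, ha2, hb2, hab⟩ := h
  have hc : ∀ c : P, c ∈ commutator P → ((e.symm c : ↥S) : Q) ∈ ⁅S, S⁆ := fun c hc => by
    rw [← map_subtype_commutator]
    refine mem_map_of_mem S.subtype ?_
    rw [commutator_def] at hc ⊢
    have := mem_map_of_mem e.symm.toMonoidHom hc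
    rw [Subgroup.map_commutator, map_top_of_surjective _ e.symm.surjective] at this
    exact this
  refine ⟨_, _, hc a ha, hc b hb, ?_, ?_, fun he => hab (e.symm.injective (Subtype.ext he))⟩ <;>
  · rw [Subgroup.orderOf_coe, MulEquiv.orderOf_eq]; assumption

end Transport

section Local

/-- An abelian group of exponent dividing four and order above four has two involutions. -/
theorem two_involutions_abelian {P : Type*} [Group P] [Finite P] {C : Subgroup P}
    (hab : ∀ x ∈ C, ∀ y ∈ C, x * y = y * x) (h4 : ∀ x ∈ C, x ^ 4 = 1) (hcard : 4 < Nat.card C) :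
    ∃ a b : P, a ∈ C ∧ b ∈ C ∧ orderOf a = 2 ∧ orderOf b = 2 ∧ a ≠ b := by
  letI : CommGroup C := { (inferInstance : Group C) with mul_comm := fun x y => Subtype.ext (hab _ x.2 _ y.2) }
  set f : C →* C := powMonoidHom 2 with hf
  have hle : f.range ≤ f.ker := by
    rintro _ ⟨x, rfl⟩
    rw [MonoidHom.mem_ker, hf, powMonoidHom_apply, powMonoidHom_apply, ← pow_mul]
    exact Subtype.ext (h4 _ x.2)
  have h1 := f.ker.card_eq_card_quotient_mul_card_subgroup
  rw [Nat.card_congr (QuotientGroup.quotientKerEquivRange f).toEquiv] at h1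
  have h2 := Nat.card_le_card_of_injective _ (Subgroup.inclusion_injective hle)
  have h3 : 2 < Nat.card f.ker := by
    by_contra h
    have := Nat.mul_le_mul (h2.trans (not_lt.1 h)) (not_lt.1 h)
    omega
  classical
  obtain ⟨a, b, ha, hb, hab'⟩ : ∃ a b : f.ker, a ≠ 1 ∧ b ≠ 1 ∧ a ≠ b := by
    haveI : Nontrivial f.ker := Finite.one_lt_card_iff_nontrivial.1 (by omega)
    obtain ⟨a, ha⟩ := exists_ne (1 : f.ker)
    by_contra hno
    push Not at hno
    haveI := Fintype.ofFinite f.ker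
    have hsub : (Finset.univ : Finset f.ker) ⊆ {1, a} := by
      intro b _
      rcases eq_or_ne b 1 with e | e
      · simp [e]
      · simp [(hno a b ha e).symm]
    have := (Finset.card_le_card hsub).trans (Finset.card_le_two)
    rw [Finset.card_univ, ← Nat.card_eq_fintype_card] at this
    omega
  have hord : ∀ c : f.ker, c ≠ 1 → orderOf ((c : C) : P) = 2 := by
    intro c hc
    refine orderOf_eq_prime ?_ fun e => hc (Subtype.ext (Subtype.ext e))
    exact congrArg Subtype.val c.2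
  exact ⟨_, _, (a : C).2, (b : C).2, hord a ha, hord b hb, fun e => hab' (Subtype.ext (Subtype.ext e))⟩

/-- The commutator subgroup of a Suzuki 2-group has two involutions. -/
theorem two_involutions_suzuki {P : Type*} [Group P] (h : Cfsg.IsSuzukiTwoGroup P) :
    ∃ a b : P, a ∈ commutator P ∧ b ∈ commutator P ∧ orderOf a = 2 ∧ orderOf b = 2 ∧ a ≠ b := by
  obtain ⟨hfin, h2, ⟨x, y, hxy⟩, ⟨a, b, hab, ha1, ha2, hb1, hb2⟩, K, -, hK⟩ := h
  haveI : Fact (Nat.Prime 2) := ⟨Nat.prime_two⟩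
  haveI : Nontrivial (commutator P) := by
    refine ⟨⟨⟨_, Subgroup.commutator_mem_commutator (mem_top x) (mem_top y)⟩, 1, fun e => hxy ?_⟩⟩
    exact commutatorElement_eq_one_iff_mul_comm.1 (congrArg Subtype.val e)
  obtain ⟨c, hc⟩ := exists_prime_orderOf_dvd_card' (G := commutator P) 2 (by
    obtain ⟨k, hk⟩ := (h2.to_subgroup (commutator P)).exists_card_eq
    rw [hk]
    refine dvd_pow_self 2 fun e => ?_
    rw [e, pow_zero] at hk
    exact absurd hk (Finite.one_lt_card (α := commutator P)).ne')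
  rw [← Subgroup.orderOf_coe] at hc
  have hmem : ∀ d : P, d ≠ 1 → d * d = 1 → d ∈ commutator P := fun d hd1 hd2 => by
    obtain ⟨k, hk, -⟩ := hK (c : P) d (Invol.ne_one hc) (Invol.mul_self hc) hd1 hd2
    have hch : (commutator P).map (k : MulAut P).toMonoidHom = commutator P := by
      rw [commutator_def, Subgroup.map_commutator, map_top_of_surjective _ (k : MulAut P).surjective]
    rw [← hch, ← hk]
    exact mem_map_of_mem _ c.2
  exact ⟨a, b, hmem a ha1 ha2, hmem b hb1 hb2, Invol.order_two_of_sq ha2 ha1,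
    Invol.order_two_of_sq hb2 hb1, hab⟩

end Local

section Multiplier

/-- The multiplier of `PSU₃(q)` has odd order. -/
theorem psu_multiplier {F : Type} [Field F] [Fintype F] {q : ℕ} (hF : Fintype.card F = q ^ 2) (hq : 4 ≤ q) :
    ∃ d : ℕ, Odd d ∧ Cfsg.HasCyclicSchurMultiplier (Cfsg.PSU 3 F q) d := by
  classical
  set d := Nat.gcd 3 (q + 1) with hd
  haveI : NeZero d := ⟨(Nat.gcd_pos_of_pos_left _ (by norm_num)).ne'⟩
  have hdd : d = 1 ∨ d = 3 := (Nat.dvd_prime Nat.prime_three).1 (Nat.gcd_dvd_left 3 _)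
  obtain ⟨s, hs, hne, hinv, hfix, -⟩ := HermStd.exists_sigma hF
  let π : Cfsg.SU 3 F q →* Cfsg.PSU 3 F q := QuotientGroup.mk' (center (Cfsg.SU 3 F q))
  have hπd : Nat.card π.ker = d := by
    rw [QuotientGroup.ker_mk', HermSU.card_center_SU hne hinv hs (by omega) hfix]
  haveI : IsCyclic π.ker := by
    rcases hdd with h | h
    · haveI : Subsingleton π.ker := (Nat.card_eq_one_iff_unique.1 (hπd.trans h)).1
      exact isCyclic_of_subsingleton
    · haveI := Fact.mk Nat.prime_three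
      exact isCyclic_of_prime_card (hπd.trans h)
  refine ⟨d, Odd.of_dvd_nat (by decide) (Nat.gcd_dvd_left 3 (q + 1)), ?_⟩
  exact Schur.hasSchurMultiplier_of_perfect (PSUMult.perfect_su hF le_rfl (fun _ => by omega))
    (PSUMult.mult_three_light hF (by omega)) π (QuotientGroup.mk'_surjective _) (QuotientGroup.ker_mk' _).le
    (mulEquivOfCyclicCardEq (by rw [hπd, Nat.card_congr Multiplicative.toAdd, Nat.card_zmod]))

end Multiplier

section Facts

variable {Q : Type u} [Group Q] [Finite Q]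

/-- The Sylow 2-subgroups of a model are elementary or have two involutions in the commutator subgroup. -/
theorem model_sylow (hQ : IsModel Q) (S : Sylow 2 Q) : SylowKind S := by
  rcases hQ with ⟨n, F, _, _, hn, hF, ⟨e⟩⟩ | ⟨m, F, _, _, hm, hF, ⟨e⟩⟩ | ⟨n, F, _, _, hn, hF, ⟨e⟩⟩
  · refine Or.inl fun x hx => e.injective ?_
    haveI : Fact (Nat.Prime 2) := ⟨Nat.prime_two⟩
    rw [map_mul, map_one]
    refine Groups.psl_exp (by omega) hF (S.mapSurjective (f := e.toMonoidHom) e.surjective) _ ?_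
    exact mem_map_of_mem e.toMonoidHom hx
  · refine Or.inr ?_
    have h : Suzuki.SzField F m := ⟨hm, hF⟩
    haveI : Finite (Cfsg.Sz F m) := Finite.of_equiv _ (e.trans (Suzuki.minorEquiv h).symm).toEquiv
    obtain ⟨T⟩ : Nonempty (Sylow 2 (Cfsg.Sz F m)) := Sylow.nonempty
    obtain ⟨-, hexp, hzc, hzcard⟩ := Cfsg.Agent.S0330.result hm hF T
    obtain ⟨f⟩ := sylow_equiv (e.trans (Suzuki.minorEquiv h).symm) S T
    refine two_involutions_of_equiv f (two_involutions_abelian (fun x hx y _ => ?_) (fun x _ => ?_) ?_)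
    · rw [← hzc] at hx
      exact (mem_center_iff.1 hx y).symm
    · have h4 := Monoid.pow_exponent_eq_one x
      rw [hexp] at h4
      exact h4
    · rw [← hzc, hzcard]
      calc 4 < 2 ^ 3 := by norm_num
        _ ≤ 2 ^ (2 * m + 1) := Nat.pow_le_pow_right (by norm_num) (by omega)
  · refine Or.inr ?_
    have hF' : Fintype.card F = (2 ^ n) ^ 2 := by
      rw [hF, ← pow_mul, mul_comm, pow_mul]; norm_num
    haveI : Finite (Cfsg.PSU 3 F (2 ^ n)) := Finite.of_equiv _ e.toEquiv
    obtain ⟨T⟩ : Nonempty (Sylow 2 (Cfsg.PSU 3 F (2 ^ n))) := Sylow.nonempty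
    obtain ⟨f⟩ := sylow_equiv e S T
    exact two_involutions_of_equiv f (two_involutions_suzuki (Cfsg.Agent.S1141.result hn hF' T).2.2)

/-- Multipliers of odd order kill central 2-elements in commutator subgroups. -/
theorem cover_of_odd {k : ℕ} (hk : Odd k) (h : Cfsg.HasCyclicSchurMultiplier Q k) {C : Type u} [Group C]
    (f : C →* Q) (hs : Function.Surjective f) (hc : f.ker ≤ center C) {x : C} (hx : x ∈ commutator C)
    (hfx : f x = 1) {j : ℕ} (hj : x ^ 2 ^ j = 1) : x = 1 := by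
  haveI : NeZero k := ⟨fun e => by simp [e] at hk⟩
  have hdvd := Schur.card_dvd_card_multiplier f hs hc
  rw [((Schur.hasCyclicSchurMultiplier_iff k).1 h).2] at hdvd
  have hmem : x ∈ f.ker ⊓ commutator C := ⟨hfx, hx⟩
  have h1 := (_root_.orderOf_dvd_natCard (⟨x, hmem⟩ : ↥(f.ker ⊓ commutator C))).trans hdvd
  rw [Subgroup.orderOf_mk] at h1
  obtain ⟨i, -, hi⟩ := (Nat.dvd_prime_pow Nat.prime_two).1 (orderOf_dvd_of_pow_eq_one hj)
  rw [hi] at h1
  rcases Nat.eq_zero_or_pos i with rfl | h0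
  · exact orderOf_eq_one_iff.1 (by rw [hi, pow_zero])
  · exact absurd (hk.of_dvd_nat h1) (Nat.not_odd_iff_even.2 ((even_two).pow_of_ne_zero h0.ne'))

/-- Central extensions of a model: no 2-part, or the two exceptional Sylow subgroups. -/
theorem model_cover (hQ : IsModel Q) (S : Sylow 2 Q) : CoverKind S := by
  haveI : Fact (Nat.Prime 2) := ⟨Nat.prime_two⟩
  rcases hQ with ⟨n, F, _, _, hn, hF, ⟨e⟩⟩ | ⟨m, F, _, _, hm, hF, ⟨e⟩⟩ | ⟨n, F, _, _, hn, hF, ⟨e⟩⟩
  · rcases eq_or_lt_of_le hn with rfl | hn3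
    · refine Or.inr (Or.inl ?_)
      obtain ⟨a⟩ := Cfsg.Agent.S0252.result (F := F) (by rw [hF]; norm_num)
      have h60 : Nat.card Q = 60 := by
        rw [Nat.card_congr (e.trans a).toEquiv, nat_card_alternatingGroup, Nat.card_eq_fintype_card,
          Fintype.card_fin]
        rfl
      obtain ⟨k, hk⟩ := S.isPGroup'.exists_card_eq
      have h1 := (S : Subgroup Q).card_mul_index
      rw [hk, h60] at h1
      have h2 := S.not_dvd_index
      have hk6 : k < 6 := by
        by_contra h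
        have := Nat.le_of_dvd (by norm_num) (h60 ▸ hk ▸ (S : Subgroup Q).card_subgroup_dvd_card)
        have := (Nat.pow_le_pow_right (show 0 < 2 by norm_num) (not_lt.1 h)).trans this
        norm_num at this
      rw [hk]
      interval_cases k <;> omega
    · refine Or.inl fun C _ _ f hs hc x hx hfx ⟨j, hj⟩ => ?_
      have h8 : 8 ≤ 2 ^ n := le_trans (by norm_num) (Nat.pow_le_pow_right (show 0 < 2 by norm_num) hn3)
      have hmult := Schur.hasCyclicSchurMultiplier_of_mulEquiv e.symm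
        (Cfsg.Agent.S2086.result hF 2 le_rfl (fun _ => by omega) (by
          simp only [Set.mem_insert_iff, Set.mem_singleton_iff, Prod.mk.injEq, not_or]
          refine ⟨by omega, ?_, by omega, by omega, by omega⟩
          rintro ⟨-, h⟩
          have h2 : 2 ∣ 2 ^ n := dvd_pow_self 2 (by omega)
          omega))
      refine cover_of_odd ?_ hmult f hs hc hx hfx hj
      have h2 : 2 ∣ 2 ^ n := dvd_pow_self 2 (by omega)
      rw [show Nat.gcd 2 (2 ^ n - 1) = 1 from
        (Nat.prime_two.coprime_iff_not_dvd.2 (by omega))]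
      exact odd_one
  · have h : Suzuki.SzField F m := ⟨hm, hF⟩
    rcases eq_or_lt_of_le hm with rfl | hm2
    · refine Or.inr (Or.inr ?_)
      haveI : Finite (Cfsg.Sz F 1) := Finite.of_equiv _ (e.trans (Suzuki.minorEquiv h).symm).toEquiv
      obtain ⟨g⟩ := sylow_equiv (e.trans (Suzuki.minorEquiv h).symm) S (Suzuki.rootSylow h)
      obtain ⟨h64, -, -, h8⟩ := Cfsg.Agent.S0330.result hm hF (Suzuki.rootSylow h)
      refine ⟨(Nat.card_congr g.toEquiv).trans (h64.trans (by norm_num)),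
        (Nat.card_congr (Subgroup.centerCongr g).toEquiv).trans (h8.trans (by norm_num)), fun x hx => ?_⟩
      have hzc : ∀ w ∈ Suzuki.zGroup h, ∀ v ∈ Suzuki.rootGroup h, w * v = v * w := by
        rintro _ ⟨b, rfl⟩ _ ⟨c, d, rfl⟩
        exact Suzuki.T_zero_central h b c d
      have key : ∀ y : Q, ∀ hy : y ∈ (S : Subgroup Q),
          ((g ⟨y, hy⟩ : ↥(Suzuki.rootSylow h : Subgroup (Cfsg.Sz F 1))) : Cfsg.Sz F 1) ∈ Suzuki.zGroup h →
          ∀ s ∈ (S : Subgroup Q), y * s = s * y := by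
        intro y hy hz s hs
        have e1 : g (⟨y, hy⟩ * ⟨s, hs⟩) = g (⟨s, hs⟩ * ⟨y, hy⟩) := by
          rw [map_mul, map_mul]
          exact Subtype.ext (hzc _ hz _ (g ⟨s, hs⟩).2)
        exact congrArg Subtype.val (g.injective e1)
      refine ⟨key (x * x) (mul_mem hx hx) ?_, fun hxx => key x hx ?_, fun hxc => ?_⟩
      · rw [show (⟨x * x, mul_mem hx hx⟩ : ↥(S : Subgroup Q)) = ⟨x, hx⟩ * ⟨x, hx⟩ from rfl, map_mul]
        obtain ⟨a, b, hab⟩ := (g ⟨x, hx⟩).2
        rw [Subgroup.coe_mul, hab, Suzuki.T_sq]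
        exact ⟨_, rfl⟩
      · refine Suzuki.involution_in_rootGroup h (g ⟨x, hx⟩).2 ?_
        rw [← Subgroup.coe_mul, ← map_mul, show (⟨x, hx⟩ : ↥(S : Subgroup Q)) * ⟨x, hx⟩ = 1 from Subtype.ext hxx,
          map_one, Subgroup.coe_one]
      · have hgc : g ⟨x, hx⟩ ∈ center ↥(Suzuki.rootSylow h : Subgroup (Cfsg.Sz F 1)) :=
          mem_center_iff.2 fun w => by
            obtain ⟨v, rfl⟩ := g.surjective w
            rw [← map_mul, ← map_mul]
            exact congrArg g (Subtype.ext (hxc v v.2).symm)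
        have hgz := mem_subgroupOf.1 ((Suzuki.center_rootGroup h).le hgc)
        obtain ⟨b, hb⟩ := hgz
        have e1 : g (⟨x, hx⟩ * ⟨x, hx⟩) = g 1 := by
          rw [map_mul, map_one]
          refine Subtype.ext ?_
          rw [Subgroup.coe_mul, Subgroup.coe_one, hb, Suzuki.T_sq, mul_zero]
          exact (Suzuki.eq_one_iff_T h).2 ⟨rfl, rfl⟩
        exact congrArg Subtype.val (g.injective e1)
    · exact Or.inl fun C _ _ f hs hc x hx hfx ⟨j, hj⟩ => cover_of_odd odd_one
        (Schur.hasCyclicSchurMultiplier_of_mulEquiv e.symm (Cfsg.Agent.S2111.result hm2 hF)) f hs hc hx hfx hj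
  · refine Or.inl fun C _ _ f hs hc x hx hfx ⟨j, hj⟩ => ?_
    have hF' : Fintype.card F = (2 ^ n) ^ 2 := by
      rw [hF, ← pow_mul, mul_comm, pow_mul]; norm_num
    have h4 : 4 ≤ 2 ^ n := le_trans (by norm_num) (Nat.pow_le_pow_right (show 0 < 2 by norm_num) hn)
    obtain ⟨d, hd, hm⟩ := psu_multiplier hF' h4
    exact cover_of_odd hd (Schur.hasCyclicSchurMultiplier_of_mulEquiv e.symm hm) f hs hc hx hfx hj

end Facts

/-- The input on recognition of models. -/
theorem modelStmt : ModelStmt.{u} := fun _ _ _ S ti nn two hO hgen => model_of_ti S ti nn two hO hgen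

/-- The input on the Sylow subgroups and covers of models. -/
theorem kindStmt : KindStmt.{u} := fun _ _ _ hQ S => ⟨model_sylow hQ S, model_cover hQ S⟩

end Cfsg.Agent.CentralInter
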