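import Cfsg.Agent.Lib.UniqueInvol.Quotient

/-!
# Groups with a central subgroup whose quotient has one involution

Such a 2-group is abelian over a cyclic quotient or has cyclic commutator subgroup.
-/

set_option autoImplicit false
set_option linter.unusedSectionVars false
set_option linter.style.haveILetI false

namespace Cfsg.Agent.CentralInter

open Subgroup

variable {P : Type*} [Group P]

/-- An abelian subgroup of index two and cyclic over the centre gives a cyclic commutator subgroup. -/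
theorem derived_cyclic (N : Subgroup P) (hN : N ≤ center P) (a b : P)
    (hb : b ∉ zpowers a ⊔ N)
    (hmul : ∀ g h : P, g ∉ zpowers a ⊔ N → h ∉ zpowers a ⊔ N → g * h ∈ zpowers a ⊔ N) :
    ∃ c : P, commutator P ≤ zpowers c := by
  set A := zpowers a ⊔ N with hA
  have haA : a ∈ A := mem_sup_left (mem_zpowers a)
  have hcomm : ∀ x ∈ A, a * x = x * a := by
    intro x hx
    have : A ≤ centralizer ({a} : Set P) := sup_le (zpowers_le.2 (mem_centralizer_singleton_iff.2 rfl))
      (fun n hn => mem_centralizer_singleton_iff.2 ((mem_center_iff.1 (hN hn) a).symm))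
    exact (mem_centralizer_singleton_iff.1 (this hx)).symm
  have hbb : b * b ∈ A := hmul b b hb hb
  have hbinv : b⁻¹ ∉ A := fun e => hb (by simpa using inv_mem e)
  have hconj : b * a⁻¹ * b⁻¹ ∈ A := by
    refine hmul _ _ (fun e => hb ?_) hbinv
    have := mul_mem e haA
    rwa [inv_mul_cancel_right] at this
  set c := a * b * a⁻¹ * b⁻¹ with hc
  have hcA : c ∈ A := by
    rw [hc, show a * b * a⁻¹ * b⁻¹ = a * (b * a⁻¹ * b⁻¹) by group]
    exact mul_mem haA hconj
  have hbc : b * c * b⁻¹ = c⁻¹ := by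
    calc b * c * b⁻¹ = b * a * b⁻¹ * (b * b * a⁻¹ * (b * b)⁻¹) := by rw [hc]; group
      _ = b * a * b⁻¹ * a⁻¹ := by
          have h1 := hcomm _ hbb
          have h2 : b * b * a⁻¹ = a⁻¹ * (b * b) := by
            rw [eq_inv_mul_iff_mul_eq, ← mul_assoc a, h1, mul_inv_cancel_right]
          rw [h2, mul_inv_cancel_right]
      _ = c⁻¹ := by rw [hc]; group
  -- the normalizer of `zpowers c` is everything
  have hmem : ∀ g : P, ∃ x ∈ A, g = x ∨ g = x * b := by
    intro g
    by_cases hg : g ∈ A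
    · exact ⟨g, hg, Or.inl rfl⟩
    · refine ⟨g * b⁻¹, hmul g _ hg hbinv, Or.inr ?_⟩
      rw [inv_mul_cancel_right]
  have hcx : ∀ x ∈ A, x * c * x⁻¹ = c := by
    intro x hx
    have hle : A ≤ centralizer ({c} : Set P) := by
      refine sup_le (zpowers_le.2 (mem_centralizer_singleton_iff.2 (hcomm c hcA))) fun n hn => ?_
      exact mem_centralizer_singleton_iff.2 ((mem_center_iff.1 (hN hn) c).symm)
    rw [mem_centralizer_singleton_iff.1 (hle hx), mul_inv_cancel_right]
  haveI hnorm : (zpowers c).Normal := by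
    refine ⟨fun x hx g => ?_⟩
    obtain ⟨k, rfl⟩ := mem_zpowers_iff.1 hx
    rw [← conj_zpow]
    refine zpow_mem ?_ k
    obtain ⟨y, hy, e | e⟩ := hmem g
    · rw [e, hcx y hy]; exact mem_zpowers c
    · rw [e, show y * b * c * (y * b)⁻¹ = y * (b * c * b⁻¹) * y⁻¹ by group, hbc, ← conj_inv, hcx y hy]
      exact inv_mem (mem_zpowers c)
  refine ⟨c, ?_⟩
  rw [_root_.commutator_def, commutator_le]
  intro g _ h _
  rw [← QuotientGroup.eq_one_iff, ← QuotientGroup.mk'_apply, map_commutatorElement,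
    commutatorElement_eq_one_iff_commute]
  set f := QuotientGroup.mk' (zpowers c) with hf
  have hab : Commute (f a) (f b) := by
    rw [← commutatorElement_eq_one_iff_commute, ← map_commutatorElement, hf, QuotientGroup.mk'_apply,
      QuotientGroup.eq_one_iff, commutatorElement_def]
    exact mem_zpowers c
  have hNf : ∀ n ∈ N, ∀ w, Commute (f n) (f w) := fun n hn w =>
    (Commute.map ((mem_center_iff.1 (hN hn) w).symm) f)
  have hAf : ∀ x ∈ A, ∀ y ∈ A, Commute (f x) (f y) := by
    intro x hx y hy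
    refine Commute.map ?_ f
    have hle : A ≤ centralizer ({x} : Set P) := by
      refine sup_le (zpowers_le.2 (mem_centralizer_singleton_iff.2 (hcomm x hx))) fun n hn => ?_
      exact mem_centralizer_singleton_iff.2 ((mem_center_iff.1 (hN hn) x).symm)
    exact (mem_centralizer_singleton_iff.1 (hle hy)).symm
  have hbA : ∀ x ∈ A, Commute (f b) (f x) := by
    have hle : A ≤ (centralizer ({f b} : Set (P ⧸ zpowers c))).comap f :=
      sup_le (zpowers_le.2 (mem_centralizer_singleton_iff.2 hab.eq))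
        (fun n hn => mem_centralizer_singleton_iff.2 (hNf n hn b).eq)
    intro x hx
    exact (mem_centralizer_singleton_iff.1 (mem_comap.1 (hle hx))).symm
  obtain ⟨x, hx, e | e⟩ := hmem g <;> obtain ⟨y, hy, e' | e'⟩ := hmem h <;> subst e <;> subst e'
  · exact hAf _ hx _ hy
  · rw [map_mul]; exact (hAf _ hx _ hy).mul_right (hbA _ hx).symm
  · rw [map_mul]; exact (hAf _ hx _ hy).mul_left (hbA _ hy)
  · rw [map_mul, map_mul]
    exact ((hAf _ hx _ hy).mul_right (hbA _ hx).symm).mul_left
      ((hbA _ hy).mul_right (Commute.refl _))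

variable [Finite P]

/-- A 2-group with central `N` and one involution in the quotient. -/
theorem cyclic_or_derived_cyclic (hP : IsPGroup 2 P) (N : Subgroup P) [N.Normal] (hN : N ≤ center P)
    (hu : ∃! x : P ⧸ N, orderOf x = 2) :
    (∃ a : P, zpowers a ⊔ N = ⊤) ∨ ∃ c : P, commutator P = zpowers c ∧ c ≠ 1 := by
  haveI : Fact (Nat.Prime 2) := ⟨Nat.prime_two⟩
  have hlift : ∀ a g : P, g ∈ zpowers a ⊔ N ↔ (g : P ⧸ N) ∈ zpowers (a : P ⧸ N) := by
    intro a g
    constructor
    · intro h
      have : zpowers a ⊔ N ≤ (zpowers (a : P ⧸ N)).comap (QuotientGroup.mk' N) :=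
        sup_le (zpowers_le.2 (mem_zpowers _)) fun n hn => by
          rw [mem_comap, QuotientGroup.mk'_apply, (QuotientGroup.eq_one_iff n).2 hn]; exact one_mem _
      exact mem_comap.1 (this h)
    · intro h
      obtain ⟨k, n, hn, rfl⟩ := UniqueInvol.mem_zpowers_mk h
      exact mul_mem (mem_sup_left (zpow_mem (mem_zpowers a) k)) (mem_sup_right hn)
  by_cases hab : IsMulCommutative (P ⧸ N)
  · left
    have hR : BrauerSuzuki.RankOne (P ⧸ N) := fun x y hx hy _ => hu.unique hx hy
    have hc := BrauerSuzuki.abCyclic hR ((hP.to_quotient N).to_subgroup ⊤) ⊤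
      ⟨⟨fun x y => Subtype.ext (Subtype.ext (hab.is_comm.comm x.1.1 y.1.1))⟩⟩
    obtain ⟨w, hw⟩ := hc.exists_generator
    obtain ⟨a, ha⟩ := QuotientGroup.mk_surjective (w.1.1)
    refine ⟨a, eq_top_iff.2 fun g _ => (hlift a g).2 ?_⟩
    obtain ⟨k, hk⟩ := mem_zpowers_iff.1 (hw ⟨⟨(g : P ⧸ N), mem_top _⟩, mem_top _⟩)
    exact ⟨k, by rw [ha]; exact congrArg (fun z => z.1.1) hk⟩
  · right
    obtain ⟨a, hmul, h4, -⟩ := UniqueInvol.exists_lift hP N hab hu
    obtain ⟨b, hb⟩ : ∃ b, b ∉ zpowers a ⊔ N := by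
      by_contra hcon
      push Not at hcon
      refine hab ⟨⟨fun x y => ?_⟩⟩
      obtain ⟨g, rfl⟩ := QuotientGroup.mk_surjective x
      obtain ⟨h, rfl⟩ := QuotientGroup.mk_surjective y
      obtain ⟨i, hi⟩ := mem_zpowers_iff.1 ((hlift a g).1 (hcon g))
      obtain ⟨j, hj⟩ := mem_zpowers_iff.1 ((hlift a h).1 (hcon h))
      rw [← hi, ← hj, ← zpow_add, ← zpow_add, add_comm]
    obtain ⟨c, hc⟩ := derived_cyclic N hN a b hb fun g h hg hh => (hlift a _).2
      (hmul g h (fun e => hg ((hlift a g).2 e)) (fun e => hh ((hlift a h).2 e)))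
    have hne : commutator P ≠ ⊥ := fun e => hab ⟨⟨fun x y => by
      obtain ⟨g, rfl⟩ := QuotientGroup.mk_surjective x
      obtain ⟨h, rfl⟩ := QuotientGroup.mk_surjective y
      have : g * h * g⁻¹ * h⁻¹ ∈ commutator P := commutator_mem_commutator (mem_top g) (mem_top h)
      rw [e, mem_bot, mul_inv_eq_one, mul_inv_eq_iff_eq_mul] at this
      exact Commute.map (show Commute g h from this) (QuotientGroup.mk' N)⟩⟩
    haveI : IsCyclic (commutator P) :=
      isCyclic_of_injective (Subgroup.inclusion hc) (Subgroup.inclusion_injective hc)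
    obtain ⟨d, hd⟩ := IsCyclic.exists_generator (α := commutator P)
    refine ⟨d.1, le_antisymm (fun x hx => ?_) (zpowers_le.2 d.2), fun e => hne ?_⟩
    · obtain ⟨k, hk⟩ := mem_zpowers_iff.1 (hd ⟨x, hx⟩)
      exact ⟨k, congrArg Subtype.val hk⟩
    · refine eq_bot_iff.2 fun x hx => ?_
      obtain ⟨k, hk⟩ := mem_zpowers_iff.1 (hd ⟨x, hx⟩)
      rw [mem_bot, ← show (d.1) ^ k = x from congrArg Subtype.val hk, e, one_zpow]

end Cfsg.Agent.CentralInter
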