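import Cfsg.Agent.Lib.CentralInter.Basic
import Cfsg.Agent.Lib.CentralInter.Quat
import Cfsg.Agent.Lib.Solvable.Coprime

/-!
# Odd subgroups normalised by `S`

`S` centralises each of them unless its commutator subgroup is cyclic and not trivial.
-/

set_option autoImplicit false
set_option linter.unusedSectionVars false
set_option linter.style.haveILetI false

namespace Cfsg.Agent.CentralInter.Hyp

open Subgroup

universe u

variable {G : Type u} [Group G] [Finite G] {S : Sylow 2 G} {Z : Subgroup G} (h : Hyp S Z)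
include h

theorem inf_odd_eq_bot {O : Subgroup G} (hodd : Odd (Nat.card O)) : (S : Subgroup G) ⊓ O = ⊥ := by
  haveI : Fact (Nat.Prime 2) := ⟨Nat.prime_two⟩
  obtain ⟨k, hk⟩ := IsPGroup.iff_card.1 S.isPGroup'
  exact (Subgroup.disjoint_of_coprime_natCard (hk ▸ Nat.Coprime.pow_left k (Nat.coprime_two_left.2 hodd))).eq_bot

theorem inf_centralizer_le {O : Subgroup G} (hodd : Odd (Nat.card O))
    (hn : (S : Subgroup G) ≤ normalizer (O : Set G)) {x : G} (hx : x ∈ (S : Subgroup G)) (hxZ : x ∉ Z) :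
    O ⊓ centralizer ({x} : Set G) ≤ centralizer ((S : Subgroup G) : Set G) := by
  intro o ho
  have hoN := h.mem_normalizer_of_comm hx hxZ (mem_centralizer_singleton_iff.1 ho.2)
  refine mem_centralizer_iff.2 fun s hs => ?_
  have h1 : o * s * o⁻¹ * s⁻¹ ∈ (S : Subgroup G) := mul_mem (conj_mem_of_normalizer hoN hs) (inv_mem hs)
  have h2 : o * s * o⁻¹ * s⁻¹ ∈ O := by
    rw [show o * s * o⁻¹ * s⁻¹ = o * (s * o⁻¹ * s⁻¹) by group]
    exact mul_mem ho.1 (conj_mem_of_normalizer (hn hs) (inv_mem ho.1))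
  have : o * s * o⁻¹ * s⁻¹ = 1 := mem_bot.1 (h.inf_odd_eq_bot hodd ▸ ⟨h1, h2⟩)
  rw [mul_inv_eq_one, mul_inv_eq_iff_eq_mul] at this
  exact this.symm

/-- The minimal case: every element of `S` centralises `O` or has only the fixed points of `S`. -/
theorem cyclic_of_dichotomy {O : Subgroup G} (hodd : Odd (Nat.card O))
    (hn : (S : Subgroup G) ≤ normalizer (O : Set G)) (hne : ¬ O ≤ centralizer ((S : Subgroup G) : Set G))
    (hdi : ∀ s ∈ (S : Subgroup G), O ≤ centralizer ({s} : Set G) ∨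
      O ⊓ centralizer ({s} : Set G) ≤ centralizer ((S : Subgroup G) : Set G)) :
    ∃ c : G, ⁅(S : Subgroup G), (S : Subgroup G)⁆ = zpowers c ∧ c ≠ 1 := by
  haveI : Fact (Nat.Prime 2) := ⟨Nat.prime_two⟩
  set K := (S : Subgroup G) ⊓ centralizer (O : Set G) with hK
  have hKmem : ∀ k ∈ K, k ∈ (S : Subgroup G) ∧ O ≤ centralizer ({k} : Set G) := fun k hk =>
    ⟨hk.1, fun o ho => mem_centralizer_singleton_iff.2 (mem_centralizer_iff.1 hk.2 o ho)⟩
  have hKiff : ∀ k, O ≤ centralizer ({k} : Set G) → k ∈ centralizer (O : Set G) := fun k hk =>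
    mem_centralizer_iff.2 fun o ho => mem_centralizer_singleton_iff.1 (hk ho)
  have hKZ : K ≤ Z := fun k hk => by
    by_contra hkZ
    exact hne fun o ho => h.inf_centralizer_le hodd hn hk.1 hkZ ⟨ho, (hKmem k hk).2 ho⟩
  set H := (S : Subgroup G) ⊔ O with hH
  have hSH : (S : Subgroup G) ≤ H := le_sup_left
  have hOH : O ≤ H := le_sup_right
  have hKc : K.subgroupOf H ≤ center H := fun k hk => by
    rw [mem_subgroupOf] at hk
    rw [mem_center_iff]
    intro g
    have : H ≤ centralizer ({(k : G)} : Set G) := sup_le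
      (fun s hs => mem_centralizer_singleton_iff.2 (h.central _ (hKZ hk) s hs).symm) (hKmem _ hk).2
    exact Subtype.ext (mem_centralizer_singleton_iff.1 (this g.2))
  set P := (S : Subgroup G) with hPdef
  set N := K.subgroupOf P with hN
  have hNc : N ≤ center P := fun k hk => by
    rw [mem_center_iff]
    exact fun g => Subtype.ext (h.central _ (hKZ (mem_subgroupOf.1 hk)) g g.2).symm
  haveI : N.Normal := ⟨fun n hn g => by
    rw [mem_center_iff.1 (hNc hn) g, mul_inv_cancel_right]; exact hn⟩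
  have hP : IsPGroup 2 P := S.isPGroup'
  have hQP : IsPGroup 2 (P ⧸ N) := hP.to_quotient N
  obtain ⟨s₀, hs₀, hs₀Z⟩ := h.exists_not_mem
  haveI : Nontrivial (P ⧸ N) := ⟨⟨(⟨s₀, hs₀⟩ : P), 1, fun e => hs₀Z (hKZ
    (mem_subgroupOf.1 ((QuotientGroup.eq_one_iff _).1 e)))⟩⟩
  obtain ⟨z, hzc, hz⟩ : ∃ z : P ⧸ N, z ∈ center (P ⧸ N) ∧ orderOf z = 2 := by
    haveI := hQP.center_nontrivial
    obtain ⟨z, hz⟩ := exists_prime_orderOf_dvd_card' (G := center (P ⧸ N)) 2 (by
      obtain ⟨k, hk⟩ := IsPGroup.iff_card.1 (hQP.to_subgroup (center (P ⧸ N)))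
      rw [hk]
      refine dvd_pow_self 2 fun e => ?_
      rw [e, pow_zero] at hk
      exact (Finite.one_lt_card (α := center (P ⧸ N))).ne' hk)
    exact ⟨z, z.2, by rw [← hz, Subgroup.orderOf_coe]⟩
  have hu : ∃! x : P ⧸ N, orderOf x = 2 := by
    refine ⟨z, hz, fun x hx => ?_⟩
    by_contra hxz
    -- the four-group generated by `x` and `z` acts on `O` with few fixed points
    haveI : (K.subgroupOf H).Normal := ⟨fun n hn g => by
      rw [mem_center_iff.1 (hKc hn) g, mul_inv_cancel_right]; exact hn⟩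
    set f := QuotientGroup.mk' (K.subgroupOf H) with hf
    let j : P ⧸ N →* H ⧸ K.subgroupOf H := QuotientGroup.map N (K.subgroupOf H) (inclusion hSH)
      fun k hk => mem_subgroupOf.2 (mem_subgroupOf.1 hk : ((k : G) ∈ K))
    have hjinj : Function.Injective j := by
      rw [← MonoidHom.ker_eq_bot_iff, eq_bot_iff]
      intro q hq
      obtain ⟨s, rfl⟩ := QuotientGroup.mk_surjective q
      rw [mem_bot, QuotientGroup.eq_one_iff]
      have hq' : (inclusion hSH s : H) ∈ K.subgroupOf H := (QuotientGroup.eq_one_iff _).1 hq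
      exact mem_subgroupOf.2 (mem_subgroupOf.1 hq' : ((s : G) ∈ K))
    set E₀ := closure ({x, z} : Set (P ⧸ N)) with hE₀
    set E := E₀.map j with hE
    set O' := (O.subgroupOf H).map f with hO'
    haveI : IsMulCommutative E₀ := by
      refine isMulCommutative_closure fun a ha b hb => ?_
      rcases ha with rfl | rfl <;> rcases hb with rfl | rfl
      exacts [rfl, mem_center_iff.1 hzc _, (mem_center_iff.1 hzc _).symm, rfl]
    haveI : IsMulCommutative E := .of_setLike_mul_comm fun a ha b hb => by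
      obtain ⟨a, ha', rfl⟩ := ha
      obtain ⟨b, hb', rfl⟩ := hb
      rw [← map_mul, ← map_mul]
      exact congrArg j (congrArg Subtype.val (‹IsMulCommutative E₀›.is_comm.comm ⟨a, ha'⟩ ⟨b, hb'⟩))
    have hxE : j x ∈ E := mem_map_of_mem j (subset_closure (Or.inl rfl))
    have hzE : j z ∈ E := mem_map_of_mem j (subset_closure (Or.inr rfl))
    have hnc : ¬ IsCyclic E := fun hc => hxz (hjinj (by
      have h2 := fun {w : P ⧸ N} (hw : orderOf w = 2) (hwE : j w ∈ E) =>
        (by rw [← Subgroup.orderOf_coe, orderOf_injective j hjinj, hw] : orderOf (⟨j w, hwE⟩ : E) = 2)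
      haveI := Fintype.ofFinite E
      have e := IsCyclic.card_orderOf_eq_totient (α := E) (d := 2)
        (by have := orderOf_dvd_card (x := (⟨j z, hzE⟩ : E)); rwa [h2 hz hzE] at this)
      rw [Nat.totient_two, Finset.card_eq_one] at e
      obtain ⟨w, hw⟩ := e
      have a1 : (⟨j x, hxE⟩ : E) = w :=
        Finset.mem_singleton.mp (hw ▸ Finset.mem_filter.mpr ⟨Finset.mem_univ _, h2 hx hxE⟩)
      have a2 : (⟨j z, hzE⟩ : E) = w :=
        Finset.mem_singleton.mp (hw ▸ Finset.mem_filter.mpr ⟨Finset.mem_univ _, h2 hz hzE⟩)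
      exact congrArg Subtype.val (a1.trans a2.symm)))
    have hEmem : ∀ e ∈ E, ∃ s : P, j (s : P ⧸ N) = e := by
      rintro e ⟨q, -, rfl⟩
      obtain ⟨s, rfl⟩ := QuotientGroup.mk_surjective q
      exact ⟨s, rfl⟩
    have hnorm : E ≤ normalizer (O' : Set (H ⧸ K.subgroupOf H)) := by
      intro e he
      obtain ⟨s, rfl⟩ := hEmem e he
      refine (Subgroup.le_normalizer_map f) (mem_map_of_mem f ?_)
      rw [mem_normalizer_iff]
      intro o
      simp only [mem_subgroupOf]
      exact mem_normalizer_iff.1 (hn s.2) o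
    have hOcard : Odd (Nat.card (O.subgroupOf H)) := by
      rwa [Nat.card_congr (subgroupOfEquivOfLe hOH).toEquiv]
    have hcop : (Nat.card E).Coprime (Nat.card O') := by
      obtain ⟨k, hk⟩ := IsPGroup.iff_card.1 ((hQP.to_subgroup E₀).map j)
      rw [hk]
      exact Nat.Coprime.pow_left k (Nat.coprime_two_left.2
        (hOcard.of_dvd_nat (card_map_dvd _ _)))
    have hfix : O' ≤ ((O ⊓ centralizer (P : Set G)).subgroupOf H).map f := by
      rw [← CoprimeAct.generated_by_centralizers hnc hnorm hcop]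
      refine iSup₂_le fun e he => ?_
      obtain ⟨heE, he1⟩ := he
      obtain ⟨s, rfl⟩ := hEmem e heE
      rintro _ ⟨⟨o, ho, rfl⟩, hcomm⟩
      have hcomm' := mem_centralizer_singleton_iff.1 hcomm
      rw [show j (s : P ⧸ N) = f (inclusion hSH s) from rfl, ← map_mul, ← map_mul, hf,
        QuotientGroup.mk'_apply, QuotientGroup.mk'_apply, QuotientGroup.eq, mem_subgroupOf] at hcomm'
      rw [SetLike.mem_coe, mem_subgroupOf] at ho
      have h1 : ((o : G) * s)⁻¹ * ((s : G) * o) ∈ K := hcomm'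
      have h2 : ((o : G) * s)⁻¹ * ((s : G) * o) ∈ O := by
        rw [show ((o : G) * s)⁻¹ * ((s : G) * o) = ((s : G)⁻¹ * (o : G)⁻¹ * (s : G)⁻¹⁻¹) * o by group]
        exact mul_mem (conj_mem_of_normalizer (hn (inv_mem s.2)) (inv_mem ho)) ho
      have h3 : ((o : G) * s)⁻¹ * ((s : G) * o) = 1 :=
        mem_bot.1 (h.inf_odd_eq_bot hodd ▸ ⟨(hKmem _ h1).1, h2⟩)
      rw [inv_mul_eq_one] at h3
      refine mem_map_of_mem f (mem_subgroupOf.2 ⟨ho, ?_⟩)
      rcases hdi s s.2 with hs | hs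
      · exact absurd ((congrArg j ((QuotientGroup.eq_one_iff s).2
          (mem_subgroupOf.2 ⟨s.2, hKiff _ hs⟩))).trans j.map_one) he1
      · exact hs ⟨ho, mem_centralizer_singleton_iff.2 h3⟩
    refine hne fun o ho => ?_
    obtain ⟨w, hw, hwe⟩ := hfix (mem_map_of_mem f (mem_subgroupOf.2 ho : (⟨o, hOH ho⟩ : H) ∈ O.subgroupOf H))
    rw [SetLike.mem_coe, mem_subgroupOf] at hw
    rw [hf, QuotientGroup.mk'_apply, QuotientGroup.mk'_apply, QuotientGroup.eq, mem_subgroupOf] at hwe
    have h1 : (w : G)⁻¹ * o ∈ K := hwe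
    have : (w : G)⁻¹ * o = 1 :=
      mem_bot.1 (h.inf_odd_eq_bot hodd ▸ ⟨(hKmem _ h1).1, (O.mul_mem (O.inv_mem hw.1) ho)⟩)
    rw [inv_mul_eq_one] at this
    exact this ▸ hw.2
  rcases cyclic_or_derived_cyclic hP N hNc hu with ⟨a, ha⟩ | ⟨c, hc, hc1⟩
  · exfalso
    obtain ⟨s, hs, hsn⟩ := h.noncyc a a.2
    refine hsn ?_
    have hm : (⟨s, hs⟩ : P) ∈ zpowers a ⊔ N := ha ▸ mem_top _
    have hle : zpowers a ⊔ N ≤ (zpowers (a : G) ⊔ Z).comap P.subtype :=
      sup_le (zpowers_le.2 (mem_sup_left (mem_zpowers _)))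
        (fun n hn => mem_sup_right (hKZ (mem_subgroupOf.1 hn)))
    exact hle hm
  · refine ⟨c, ?_, fun e => hc1 (Subtype.ext e)⟩
    rw [← map_subtype_commutator, hc, MonoidHom.map_zpowers]
    rfl

/-- `S` centralises an invariant odd subgroup, or its commutator subgroup is cyclic and not trivial. -/
theorem centralizes_or_cyclic (O : Subgroup G) (hodd : Odd (Nat.card O))
    (hn : (S : Subgroup G) ≤ normalizer (O : Set G)) :
    O ≤ centralizer ((S : Subgroup G) : Set G) ∨
      ∃ c : G, ⁅(S : Subgroup G), (S : Subgroup G)⁆ = zpowers c ∧ c ≠ 1 := by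
  induction O using WellFoundedLT.induction with
  | _ O ih =>
  by_cases hne : O ≤ centralizer ((S : Subgroup G) : Set G)
  · exact Or.inl hne
  by_cases hdi : ∀ s ∈ (S : Subgroup G), O ≤ centralizer ({s} : Set G) ∨
      O ⊓ centralizer ({s} : Set G) ≤ centralizer ((S : Subgroup G) : Set G)
  · exact Or.inr (h.cyclic_of_dichotomy hodd hn hne hdi)
  push Not at hdi
  obtain ⟨s, hs, h1, h2⟩ := hdi
  have hsZ : s ∈ Z := by_contra fun e => h2 (h.inf_centralizer_le hodd hn hs e)
  refine Or.inr ((ih (O ⊓ centralizer ({s} : Set G)) ?_ (hodd.of_dvd_nat (card_dvd_of_le inf_le_left))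
    fun g hg => ?_).resolve_left h2)
  · exact lt_of_le_of_ne inf_le_left fun e => h1 (inf_eq_left.1 e)
  · rw [mem_normalizer_iff]
    intro o
    have hgs : g * s = s * g := (h.central s hsZ g hg).symm
    simp only [mem_inf, mem_centralizer_singleton_iff]
    refine and_congr (mem_normalizer_iff.1 (hn hg) o) ⟨fun e => ?_, fun e => ?_⟩
    · calc g * o * g⁻¹ * s = g * o * (g⁻¹ * (s * g)) * g⁻¹ := by group
        _ = g * (o * s) * g⁻¹ := by rw [← hgs, inv_mul_cancel_left]; group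
        _ = g * s * o * g⁻¹ := by rw [e]; group
        _ = s * (g * o * g⁻¹) := by rw [hgs]; group
    · calc o * s = g⁻¹ * (g * o * g⁻¹) * (g * s) := by group
        _ = g⁻¹ * ((g * o * g⁻¹) * s) * g := by rw [hgs]; group
        _ = g⁻¹ * (s * g) * o := by rw [e]; group
        _ = s * o := by rw [← hgs]; group

/-- A cyclic commutator subgroup gives an involution of `S` fixed by `N(S)`. -/
theorem exists_fixed_of_cyclic {c : G} (hc : ⁅(S : Subgroup G), (S : Subgroup G)⁆ = zpowers c) (hc1 : c ≠ 1) :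
    ∃ d ∈ ⁅(S : Subgroup G), (S : Subgroup G)⁆, d ∈ (S : Subgroup G) ∧ orderOf d = 2 ∧
      ∀ n ∈ normalizer ((S : Subgroup G) : Set G), n * d * n⁻¹ = d := by
  haveI : Fact (Nat.Prime 2) := ⟨Nat.prime_two⟩
  have hDS : ⁅(S : Subgroup G), (S : Subgroup G)⁆ ≤ (S : Subgroup G) := commutator_le_self _
  obtain ⟨k, hk⟩ := IsPGroup.iff_card.1 (S.isPGroup'.to_le hDS)
  have h2 : 2 ∣ Nat.card ↥⁅(S : Subgroup G), (S : Subgroup G)⁆ := by
    rw [hk]
    refine dvd_pow_self 2 fun e => hc1 ?_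
    rw [e, pow_zero, hc, Nat.card_zpowers, orderOf_eq_one_iff] at hk
    exact hk
  obtain ⟨d, hd⟩ := exists_prime_orderOf_dvd_card' 2 h2
  rw [← Subgroup.orderOf_coe] at hd
  refine ⟨d, d.2, hDS d.2, hd, fun n hn => ?_⟩
  have huniq : ∀ e ∈ zpowers c, orderOf e = 2 → e = d := by
    intro e he he2
    have hd' : (d : G) ∈ zpowers c := hc.le d.2
    have := Invol.eq_half (a := c) he2 he
    exact this.2.trans (Invol.eq_half (a := c) hd hd').2.symm
  refine huniq _ (hc.le ?_) ((Invol.order_conj n _).trans hd)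
  have hmap : (⁅(S : Subgroup G), (S : Subgroup G)⁆).map (MulAut.conj n).toMonoidHom =
      ⁅(S : Subgroup G), (S : Subgroup G)⁆ := by
    rw [map_commutator]
    have : (S : Subgroup G).map (MulAut.conj n).toMonoidHom = (S : Subgroup G) := by
      ext y
      rw [mem_map]
      refine ⟨fun ⟨x, hx, e⟩ => e ▸ conj_mem_of_normalizer hn hx, fun hy => ?_⟩
      refine ⟨n⁻¹ * y * n⁻¹⁻¹, conj_mem_of_normalizer (inv_mem hn) hy, ?_⟩
      show n * (n⁻¹ * y * n⁻¹⁻¹) * n⁻¹ = y
      group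
    rw [this]
  exact hmap.le ⟨d, d.2, rfl⟩

end Cfsg.Agent.CentralInter.Hyp
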